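import Cfsg.Agent.Lib.helper81.Kernel
import Cfsg.Agent.Lib.helper82.CharQuot
import Cfsg.Agent.Lib.helper80.PSolv
import Cfsg.Agent.Lib.helper38.HallHigman2
import Cfsg.Agent.S0915

/-!
# The principal block and quotients (helper81)

* `centralChar_inflation` : the central character of an inflated function.
* `sameBlock_inflation` : inflation preserves the same-block relation.
* `mem_principalBlock_iff_of_isPSolvable` : for a `p`-solvable group the principal block consists
  of the irreducible characters with `O_{p'}(G)` in their kernel (Fong).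
-/

set_option autoImplicit false

namespace Cfsg.Agent.Lib.helper81

open Cfsg Cfsg.Agent.Lib.helper20
open scoped ComplexConjugate

universe u

section

variable {G : Type u} [Group G] [Finite G]

/-- The index of the centralizer of the image divides the index of the centralizer. -/
theorem index_centralizer_quotient_dvd (N : Subgroup G) [N.Normal] (g : G) :
    (Subgroup.centralizer ({(g : G ⧸ N)} : Set (G ⧸ N))).index
      ∣ (Subgroup.centralizer ({g} : Set G)).index := by
  have hle : (Subgroup.centralizer ({g} : Set G)).map (QuotientGroup.mk' N)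
      ≤ Subgroup.centralizer ({(g : G ⧸ N)} : Set (G ⧸ N)) := by
    rintro _ ⟨x, hx, rfl⟩
    rw [SetLike.mem_coe, Subgroup.mem_centralizer_iff] at hx
    rw [Subgroup.mem_centralizer_iff]
    intro y hy
    rw [Set.mem_singleton_iff] at hy
    subst hy
    have := hx g (Set.mem_singleton g)
    show (g : G ⧸ N) * (x : G ⧸ N) = (x : G ⧸ N) * (g : G ⧸ N)
    rw [← QuotientGroup.mk_mul, ← QuotientGroup.mk_mul, this]
  exact (Subgroup.index_dvd_of_le hle).trans
    (Subgroup.index_map_dvd _ (QuotientGroup.mk'_surjective _))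

/-- Inflation preserves the same-block relation. -/
theorem sameBlock_inflation {M : Ideal AlgInt} (hM : M.IsPrime) (N : Subgroup G) [N.Normal]
    {ψ₁ ψ₂ : G ⧸ N → ℂ} (h : SameBlock M ψ₁ ψ₂) :
    SameBlock M (fun g : G => ψ₁ (g : G ⧸ N)) (fun g : G => ψ₂ (g : G ⧸ N)) := by
  intro g
  obtain ⟨r, hr⟩ := index_centralizer_quotient_dvd N g
  have h1 := h (g : G ⧸ N)
  have h2 := memLocalIdeal_mul_left hM (memLocalRing_natCast hM r) h1
  unfold centralChar at h1 h2 ⊢
  have h1' : ((1 : G) : G ⧸ N) = 1 := rfl
  convert h2 using 1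
  simp only [hr, h1']
  push_cast
  ring

/-- **Fong**: in a `p`-solvable group the principal block consists of the irreducible characters
whose kernel contains `O_{p'}(G)`. -/
theorem mem_principalBlock_iff_of_isPSolvable {p : ℕ} [Fact p.Prime] {M : Ideal AlgInt}
    (hM : IsPModular p M) (hsolv : IsPSolvable p G) (χ : IrrCharacter G) :
    χ ∈ principalBlock M G ↔ ∀ n ∈ pPrimeCore p G, (χ : G → ℂ) n = (χ : G → ℂ) 1 := by
  have hMp := isPrime_of_isPModular hM
  have hNn : (Cfsg.pPrimeCore p G).Normal := Cfsg.Agent.Lib.helper40.pPrimeCore_normal' p G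
  constructor
  · intro hχ
    exact pPrimeCore_le_ker_of_mem_principalBlock hM hχ
  · intro hχ
    obtain ⟨ψ, hψirr, hψ⟩ :=
      Cfsg.Agent.Lib.helper82.isIrrCharacter_deflation (Cfsg.pPrimeCore p G) χ.2 hχ
    have hsolvQ := Cfsg.Agent.Lib.helper80.isPSolvable_quotient p (Cfsg.pPrimeCore p G) hsolv
    have hcoreQ := Cfsg.Agent.Lib.helper38.pPrimeCore_quotient_pPrimeCore p G
    have h1 := Cfsg.Agent.S0915.result p M hM hsolvQ hcoreQ
      (trivChar (G ⧸ Cfsg.pPrimeCore p G)) ⟨ψ, hψirr⟩
    have h2 := sameBlock_inflation hMp (Cfsg.pPrimeCore p G) h1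
    show SameBlock M (fun _ : G => (1 : ℂ)) (χ : G → ℂ)
    have h3 : (fun g : G => ψ (g : G ⧸ Cfsg.pPrimeCore p G)) = (χ : G → ℂ) := funext hψ
    rw [← h3]
    exact h2

end

end Cfsg.Agent.Lib.helper81
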