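import Mathlib

/-! S4471 split project (architect helper68), piece F1: for a Hermitian idempotent `E`,
`‖EX - XE‖_F ≤ ‖X‖_F` (Frobenius norm, written with traces). -/

set_option autoImplicit false

namespace Cfsg.Agent.Lib.helper68.BL

open scoped ComplexConjugate Matrix

/-- Pythagoras for the trace form. -/
theorem helper81_pyth {n : ℕ} (P Q : Matrix (Fin n) (Fin n) ℂ) (h : (Pᴴ * Q).trace = 0) :
    (((P + Q)ᴴ * (P + Q)).trace).re = ((Pᴴ * P).trace).re + ((Qᴴ * Q).trace).re := by
  have h2 : (Qᴴ * P).trace = 0 := by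
    have e : Qᴴ * P = (Pᴴ * Q)ᴴ := by
      rw [Matrix.conjTranspose_mul, Matrix.conjTranspose_conjTranspose]
    rw [e, Matrix.trace_conjTranspose, h, star_zero]
  have e : (P + Q)ᴴ * (P + Q) = Pᴴ * P + Pᴴ * Q + Qᴴ * P + Qᴴ * Q := by
    rw [Matrix.conjTranspose_add]; noncomm_ring
  rw [e, Matrix.trace_add, Matrix.trace_add, Matrix.trace_add, h, h2]
  simp

theorem helper81_nu_nonneg {n : ℕ} (Y : Matrix (Fin n) (Fin n) ℂ) :
    0 ≤ ((Yᴴ * Y).trace).re := by
  have h : (Yᴴ * Y).trace = ∑ i, ∑ j, ((Complex.normSq (Y j i) : ℝ) : ℂ) := by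
    rw [Matrix.trace]
    refine Finset.sum_congr rfl fun i _ => ?_
    rw [Matrix.diag_apply, Matrix.mul_apply]
    refine Finset.sum_congr rfl fun j _ => ?_
    rw [Matrix.conjTranspose_apply, Complex.star_def, Complex.normSq_eq_conj_mul_self]
  rw [h]
  simp only [Complex.re_sum, Complex.ofReal_re]
  exact Finset.sum_nonneg fun i _ => Finset.sum_nonneg fun j _ => Complex.normSq_nonneg _

/-- F1 : for a Hermitian idempotent `E`, `‖EX - XE‖_F ≤ ‖X‖_F`. -/
theorem herm_idem_comm_le {n : ℕ} (E X : Matrix (Fin n) (Fin n) ℂ) (hE : E * E = E) (hEh : Eᴴ = E) :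
    (((E * X - X * E)ᴴ * (E * X - X * E)).trace).re ≤ ((Xᴴ * X).trace).re := by
  set F : Matrix (Fin n) (Fin n) ℂ := 1 - E with hF
  have hFh : Fᴴ = F := by
    rw [hF, Matrix.conjTranspose_sub, Matrix.conjTranspose_one, hEh]
  have hEF : E * F = 0 := by rw [hF, mul_sub, mul_one, hE, sub_self]
  have hFE : F * E = 0 := by rw [hF, sub_mul, one_mul, hE, sub_self]
  have hFF : F * F = F := by
    rw [hF]; simp only [mul_sub, sub_mul, mul_one, one_mul, hE]; abel
  have hsum : E + F = 1 := by rw [hF]; abel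
  -- the four blocks
  have hX : X = E * X + F * X := by rw [← add_mul, hsum, one_mul]
  have hEX : E * X = E * X * E + E * X * F := by rw [← mul_add, hsum, mul_one]
  have hFX : F * X = F * X * E + F * X * F := by rw [← mul_add, hsum, mul_one]
  have hcomm : E * X - X * E = E * X * F + -(F * X * E) := by
    have h1 : X * E = E * X * E + F * X * E := by
      rw [← add_mul, ← add_mul, hsum, one_mul]
    rw [h1]
    nth_rewrite 1 [hEX]
    abel
  -- conjugate transposes of the blocks
  have cEXE : (E * X * E)ᴴ = E * Xᴴ * E := by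
    rw [Matrix.conjTranspose_mul, Matrix.conjTranspose_mul, hEh, mul_assoc]
  have cEXF : (E * X * F)ᴴ = F * Xᴴ * E := by
    rw [Matrix.conjTranspose_mul, Matrix.conjTranspose_mul, hEh, hFh, mul_assoc]
  have cFXE : (F * X * E)ᴴ = E * Xᴴ * F := by
    rw [Matrix.conjTranspose_mul, Matrix.conjTranspose_mul, hEh, hFh, mul_assoc]
  -- orthogonality relations
  have o1 : ((E * X)ᴴ * (F * X)).trace = 0 := by
    have e : (E * X)ᴴ * (F * X) = Xᴴ * (E * F) * X := by
      rw [Matrix.conjTranspose_mul, hEh]; noncomm_ring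
    rw [e, hEF]; simp
  have o2 : ((E * X * E)ᴴ * (E * X * F)).trace = 0 := by
    have e : (E * X * E)ᴴ * (E * X * F) = (E * Xᴴ * E * X) * F := by
      rw [cEXE]
      have : E * Xᴴ * E * (E * X * F) = E * Xᴴ * (E * E) * X * F := by noncomm_ring
      rw [this, hE]
    rw [e, Matrix.trace_mul_comm]
    have e2 : F * (E * Xᴴ * E * X) = (F * E) * Xᴴ * E * X := by noncomm_ring
    rw [e2, hFE]; simp
  have o3 : ((F * X * E)ᴴ * (F * X * F)).trace = 0 := by
    have e : (F * X * E)ᴴ * (F * X * F) = (E * Xᴴ * F * X) * F := by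
      rw [cFXE]
      have : E * Xᴴ * F * (F * X * F) = E * Xᴴ * (F * F) * X * F := by noncomm_ring
      rw [this, hFF]
    rw [e, Matrix.trace_mul_comm]
    have e2 : F * (E * Xᴴ * F * X) = (F * E) * Xᴴ * F * X := by noncomm_ring
    rw [e2, hFE]; simp
  have o4 : ((E * X * F)ᴴ * (-(F * X * E))).trace = 0 := by
    have e : (E * X * F)ᴴ * (-(F * X * E)) = -(F * Xᴴ * (E * F) * X * E) := by
      rw [cEXF]; noncomm_ring
    rw [e, hEF]; simp
  -- assemble
  have p1 := helper81_pyth (E * X) (F * X) o1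
  rw [← hX] at p1
  have p2 := helper81_pyth (E * X * E) (E * X * F) o2
  rw [← hEX] at p2
  have p3 := helper81_pyth (F * X * E) (F * X * F) o3
  rw [← hFX] at p3
  have p4 := helper81_pyth (E * X * F) (-(F * X * E)) o4
  rw [← hcomm] at p4
  have hneg : ((-(F * X * E))ᴴ * (-(F * X * E))).trace = ((F * X * E)ᴴ * (F * X * E)).trace := by
    rw [Matrix.conjTranspose_neg, neg_mul_neg]
  rw [hneg] at p4
  have n1 := helper81_nu_nonneg (E * X * E)
  have n2 := helper81_nu_nonneg (F * X * F)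
  rw [p4, p1, p2, p3]
  linarith

end Cfsg.Agent.Lib.helper68.BL
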