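import Mathlib

/-! S4471 split project (architect helper68), piece F3: orthogonal vectors `a ⟂ b` of equal length
with `b - a = c • E a`, `|c| < 1`, `E` a Hermitian idempotent: then `a = 0`. -/

set_option autoImplicit false

namespace Cfsg.Agent.Lib.helper68.BL

open scoped ComplexConjugate Matrix

theorem helper81_re_star_dot {n : ℕ} (v : Fin n → ℂ) :
    (star v ⬝ᵥ v).re = ∑ i, Complex.normSq (v i) := by
  have h : star v ⬝ᵥ v = ∑ i, ((Complex.normSq (v i) : ℝ) : ℂ) := by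
    rw [dotProduct]
    refine Finset.sum_congr rfl fun i _ => ?_
    rw [Pi.star_apply, Complex.star_def, Complex.normSq_eq_conj_mul_self]
  rw [h]
  simp only [Complex.re_sum, Complex.ofReal_re]

theorem helper81_re_star_dot_nonneg {n : ℕ} (v : Fin n → ℂ) : 0 ≤ (star v ⬝ᵥ v).re := by
  rw [helper81_re_star_dot]
  exact Finset.sum_nonneg fun i _ => Complex.normSq_nonneg _

theorem helper81_eq_zero_of_re_star_dot {n : ℕ} (v : Fin n → ℂ) (h : (star v ⬝ᵥ v).re ≤ 0) :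
    v = 0 := by
  rw [helper81_re_star_dot] at h
  have h0 : ∑ i, Complex.normSq (v i) = 0 :=
    le_antisymm h (Finset.sum_nonneg fun i _ => Complex.normSq_nonneg _)
  funext i
  have := (Finset.sum_eq_zero_iff_of_nonneg (fun i _ => Complex.normSq_nonneg (v i))).1 h0 i
    (Finset.mem_univ i)
  exact Complex.normSq_eq_zero.1 this

theorem helper81_star_dot_swap {n : ℕ} (a b : Fin n → ℂ) :
    star b ⬝ᵥ a = conj (star a ⬝ᵥ b) := by
  simp only [dotProduct, map_sum, map_mul, Pi.star_apply, Complex.star_def, Complex.conj_conj]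
  refine Finset.sum_congr rfl fun i _ => ?_
  ring

/-- F3 : orthogonal vectors `a ⟂ b` of equal length with `b - a = c • E a`, `|c| < 1`, `E` a Hermitian
idempotent: then `a = 0`. -/
theorem orth_vec_zero {n : ℕ} (E : Matrix (Fin n) (Fin n) ℂ) (hE : E * E = E) (hEh : Eᴴ = E)
    (a b : Fin n → ℂ) (horth : star a ⬝ᵥ b = 0) (hnorm : star b ⬝ᵥ b = star a ⬝ᵥ a) (c : ℂ)
    (hc : ‖c‖ < 1) (h : b - a = c • (E *ᵥ a)) : a = 0 := by
  have horth' : star b ⬝ᵥ a = 0 := by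
    rw [helper81_star_dot_swap, horth, map_zero]
  -- `⟨Ea, Ea⟩ = ⟨a, Ea⟩` and `⟨Ea, a⟩ = ⟨a, Ea⟩`
  have hEa1 : star (E *ᵥ a) ⬝ᵥ (E *ᵥ a) = star a ⬝ᵥ (E *ᵥ a) := by
    rw [Matrix.star_mulVec, ← Matrix.dotProduct_mulVec, Matrix.mulVec_mulVec, hEh, hE]
  have hEa2 : star (E *ᵥ a) ⬝ᵥ a = star a ⬝ᵥ (E *ᵥ a) := by
    rw [Matrix.star_mulVec, ← Matrix.dotProduct_mulVec, hEh]
  -- `|b - a|^2 = 2 |a|^2`
  have h1 : star (b - a) ⬝ᵥ (b - a) = 2 * (star a ⬝ᵥ a) := by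
    rw [star_sub, sub_dotProduct, dotProduct_sub, dotProduct_sub, hnorm, horth, horth']
    ring
  -- `|b - a|^2 = |c|^2 ⟨a, Ea⟩`
  have h2 : star (b - a) ⬝ᵥ (b - a) = (conj c * c) * (star a ⬝ᵥ (E *ᵥ a)) := by
    rw [h, star_smul, smul_dotProduct, dotProduct_smul, hEa1, smul_eq_mul, smul_eq_mul,
      Complex.star_def]
    ring
  -- `⟨a - Ea, a - Ea⟩ = ⟨a, a⟩ - ⟨a, Ea⟩`
  have h3 : star (a - E *ᵥ a) ⬝ᵥ (a - E *ᵥ a) = star a ⬝ᵥ a - star a ⬝ᵥ (E *ᵥ a) := by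
    rw [star_sub, sub_dotProduct, dotProduct_sub, dotProduct_sub, hEa1, hEa2]
    ring
  have h4 := helper81_re_star_dot_nonneg (a - E *ᵥ a)
  rw [h3, Complex.sub_re] at h4
  have h5 : (star a ⬝ᵥ (E *ᵥ a)).re = (star (E *ᵥ a) ⬝ᵥ (E *ᵥ a)).re := by rw [hEa1]
  have h6 : 0 ≤ (star a ⬝ᵥ (E *ᵥ a)).re := by
    rw [h5]; exact helper81_re_star_dot_nonneg _
  have h7 : (star a ⬝ᵥ (E *ᵥ a)).im = 0 := by
    have : star a ⬝ᵥ (E *ᵥ a) = ((∑ i, Complex.normSq ((E *ᵥ a) i) : ℝ) : ℂ) := by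
      rw [← hEa1]
      have h : star (E *ᵥ a) ⬝ᵥ (E *ᵥ a)
          = ∑ i, ((Complex.normSq ((E *ᵥ a) i) : ℝ) : ℂ) := by
        rw [dotProduct]
        refine Finset.sum_congr rfl fun i _ => ?_
        rw [Pi.star_apply, Complex.star_def, Complex.normSq_eq_conj_mul_self]
      rw [h, Complex.ofReal_sum]
    rw [this, Complex.ofReal_im]
  have hcc : conj c * c = ((‖c‖ ^ 2 : ℝ) : ℂ) := by
    rw [Complex.conj_mul']
    norm_cast
  have h8 : 2 * (star a ⬝ᵥ a).re = ‖c‖ ^ 2 * (star a ⬝ᵥ (E *ᵥ a)).re := by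
    have e := congrArg Complex.re (h1.symm.trans h2)
    rw [hcc, Complex.re_ofReal_mul] at e
    have e2 : (2 * (star a ⬝ᵥ a)).re = 2 * (star a ⬝ᵥ a).re := by simp
    rw [e2] at e
    exact e
  have hc2 : ‖c‖ ^ 2 < 1 := by
    have h0 : 0 ≤ ‖c‖ := norm_nonneg c
    nlinarith
  have h9 : 0 ≤ (star a ⬝ᵥ a).re := helper81_re_star_dot_nonneg a
  apply helper81_eq_zero_of_re_star_dot
  have h10 : ‖c‖ ^ 2 * (star a ⬝ᵥ (E *ᵥ a)).re ≤ (star a ⬝ᵥ a).re := by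
    have h0 : 0 ≤ ‖c‖ ^ 2 := sq_nonneg _
    nlinarith
  linarith

end Cfsg.Agent.Lib.helper68.BL
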