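import Mathlib
import Cfsg.Prelude.Def_Characters
import Cfsg.Agent.Lib.helper82.CharQuot
import Cfsg.Agent.Lib.helper19.CycNorm
import Cfsg.Agent.Lib.helper4.CharTheory

/-!
# Linear characters of a finite commutative group (helper81)

* `blIrr`, `blDualEquiv`: homomorphisms `H →* ℂˣ` are the irreducible characters of a commutative
  group `H`.
* `bl_card_hom`: there are `|H|` of them.
* `bl_sum_mul_conj`: first orthogonality relation.
* `bl_expand`: Fourier expansion of a function on `H`.
* `bl_sum_hom`: `∑_ψ ψ(y) = 0` for `y ≠ 1`.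
-/

set_option autoImplicit false

namespace Cfsg.Agent.Lib.helper81

open Cfsg
open scoped ComplexConjugate

universe u

section

variable {H : Type u} [Group H]

/-- A linear character as an irreducible character. -/
noncomputable def blIrr (ψ : H →* ℂˣ) : IrrCharacter H :=
  ⟨fun g => (ψ g : ℂ), Cfsg.Agent.Lib.helper82.isIrrCharacter_of_hom ψ⟩

theorem blIrr_apply (ψ : H →* ℂˣ) (g : H) : (blIrr ψ : H → ℂ) g = (ψ g : ℂ) := rfl

theorem blIrr_injective : Function.Injective (blIrr (H := H)) := by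
  intro ψ ψ' h
  apply MonoidHom.ext
  intro g
  apply Units.ext
  exact congrFun (congrArg Subtype.val h) g

theorem blIrr_surjective (hH : ∀ a b : H, a * b = b * a) :
    Function.Surjective (blIrr (H := H)) := by
  intro χ
  have h1 := Cfsg.Agent.Lib.helper82.irr_one_of_commutative hH χ.2
  obtain ⟨f, hf⟩ := Cfsg.Agent.Lib.helper82.exists_hom_of_linear
    (Cfsg.Agent.Lib.helper83.isCharacter_of_irr χ.2) h1
  exact ⟨f, Subtype.ext (funext fun g => (hf g).symm)⟩

/-- The linear characters of a commutative group are its irreducible characters. -/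
noncomputable def blDualEquiv (hH : ∀ a b : H, a * b = b * a) : (H →* ℂˣ) ≃ IrrCharacter H :=
  Equiv.ofBijective blIrr ⟨blIrr_injective, blIrr_surjective hH⟩

theorem bl_finite_hom [Finite H] : Finite (H →* ℂˣ) := by
  haveI : Finite (IrrCharacter H) := Cfsg.Agent.Lib.helper4.instFiniteIrrCharacter
  exact Finite.of_injective blIrr blIrr_injective

theorem bl_card_hom [Finite H] (hH : ∀ a b : H, a * b = b * a) :
    Nat.card (H →* ℂˣ) = Nat.card H := by
  rw [Nat.card_congr (blDualEquiv hH), Cfsg.Agent.Lib.helper82.card_irr_of_commutative hH]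

/-- First orthogonality relation for linear characters. -/
theorem bl_sum_mul_conj [Fintype H] (ψ ψ' : H →* ℂˣ) :
    ∑ y : H, (ψ y : ℂ) * conj (ψ' y : ℂ) = if ψ = ψ' then (Nat.card H : ℂ) else 0 := by
  have h1 : ∀ y : H, (ψ y : ℂ) * conj (ψ' y : ℂ) = (((ψ * ψ'⁻¹) y : ℂˣ) : ℂ) := by
    intro y
    rw [Cfsg.Agent.Lib.helper19.hom_conj_eq_inv, MonoidHom.mul_apply, Units.val_mul]
  simp_rw [h1]
  split_ifs with h
  · apply Cfsg.Agent.Lib.helper19.sum_hom_eq_card
    rw [h]
    exact mul_inv_cancel ψ'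
  · apply Cfsg.Agent.Lib.helper19.sum_hom_eq_zero
    intro h'
    exact h (mul_inv_eq_one.mp h')

/-- Fourier expansion of a function on a finite commutative group. -/
theorem bl_expand [Fintype H] (hH : ∀ a b : H, a * b = b * a) [Fintype (H →* ℂˣ)]
    (f : H → ℂ) (y : H) :
    f y = ∑ ψ : H →* ℂˣ, classInner f (fun g => (ψ g : ℂ)) * (ψ y : ℂ) := by
  classical
  have hcl : IsClassFunction H f := by
    intro g h
    rw [hH h g, mul_inv_cancel_right]
  haveI : Finite (IrrCharacter H) := Cfsg.Agent.Lib.helper4.instFiniteIrrCharacter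
  haveI : Fintype (IrrCharacter H) := Fintype.ofFinite _
  have h1 := congrFun (Cfsg.Agent.Lib.helper4.classFunction_eq_sum_irr hcl) y
  rw [Finset.sum_apply] at h1
  rw [h1, ← Equiv.sum_comp (blDualEquiv hH)]
  rfl

/-- `∑_ψ ψ(y) = 0` for `y ≠ 1`. -/
theorem bl_sum_hom [Fintype H] (hH : ∀ a b : H, a * b = b * a) [Fintype (H →* ℂˣ)]
    (y : H) (hy : y ≠ 1) : ∑ ψ : H →* ℂˣ, (ψ y : ℂ) = 0 := by
  classical
  have h := bl_expand hH (fun g => if g = 1 then (1 : ℂ) else 0) y
  rw [if_neg hy] at h
  have h2 : ∀ ψ : H →* ℂˣ,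
      classInner (fun g : H => if g = 1 then (1 : ℂ) else 0) (fun g => (ψ g : ℂ))
        = (Nat.card H : ℂ)⁻¹ := by
    intro ψ
    unfold classInner
    rw [Finset.sum_eq_single (1 : H)]
    · simp
    · intro g _ hg
      show (if g = 1 then (1 : ℂ) else 0) * _ = 0
      rw [if_neg hg, zero_mul]
    · intro h'
      exact absurd (Finset.mem_univ _) h'
  simp_rw [h2] at h
  rw [← Finset.mul_sum] at h
  have hH0 : (Nat.card H : ℂ)⁻¹ ≠ 0 := inv_ne_zero (by exact_mod_cast Nat.card_pos.ne')
  exact (mul_eq_zero.mp h.symm).resolve_left hH0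

end

end Cfsg.Agent.Lib.helper81
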