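import Mathlib
import Cfsg.Prelude.Def_Solvable
import Cfsg.Agent.Lib.helper40.Cores

/-!
# Group theory for abelian Sylow subgroups with Frobenius-like normalizer (helper81)

* `bl_pPrimeCore_index`: if `C_G(y) ∩ N_G(P) ≤ C_G(P)` for a Sylow subgroup `P ≤ C_G(y)`, then
  `C_G(y)` has a normal `p`-complement.
* `bl_fusion`: Burnside's fusion lemma for abelian Sylow subgroups.
* `blConj`, `blTw`, `blRel`: the action of `N_G(P)` on the linear characters of `P`.
* `bl_tw_fix`, `bl_card_tw_eq`, `bl_card_class`: stabilizers and orbits when the action is free.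
-/

set_option autoImplicit false

namespace Cfsg.Agent.Lib.helper81

open Cfsg

universe u

theorem bl_card_eq_mul_of_fiber {α β : Type*} [Finite α] [Finite β] (f : α → β) (n : ℕ)
    (h : ∀ b, Nat.card {a // f a = b} = n) : Nat.card α = n * Nat.card β := by
  classical
  have : Fintype α := Fintype.ofFinite α
  have : Fintype β := Fintype.ofFinite β
  rw [Nat.card_congr (Equiv.sigmaFiberEquiv f).symm, Nat.card_sigma]
  simp only [h, Finset.sum_const, Finset.card_univ, smul_eq_mul, Nat.card_eq_fintype_card]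
  rw [mul_comm]

section

variable {G : Type u} [Group G]

/-- If `C_G(y) ∩ N_G(P) ≤ C_G(P)` for a Sylow `p`-subgroup `P ≤ C_G(y)`, then `C_G(y)` has a
normal `p`-complement. -/
theorem bl_pPrimeCore_index [Finite G] {p : ℕ} [Fact p.Prime] (P : Sylow p G) (y : G)
    (hPy : (P : Subgroup G) ≤ Subgroup.centralizer ({y} : Set G))
    (hfrob : Subgroup.centralizer ({y} : Set G) ⊓ Subgroup.normalizer ((P : Subgroup G) : Set G)
      ≤ Subgroup.centralizer ((P : Subgroup G) : Set G)) :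
    ∃ k : ℕ, (pPrimeCore p (Subgroup.centralizer ({y} : Set G))).index = p ^ k := by
  have hp : p.Prime := Fact.out
  obtain ⟨Q, hQ⟩ : ∃ Q : Sylow p (Subgroup.centralizer ({y} : Set G)),
      (Q : Subgroup (Subgroup.centralizer ({y} : Set G)))
        = (P : Subgroup G).subgroupOf (Subgroup.centralizer ({y} : Set G)) :=
    ⟨P.subtype hPy, rfl⟩
  have hmemQ : ∀ h : Subgroup.centralizer ({y} : Set G),
      h ∈ (Q : Subgroup (Subgroup.centralizer ({y} : Set G))) ↔ (h : G) ∈ (P : Subgroup G) := by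
    intro h
    rw [hQ, Subgroup.mem_subgroupOf]
  have hNC : Subgroup.normalizer
        ((Q : Subgroup (Subgroup.centralizer ({y} : Set G))) :
          Set (Subgroup.centralizer ({y} : Set G)))
      ≤ Subgroup.centralizer
        ((Q : Subgroup (Subgroup.centralizer ({y} : Set G))) :
          Set (Subgroup.centralizer ({y} : Set G))) := by
    intro h hh
    have hN : (h : G) ∈ Subgroup.normalizer ((P : Subgroup G) : Set G) := by
      rw [Subgroup.mem_normalizer_iff]
      intro w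
      constructor
      · intro hw
        have h1 := (Subgroup.mem_normalizer_iff.mp hh ⟨w, hPy hw⟩).mp ((hmemQ _).mpr hw)
        exact (hmemQ _).mp h1
      · intro hw
        have hwH : w ∈ Subgroup.centralizer ({y} : Set G) := by
          have h1 : (h : G)⁻¹ * ((h : G) * w * (h : G)⁻¹) * (h : G)
              ∈ Subgroup.centralizer ({y} : Set G) :=
            Subgroup.mul_mem _ (Subgroup.mul_mem _ (Subgroup.inv_mem _ h.2) (hPy hw)) h.2
          have h2 : (h : G)⁻¹ * ((h : G) * w * (h : G)⁻¹) * (h : G) = w := by group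
          rwa [h2] at h1
        have h3 := (Subgroup.mem_normalizer_iff.mp hh ⟨w, hwH⟩).mpr ((hmemQ _).mpr hw)
        exact (hmemQ _).mp h3
    have hC := hfrob ⟨h.2, hN⟩
    rw [Subgroup.mem_centralizer_iff]
    intro q hq
    apply Subtype.ext
    rw [Subgroup.coe_mul, Subgroup.coe_mul]
    exact Subgroup.mem_centralizer_iff.mp hC (q : G) ((hmemQ q).mp hq)
  have hcomp := MonoidHom.ker_transferSylow_isComplement' Q hNC
  obtain ⟨K, hKdef⟩ : ∃ K : Subgroup (Subgroup.centralizer ({y} : Set G)),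
      K = (MonoidHom.transferSylow Q hNC).ker := ⟨_, rfl⟩
  rw [← hKdef] at hcomp
  have hKn : K.Normal := by rw [hKdef]; infer_instance
  have hcard := hcomp.card_mul_card
  have hQcard := Q.card_eq_multiplicity
  obtain ⟨ν, hν⟩ : ∃ ν : ℕ, ν = (Nat.card (Subgroup.centralizer ({y} : Set G))).factorization p :=
    ⟨_, rfl⟩
  rw [← hν] at hQcard
  have hcop : (Nat.card K).Coprime p := by
    rw [Nat.coprime_comm, Nat.Prime.coprime_iff_not_dvd hp]
    intro hdvd
    have h1 : p ^ (ν + 1) ∣ Nat.card (Subgroup.centralizer ({y} : Set G)) := by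
      rw [← hcard, hQcard, pow_succ, mul_comm]
      exact Nat.mul_dvd_mul hdvd (dvd_refl _)
    rw [hν] at h1
    exact Nat.pow_succ_factorization_not_dvd Nat.card_pos.ne' hp h1
  have hle := Cfsg.Agent.Lib.helper40.le_pPrimeCore K hKn hcop
  have hidx : (pPrimeCore p (Subgroup.centralizer ({y} : Set G))).index ∣ K.index :=
    Subgroup.index_dvd_of_le hle
  rw [hcomp.symm.index_eq_card, hQcard] at hidx
  obtain ⟨k, -, hk⟩ := (Nat.dvd_prime_pow hp).mp hidx
  exact ⟨k, hk⟩

/-- Burnside's fusion lemma: two elements of an abelian Sylow subgroup that are conjugate in `G`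
are conjugate in its normalizer. -/
theorem bl_fusion [Finite G] {p : ℕ} [Fact p.Prime] (P : Sylow p G) (hab : IsMulCommutative P)
    (u : G) (hu : u ∈ (P : Subgroup G)) (g : G) (hg : g * u * g⁻¹ ∈ (P : Subgroup G)) :
    ∃ n ∈ Subgroup.normalizer ((P : Subgroup G) : Set G), n * u * n⁻¹ = g * u * g⁻¹ := by
  have h := P.conj_eq_normalizer_conj_of_mem u g⁻¹ hu (by rwa [inv_inv])
  obtain ⟨n, hn, hn'⟩ := h
  refine ⟨n⁻¹, Subgroup.inv_mem _ hn, ?_⟩
  rw [inv_inv] at hn' ⊢
  exact hn'.symm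

/-- Conjugation by an element of the normalizer, as an endomorphism of `P`. -/
def blConj (P : Subgroup G) (n : G) (hn : n ∈ Subgroup.normalizer (P : Set G)) : P →* P where
  toFun w := ⟨n * (w : G) * n⁻¹, (Subgroup.mem_normalizer_iff.mp hn w).mp w.2⟩
  map_one' := by apply Subtype.ext; simp
  map_mul' a b := by apply Subtype.ext; simp [mul_assoc]

theorem blConj_coe (P : Subgroup G) (n : G) (hn : n ∈ Subgroup.normalizer (P : Set G)) (w : P) :
    ((blConj P n hn w : P) : G) = n * (w : G) * n⁻¹ := rfl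

/-- The twist of a linear character of `P` by an element of the normalizer. -/
def blTw (P : Subgroup G) (n : G) (hn : n ∈ Subgroup.normalizer (P : Set G)) (ψ : P →* ℂˣ) :
    P →* ℂˣ := ψ.comp (blConj P n hn)

theorem blTw_apply (P : Subgroup G) (n : G) (hn : n ∈ Subgroup.normalizer (P : Set G))
    (ψ : P →* ℂˣ) (w : P) : blTw P n hn ψ w = ψ (blConj P n hn w) := rfl

theorem blTw_one_hom (P : Subgroup G) (n : G) (hn : n ∈ Subgroup.normalizer (P : Set G)) :
    blTw P n hn (1 : P →* ℂˣ) = 1 := by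
  ext w
  rfl

theorem blTw_mul (P : Subgroup G) (a b : G) (ha : a ∈ Subgroup.normalizer (P : Set G))
    (hb : b ∈ Subgroup.normalizer (P : Set G)) (ψ : P →* ℂˣ) :
    blTw P (a * b) (Subgroup.mul_mem _ ha hb) ψ = blTw P b hb (blTw P a ha ψ) := by
  apply MonoidHom.ext
  intro w
  rw [blTw_apply, blTw_apply, blTw_apply]
  congr 1
  apply Subtype.ext
  rw [blConj_coe, blConj_coe, blConj_coe]
  group

theorem blTw_one (P : Subgroup G) (ψ : P →* ℂˣ) :
    blTw P 1 (Subgroup.one_mem _) ψ = ψ := by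
  apply MonoidHom.ext
  intro w
  rw [blTw_apply]
  congr 1
  apply Subtype.ext
  rw [blConj_coe]
  group

theorem blTw_congr (P : Subgroup G) {a b : G} (hab : a = b)
    (ha : a ∈ Subgroup.normalizer (P : Set G)) (hb : b ∈ Subgroup.normalizer (P : Set G))
    (ψ : P →* ℂˣ) : blTw P a ha ψ = blTw P b hb ψ := by
  subst hab
  rfl

theorem blTw_inv_cancel (P : Subgroup G) (n : G) (hn : n ∈ Subgroup.normalizer (P : Set G))
    (ψ : P →* ℂˣ) : blTw P n⁻¹ (Subgroup.inv_mem _ hn) (blTw P n hn ψ) = ψ := by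
  rw [← blTw_mul P n n⁻¹ hn (Subgroup.inv_mem _ hn) ψ,
    blTw_congr P (mul_inv_cancel n) _ (Subgroup.one_mem _) ψ, blTw_one]

theorem blTw_cancel_inv (P : Subgroup G) (n : G) (hn : n ∈ Subgroup.normalizer (P : Set G))
    (ψ : P →* ℂˣ) : blTw P n hn (blTw P n⁻¹ (Subgroup.inv_mem _ hn) ψ) = ψ := by
  rw [← blTw_mul P n⁻¹ n (Subgroup.inv_mem _ hn) hn ψ,
    blTw_congr P (inv_mul_cancel n) _ (Subgroup.one_mem _) ψ, blTw_one]

theorem blTw_injective (P : Subgroup G) (n : G) (hn : n ∈ Subgroup.normalizer (P : Set G))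
    {ψ ψ' : P →* ℂˣ} (h : blTw P n hn ψ = blTw P n hn ψ') : ψ = ψ' := by
  rw [← blTw_inv_cancel P n hn ψ, h, blTw_inv_cancel]

/-- The relation "conjugate under the normalizer" on linear characters of `P`, in the form in
which it appears in the statements. -/
def blRel (P : Subgroup G) (ψ ψ' : P →* ℂˣ) : Prop :=
  ∃ n : G, n ∈ Subgroup.normalizer (P : Set G) ∧
    ∀ w w' : P, (w' : G) = n * w * n⁻¹ → ψ' w' = ψ w

theorem blRel_iff (P : Subgroup G) (ψ ψ' : P →* ℂˣ) :
    blRel P ψ ψ' ↔ ∃ n : G, ∃ hn : n ∈ Subgroup.normalizer (P : Set G), blTw P n hn ψ' = ψ := by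
  constructor
  · rintro ⟨n, hn, h⟩
    refine ⟨n, hn, ?_⟩
    apply MonoidHom.ext
    intro w
    rw [blTw_apply]
    exact h w _ (blConj_coe P n hn w)
  · rintro ⟨n, hn, h⟩
    refine ⟨n, hn, ?_⟩
    intro w w' hw
    rw [← h, blTw_apply]
    congr 1
    apply Subtype.ext
    rw [hw, blConj_coe]

theorem blRel_refl (P : Subgroup G) (ψ : P →* ℂˣ) : blRel P ψ ψ :=
  (blRel_iff P ψ ψ).mpr ⟨1, Subgroup.one_mem _, blTw_one P ψ⟩

theorem blRel_symm (P : Subgroup G) {ψ ψ' : P →* ℂˣ} (h : blRel P ψ ψ') : blRel P ψ' ψ := by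
  obtain ⟨n, hn, h⟩ := (blRel_iff P ψ ψ').mp h
  refine (blRel_iff P ψ' ψ).mpr ⟨n⁻¹, Subgroup.inv_mem _ hn, ?_⟩
  rw [← h, blTw_inv_cancel]

theorem blRel_trans (P : Subgroup G) {ψ ψ' ψ'' : P →* ℂˣ} (h : blRel P ψ ψ')
    (h' : blRel P ψ' ψ'') : blRel P ψ ψ'' := by
  obtain ⟨n, hn, h⟩ := (blRel_iff P ψ ψ').mp h
  obtain ⟨n', hn', h'⟩ := (blRel_iff P ψ' ψ'').mp h'
  refine (blRel_iff P ψ ψ'').mpr ⟨n' * n, Subgroup.mul_mem _ hn' hn, ?_⟩
  rw [blTw_mul P n' n hn' hn, h', h]

theorem blRel_one_left (P : Subgroup G) {ψ' : P →* ℂˣ} (h : blRel P 1 ψ') : ψ' = 1 := by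
  obtain ⟨n, hn, h⟩ := (blRel_iff P 1 ψ').mp h
  apply blTw_injective P n hn
  rw [h, blTw_one_hom]

theorem blRel_one_right (P : Subgroup G) {ψ : P →* ℂˣ} (h : blRel P ψ 1) : ψ = 1 :=
  blRel_one_left P (blRel_symm P h)

/-- A linear character fixed by a fixed-point-free element of the normalizer is trivial. -/
theorem bl_tw_fix (P : Subgroup G) [Finite P] (hab : ∀ a b : P, a * b = b * a) (n : G)
    (hn : n ∈ Subgroup.normalizer (P : Set G))
    (hfree : ∀ w : P, n * (w : G) = (w : G) * n → w = 1) (ψ : P →* ℂˣ)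
    (h : blTw P n hn ψ = ψ) : ψ = 1 := by
  obtain ⟨φ, hφ⟩ : ∃ φ : P → P, ∀ w, φ w = w⁻¹ * blConj P n hn w := ⟨_, fun _ => rfl⟩
  have hinj : Function.Injective φ := by
    intro w w' hww
    rw [hφ, hφ] at hww
    -- `w' * w⁻¹` is fixed by `n`
    have h1 : blConj P n hn (w' * w⁻¹) = w' * w⁻¹ := by
      rw [map_mul, map_inv]
      calc blConj P n hn w' * (blConj P n hn w)⁻¹
          = w' * (w'⁻¹ * blConj P n hn w') * (blConj P n hn w)⁻¹ := by group
        _ = w' * (w⁻¹ * blConj P n hn w) * (blConj P n hn w)⁻¹ := by rw [hww]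
        _ = w' * w⁻¹ := by group
    have h2 : n * ((w' * w⁻¹ : P) : G) = ((w' * w⁻¹ : P) : G) * n := by
      have h3 := congrArg Subtype.val h1
      rw [blConj_coe] at h3
      calc n * ((w' * w⁻¹ : P) : G) = (n * ((w' * w⁻¹ : P) : G) * n⁻¹) * n := by group
        _ = ((w' * w⁻¹ : P) : G) * n := by rw [h3]
    have h4 := hfree _ h2
    exact (mul_inv_eq_one.mp h4).symm
  have hsurj : Function.Surjective φ := Finite.surjective_of_injective hinj
  apply MonoidHom.ext
  intro w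
  obtain ⟨v, rfl⟩ := hsurj w
  rw [hφ, map_mul, map_inv, MonoidHom.one_apply]
  have h5 : ψ (blConj P n hn v) = ψ v := by
    rw [← blTw_apply, h]
  rw [h5, inv_mul_cancel]

/-- The number of elements of the normalizer carrying `ψ'` to `ψ`, for a free action. -/
theorem bl_card_tw_eq [Finite G] (P : Subgroup G) (hab : ∀ a b : P, a * b = b * a)
    (hfree : ∀ n ∈ Subgroup.normalizer (P : Set G), n ∉ Subgroup.centralizer (P : Set G) →
      ∀ w : P, n * (w : G) = (w : G) * n → w = 1)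
    (ψ ψ' : P →* ℂˣ) (hψ' : ψ' ≠ 1) (hrel : blRel P ψ ψ') :
    Nat.card {x : Subgroup.normalizer (P : Set G) // blTw P x x.2 ψ' = ψ}
      = Nat.card (Subgroup.centralizer (P : Set G)) := by
  obtain ⟨x₀, hx₀, h₀⟩ := (blRel_iff P ψ ψ').mp hrel
  have hCN : Subgroup.centralizer (P : Set G) ≤ Subgroup.normalizer (P : Set G) :=
    Subgroup.centralizer_le_normalizer _
  have hCfix : ∀ c : G, ∀ hc : c ∈ Subgroup.centralizer (P : Set G),
      blTw P c (hCN hc) ψ' = ψ' := by
    intro c hc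
    apply MonoidHom.ext
    intro w
    rw [blTw_apply]
    congr 1
    apply Subtype.ext
    rw [blConj_coe]
    have := Subgroup.mem_centralizer_iff.mp hc (w : G) w.2
    rw [← this]
    group
  symm
  refine Nat.card_congr (Equiv.ofBijective
    (fun c : Subgroup.centralizer (P : Set G) =>
      (⟨⟨(c : G) * x₀, Subgroup.mul_mem _ (hCN c.2) hx₀⟩, by
        show blTw P ((c : G) * x₀) _ ψ' = ψ
        rw [blTw_mul P (c : G) x₀ (hCN c.2) hx₀, hCfix c c.2, h₀]⟩ :
        {x : Subgroup.normalizer (P : Set G) // blTw P x x.2 ψ' = ψ})) ⟨?_, ?_⟩)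
  · intro c c' h
    have h1 := congrArg (fun x : {x : Subgroup.normalizer (P : Set G) // blTw P x x.2 ψ' = ψ} =>
      ((x : Subgroup.normalizer (P : Set G)) : G)) h
    simp only at h1
    exact Subtype.ext (mul_right_cancel h1)
  · rintro ⟨⟨x, hx⟩, hxψ⟩
    have hxψ' : blTw P x hx ψ' = ψ := hxψ
    have hc : x * x₀⁻¹ ∈ Subgroup.centralizer (P : Set G) := by
      by_contra hnot
      apply hψ'
      have hmem : x * x₀⁻¹ ∈ Subgroup.normalizer (P : Set G) :=
        Subgroup.mul_mem _ hx (Subgroup.inv_mem _ hx₀)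
      haveI : Finite P := inferInstance
      apply bl_tw_fix P hab (x * x₀⁻¹) hmem (hfree _ hmem hnot) ψ'
      rw [blTw_mul P x x₀⁻¹ hx (Subgroup.inv_mem _ hx₀), hxψ', ← h₀, blTw_inv_cancel]
    refine ⟨⟨x * x₀⁻¹, hc⟩, ?_⟩
    apply Subtype.ext
    apply Subtype.ext
    show x * x₀⁻¹ * x₀ = x
    group

/-- The size of an orbit of nontrivial linear characters, for a free action. -/
theorem bl_card_class [Finite G] (P : Subgroup G) (hab : ∀ a b : P, a * b = b * a)
    (hfree : ∀ n ∈ Subgroup.normalizer (P : Set G), n ∉ Subgroup.centralizer (P : Set G) →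
      ∀ w : P, n * (w : G) = (w : G) * n → w = 1)
    (ψ : P →* ℂˣ) (hψ : ψ ≠ 1) [Finite {ψ' : P →* ℂˣ // blRel P ψ ψ'}] :
    Nat.card (Subgroup.normalizer (P : Set G))
      = Nat.card (Subgroup.centralizer (P : Set G)) *
        Nat.card {ψ' : P →* ℂˣ // blRel P ψ ψ'} := by
  apply bl_card_eq_mul_of_fiber
    (fun x : Subgroup.normalizer (P : Set G) =>
      (⟨blTw P (x : G)⁻¹ (Subgroup.inv_mem _ x.2) ψ,
        (blRel_iff P ψ _).mpr ⟨x, x.2, blTw_cancel_inv P x x.2 ψ⟩⟩ :
        {ψ' : P →* ℂˣ // blRel P ψ ψ'}))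
  rintro ⟨ψ', hψ'⟩
  have hψ'1 : ψ' ≠ 1 := by
    rintro rfl
    exact hψ (blRel_one_right P hψ')
  rw [← bl_card_tw_eq P hab hfree ψ ψ' hψ'1 hψ']
  refine Nat.card_congr (Equiv.subtypeEquivRight ?_)
  intro x
  constructor
  · intro h
    have h1 := congrArg Subtype.val h
    simp only at h1
    rw [← h1, blTw_cancel_inv]
  · intro h
    apply Subtype.ext
    show blTw P (x : G)⁻¹ _ ψ = ψ'
    rw [← h, blTw_inv_cancel]

end

end Cfsg.Agent.Lib.helper81
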