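import Mathlib
import Cfsg.Prelude.Def_Blocks
import Cfsg.Agent.S4720
import Cfsg.Agent.Lib.helper81.BlGroup
import Cfsg.Agent.Lib.helper81.BlDual
import Cfsg.Agent.Lib.helper81.CharBasic
import Cfsg.Agent.Lib.helper81.CharOrtho
import Cfsg.Agent.Lib.helper81.Blocks
import Cfsg.Agent.Lib.helper84.BlockOrth
import Cfsg.Agent.Lib.helper84.PrincipalSection
import Cfsg.Agent.Lib.helper84.Frobenius
import Cfsg.Agent.Lib.helper4.KleinChar
import Cfsg.Agent.Lib.helper4.CharDecomp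
import Cfsg.Agent.Lib.helper80.LocalInt
import Cfsg.Agent.Lib.helper19.LinChar

/-!
# The principal block for an abelian Sylow subgroup with Frobenius-like normalizer (helper81)

Character-theoretic input for the Brauer--Leonard theorem:

* `blMult P χ ψ`: the multiplicity of the linear character `ψ` of `P` in `χ|_P`;
* `bl_value`, `bl_value_diff`, `bl_value_const`, `bl_value_exc`: values on `P` in terms of the
  multiplicities;
* `bl_section_const`: characters of the principal block are constant on `p`-sections of `y ∈ P^#`;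
* `bl_ne_zero`: characters of the principal block do not vanish on `P`;
* `bl_lambda`: `λ(C_G(y)) = |P|`;
* `bl_rel`: the Gram relations of the multiplicity matrix (from `S4720`);
* `bl_T_const`: `∑_χ c χ ψ · χ(g)` does not depend on `ψ` for `p`-regular `g`;
* `bl_card_Y`, `bl_exists_two`: counting classes of linear characters.
-/

set_option autoImplicit false

namespace Cfsg.Agent.Lib.helper81

open Cfsg
open scoped ComplexConjugate

universe u

section

variable {G : Type u} [Group G] [Finite G]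

theorem bl_mult_exists (P : Subgroup G) (χ : IrrCharacter G) (ψ : P →* ℂˣ) :
    ∃ n : ℕ, (n : ℂ) = (Nat.card P : ℂ)⁻¹ *
      ∑ᶠ y : P, (χ : G → ℂ) (y : G) * ((ψ y⁻¹ : ℂˣ) : ℂ) := by
  classical
  have : Fintype P := Fintype.ofFinite P
  obtain ⟨n, hn⟩ := Cfsg.Agent.Lib.helper84.classInner_isCharacter_nat
    (Cfsg.Agent.Lib.helper84.isCharacter_restrict P (irr_isCharacter χ))
    (Cfsg.Agent.Lib.helper19.isCharacter_of_hom ψ)
  refine ⟨n, ?_⟩
  rw [← hn, finsum_eq_sum_of_fintype]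
  unfold classInner
  congr 1
  apply Finset.sum_congr rfl
  intro y _
  show (χ : G → ℂ) (y : G) * conj ((ψ y : ℂˣ) : ℂ) = _
  rw [Cfsg.Agent.Lib.helper19.hom_conj_eq_inv, MonoidHom.inv_apply, map_inv]

/-- The multiplicity of the linear character `ψ` of `P` in the restriction of `χ`. -/
noncomputable def blMult (P : Subgroup G) (χ : IrrCharacter G) (ψ : P →* ℂˣ) : ℕ :=
  (bl_mult_exists P χ ψ).choose

theorem blMult_spec (P : Subgroup G) (χ : IrrCharacter G) (ψ : P →* ℂˣ) :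
    ((blMult P χ ψ : ℕ) : ℂ) = (Nat.card P : ℂ)⁻¹ *
      ∑ᶠ y : P, (χ : G → ℂ) (y : G) * ((ψ y⁻¹ : ℂˣ) : ℂ) :=
  (bl_mult_exists P χ ψ).choose_spec

theorem blMult_sum (P : Subgroup G) [Fintype P] (χ : IrrCharacter G) (ψ : P →* ℂˣ) :
    ((blMult P χ ψ : ℕ) : ℂ) = (Nat.card P : ℂ)⁻¹ *
      ∑ y : P, (χ : G → ℂ) (y : G) * ((ψ y⁻¹ : ℂˣ) : ℂ) := by
  rw [blMult_spec, finsum_eq_sum_of_fintype]

theorem blMult_classInner (P : Subgroup G) [Fintype P] (χ : IrrCharacter G) (ψ : P →* ℂˣ) :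
    ((blMult P χ ψ : ℕ) : ℂ)
      = classInner (fun h : P => (χ : G → ℂ) (h : G)) (fun g => ((ψ g : ℂˣ) : ℂ)) := by
  rw [blMult_sum]
  unfold classInner
  congr 1
  apply Finset.sum_congr rfl
  intro y _
  show _ = (χ : G → ℂ) (y : G) * conj ((ψ y : ℂˣ) : ℂ)
  rw [Cfsg.Agent.Lib.helper19.hom_conj_eq_inv, MonoidHom.inv_apply, map_inv]

theorem bl_value (P : Subgroup G) (hab : ∀ a b : P, a * b = b * a) [Fintype P]
    [Fintype (P →* ℂˣ)] (χ : IrrCharacter G) (y : P) :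
    (χ : G → ℂ) (y : G) = ∑ ψ : P →* ℂˣ, ((blMult P χ ψ : ℕ) : ℂ) * ((ψ y : ℂˣ) : ℂ) := by
  have h := bl_expand hab (fun h : P => (χ : G → ℂ) (h : G)) y
  refine h.trans ?_
  apply Finset.sum_congr rfl
  intro ψ _
  rw [blMult_classInner]

theorem bl_value_diff (P : Subgroup G) (hab : ∀ a b : P, a * b = b * a) [Fintype P]
    [Fintype (P →* ℂˣ)] (χ : IrrCharacter G) (y : P) (hy : y ≠ 1) :
    (χ : G → ℂ) (y : G) = - ∑ ψ : P →* ℂˣ,
      (((blMult P χ 1 : ℕ) : ℂ) - ((blMult P χ ψ : ℕ) : ℂ)) * ((ψ y : ℂˣ) : ℂ) := by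
  rw [bl_value P hab χ y]
  have h0 := bl_sum_hom hab y hy
  simp only [sub_mul, Finset.sum_sub_distrib]
  rw [← Finset.mul_sum, h0, mul_zero, zero_sub, neg_neg]

theorem bl_value_const (P : Subgroup G) (hab : ∀ a b : P, a * b = b * a) [Fintype P]
    [Fintype (P →* ℂˣ)] (χ : IrrCharacter G) (a : ℤ)
    (ha : ∀ ψ : P →* ℂˣ, ψ ≠ 1 →
      ((blMult P χ 1 : ℕ) : ℤ) - ((blMult P χ ψ : ℕ) : ℤ) = a) (y : P) (hy : y ≠ 1) :
    (χ : G → ℂ) (y : G) = (a : ℂ) := by
  classical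
  rw [bl_value_diff P hab χ y hy]
  have h1 : ∀ ψ : P →* ℂˣ,
      (((blMult P χ 1 : ℕ) : ℂ) - ((blMult P χ ψ : ℕ) : ℂ)) * ((ψ y : ℂˣ) : ℂ)
      = (a : ℂ) * ((ψ y : ℂˣ) : ℂ) - (if ψ = 1 then (a : ℂ) else 0) := by
    intro ψ
    by_cases hψ : ψ = 1
    · rw [if_pos hψ, hψ]
      simp
    · rw [if_neg hψ, sub_zero]
      have := congrArg (Int.cast : ℤ → ℂ) (ha ψ hψ)
      push_cast at this
      rw [this]
  have hs : ∑ ψ : P →* ℂˣ, (if ψ = 1 then (a : ℂ) else 0) = (a : ℂ) := by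
    rw [Finset.sum_eq_single_of_mem 1 (Finset.mem_univ _) (fun ψ _ hne => if_neg hne), if_pos rfl]
  rw [Finset.sum_congr rfl (fun ψ _ => h1 ψ), Finset.sum_sub_distrib, ← Finset.mul_sum,
    bl_sum_hom hab y hy, hs]
  ring

open Classical in
theorem bl_value_exc (P : Subgroup G) (hab : ∀ a b : P, a * b = b * a) [Fintype P]
    [Fintype (P →* ℂˣ)] (χ : IrrCharacter G) (d ε : ℤ) (ψ : P →* ℂˣ) (hψ : ψ ≠ 1)
    (ha : ∀ ψ' : P →* ℂˣ, ψ' ≠ 1 →
      ((blMult P χ 1 : ℕ) : ℤ) - ((blMult P χ ψ' : ℕ) : ℤ)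
        = d - ε * (if blRel P ψ ψ' then 1 else 0)) (y : P) (hy : y ≠ 1) :
    (χ : G → ℂ) (y : G) = (d : ℂ) + (ε : ℂ) *
      ∑ᶠ ψ' ∈ {ψ' : P →* ℂˣ | blRel P ψ ψ'}, ((ψ' y : ℂˣ) : ℂ) := by
  rw [bl_value_diff P hab χ y hy, finsum_mem_def, finsum_eq_sum_of_fintype]
  have h1 : ∀ ψ' : P →* ℂˣ,
      (((blMult P χ 1 : ℕ) : ℂ) - ((blMult P χ ψ' : ℕ) : ℂ)) * ((ψ' y : ℂˣ) : ℂ)
      = (d : ℂ) * ((ψ' y : ℂˣ) : ℂ) - (if ψ' = 1 then (d : ℂ) else 0)
        - (ε : ℂ) * ({ψ' : P →* ℂˣ | blRel P ψ ψ'}.indicator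
            (fun ψ' => ((ψ' y : ℂˣ) : ℂ)) ψ') := by
    intro ψ'
    by_cases hψ' : ψ' = 1
    · have hnr : ψ' ∉ {ψ' : P →* ℂˣ | blRel P ψ ψ'} := by
        rw [hψ']
        exact fun h => hψ (blRel_one_right P h)
      rw [if_pos hψ', Set.indicator_of_notMem hnr, hψ']
      simp
    · rw [if_neg hψ', sub_zero]
      have := congrArg (Int.cast : ℤ → ℂ) (ha ψ' hψ')
      push_cast at this
      rw [this]
      by_cases hr : blRel P ψ ψ'
      · rw [if_pos hr, Set.indicator_of_mem (show ψ' ∈ {ψ' : P →* ℂˣ | blRel P ψ ψ'} from hr)]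
        ring
      · rw [if_neg hr, Set.indicator_of_notMem (show ψ' ∉ {ψ' : P →* ℂˣ | blRel P ψ ψ'} from hr)]
        ring
  have hs : ∑ ψ' : P →* ℂˣ, (if ψ' = 1 then (d : ℂ) else 0) = (d : ℂ) := by
    rw [Finset.sum_eq_single_of_mem 1 (Finset.mem_univ _) (fun ψ _ hne => if_neg hne), if_pos rfl]
  rw [Finset.sum_congr rfl (fun ψ' _ => h1 ψ'), Finset.sum_sub_distrib, Finset.sum_sub_distrib,
    ← Finset.mul_sum, ← Finset.mul_sum, bl_sum_hom hab y hy, hs]
  ring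

theorem bl_section_const {p : ℕ} [Fact p.Prime] {M : Ideal AlgInt} (hM : IsPModular p M)
    (P : Sylow p G) (hab : ∀ a b : (P : Subgroup G), a * b = b * a)
    (hfrob : ∀ y : G, y ∈ (P : Subgroup G) → y ≠ 1 →
      Subgroup.centralizer ({y} : Set G) ⊓ Subgroup.normalizer ((P : Subgroup G) : Set G)
        = Subgroup.centralizer ((P : Subgroup G) : Set G))
    (χ : IrrCharacter G) (hχ : χ ∈ principalBlock M G) (z y : G) (hzy : IsPPart p z y)
    (hy : y ∈ (P : Subgroup G)) (hy1 : y ≠ 1) : (χ : G → ℂ) z = (χ : G → ℂ) y := by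
  classical
  have : Fintype G := Fintype.ofFinite G
  have : Fintype (Subgroup.centralizer ({y} : Set G)) := Fintype.ofFinite _
  obtain ⟨y', hyy', hcomm, hk, hreg⟩ := hzy
  have hPy : (P : Subgroup G) ≤ Subgroup.centralizer ({y} : Set G) := by
    intro u hu
    rw [Subgroup.mem_centralizer_singleton_iff]
    exact congrArg Subtype.val (hab ⟨u, hu⟩ ⟨y, hy⟩)
  obtain ⟨k, hidx⟩ := bl_pPrimeCore_index P y hPy (hfrob y hy hy1).le
  have hy'mem : y' ∈ Subgroup.centralizer ({y} : Set G) := by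
    rw [Subgroup.mem_centralizer_singleton_iff]
    exact hcomm.eq.symm
  have hreg' : ¬ p ∣ orderOf (⟨y', hy'mem⟩ : Subgroup.centralizer ({y} : Set G)) := by
    rw [← Subgroup.orderOf_coe]
    exact hreg
  have hmem := Cfsg.Agent.Lib.helper4.mem_pPrimeCore_of_pRegular hidx hreg'
  have h := (Cfsg.Agent.Lib.helper4.principal_section_avg hM y hk ⟨k, hidx⟩ χ).1 hχ
    ⟨⟨y', hy'mem⟩, hmem⟩
  rw [← hyy']
  exact h

theorem bl_ne_zero {p : ℕ} [Fact p.Prime] {M : Ideal AlgInt} (hM : IsPModular p M)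
    (P : Sylow p G) (hab : ∀ a b : (P : Subgroup G), a * b = b * a)
    (χ : IrrCharacter G) (hχ : χ ∈ principalBlock M G) (y : G) (hy : y ∈ (P : Subgroup G)) :
    (χ : G → ℂ) y ≠ 0 := by
  intro h0
  have h : MemLocalIdeal M (centralChar (fun _ : G => (1 : ℂ)) y - centralChar (χ : G → ℂ) y) :=
    hχ y
  rw [centralChar_const_one] at h
  have h2 : centralChar (χ : G → ℂ) y = 0 := by
    unfold centralChar
    rw [h0, mul_zero, zero_div]
  rw [h2, sub_zero] at h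
  have hPy : (P : Subgroup G) ≤ Subgroup.centralizer ({y} : Set G) := by
    intro u hu
    rw [Subgroup.mem_centralizer_singleton_iff]
    exact congrArg Subtype.val (hab ⟨u, hu⟩ ⟨y, hy⟩)
  have hdvd : (Subgroup.centralizer ({y} : Set G)).index ∣ (P : Subgroup G).index :=
    Subgroup.index_dvd_of_le hPy
  exact Cfsg.Agent.Lib.helper80.not_memLocalIdeal_natCast hM
    (fun hp => P.not_dvd_index (hp.trans hdvd)) h

theorem bl_lambda {p : ℕ} [Fact p.Prime] {M : Ideal AlgInt} (hM : IsPModular p M)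
    (P : Sylow p G) (hab : ∀ a b : (P : Subgroup G), a * b = b * a) (y : G)
    (hy : y ∈ (P : Subgroup G))
    (hfrob : Subgroup.centralizer ({y} : Set G) ⊓ Subgroup.normalizer ((P : Subgroup G) : Set G)
        ≤ Subgroup.centralizer ((P : Subgroup G) : Set G)) :
    (∑ᶠ ψ ∈ principalBlock M (Subgroup.centralizer ({y} : Set G)),
      ((charDegree (ψ : Subgroup.centralizer ({y} : Set G) → ℂ) : ℕ) : ℚ) ^ 2)
      = (Nat.card (P : Subgroup G) : ℚ) := by
  classical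
  have hp : p.Prime := Fact.out
  have : Fintype (Subgroup.centralizer ({y} : Set G)) := Fintype.ofFinite _
  have hPy : (P : Subgroup G) ≤ Subgroup.centralizer ({y} : Set G) := by
    intro u hu
    rw [Subgroup.mem_centralizer_singleton_iff]
    exact congrArg Subtype.val (hab ⟨u, hu⟩ ⟨y, hy⟩)
  have hidx := bl_pPrimeCore_index P y hPy hfrob
  have hy1 : ¬ p ∣ orderOf (1 : Subgroup.centralizer ({y} : Set G)) := by
    rw [orderOf_one]
    exact fun h => hp.one_lt.ne' (Nat.dvd_one.mp h)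
  have h1 := Cfsg.Agent.Lib.helper84.sum_principalBlock_sq_of_pNilpotent hM hidx
    (1 : Subgroup.centralizer ({y} : Set G)) hy1
  have hH0 : Nat.card (Subgroup.centralizer ({y} : Set G)) ≠ 0 := Nat.card_pos.ne'
  have hG0 : Nat.card G ≠ 0 := Nat.card_pos.ne'
  have hcard : p ^ (Nat.card (Subgroup.centralizer ({y} : Set G))).factorization p
      = Nat.card (P : Subgroup G) := by
    rw [P.card_eq_multiplicity]
    congr 1
    apply le_antisymm
    · exact (Nat.factorization_le_iff_dvd hH0 hG0).mpr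
        (Subgroup.card_subgroup_dvd_card _) p
    · have : p ^ (Nat.card G).factorization p
          ∣ Nat.card (Subgroup.centralizer ({y} : Set G)) := by
        rw [← P.card_eq_multiplicity]
        exact Subgroup.card_dvd_of_le hPy
      exact (hp.pow_dvd_iff_le_factorization hH0).mp this
  apply Rat.cast_injective (α := ℂ)
  rw [finsum_mem_def, finsum_eq_sum_of_fintype, Rat.cast_sum]
  have h2 : ∀ χ : IrrCharacter (Subgroup.centralizer ({y} : Set G)),
      (((principalBlock M (Subgroup.centralizer ({y} : Set G))).indicator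
        (fun ψ => ((charDegree (ψ : Subgroup.centralizer ({y} : Set G) → ℂ) : ℕ) : ℚ) ^ 2) χ : ℚ) : ℂ)
      = if χ ∈ principalBlock M (Subgroup.centralizer ({y} : Set G)) then
          (χ : Subgroup.centralizer ({y} : Set G) → ℂ) 1
            * conj ((χ : Subgroup.centralizer ({y} : Set G) → ℂ) 1) else 0 := by
    intro χ
    by_cases hχ : χ ∈ principalBlock M (Subgroup.centralizer ({y} : Set G))
    · rw [if_pos hχ, Set.indicator_of_mem hχ, irr_one_eq_charDegree, Complex.conj_natCast]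
      push_cast
      ring
    · rw [if_neg hχ, Set.indicator_of_notMem hχ, Rat.cast_zero]
  rw [Finset.sum_congr rfl (fun χ _ => h2 χ), h1, hcard]
  push_cast
  rfl

theorem bl_card_ne (Λ : Type*) [Finite Λ] (o : Λ) : Nat.card {ψ : Λ // ψ ≠ o} = Nat.card Λ - 1 := by
  classical
  have : Fintype Λ := Fintype.ofFinite Λ
  rw [Nat.card_eq_fintype_card, Nat.card_eq_fintype_card, Fintype.card_subtype_compl,
    Fintype.card_subtype_eq]

theorem bl_card_NC (P : Subgroup G) (m : ℕ)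
    (hCN : (Subgroup.centralizer (P : Set G)).relIndex (Subgroup.normalizer (P : Set G)) = m) :
    Nat.card (Subgroup.centralizer (P : Set G)) * m
      = Nat.card (Subgroup.normalizer (P : Set G)) := by
  rw [← hCN, ← Subgroup.relIndex_bot_left (Subgroup.centralizer (P : Set G)),
    ← Subgroup.relIndex_bot_left (Subgroup.normalizer (P : Set G))]
  exact Subgroup.relIndex_mul_relIndex ⊥ _ _ bot_le (Subgroup.centralizer_le_normalizer _)

theorem bl_hfree (P : Subgroup G)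
    (hfrob : ∀ y : G, y ∈ P → y ≠ 1 →
      Subgroup.centralizer ({y} : Set G) ⊓ Subgroup.normalizer (P : Set G)
        = Subgroup.centralizer (P : Set G)) :
    ∀ n ∈ Subgroup.normalizer (P : Set G), n ∉ Subgroup.centralizer (P : Set G) →
      ∀ w : P, n * (w : G) = (w : G) * n → w = 1 := by
  intro n hn hnC w hw
  by_contra hw1
  apply hnC
  rw [← hfrob (w : G) w.2 (fun h => hw1 (Subtype.ext h))]
  exact Subgroup.mem_inf.mpr ⟨Subgroup.mem_centralizer_singleton_iff.mpr hw, hn⟩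

theorem bl_class_card (P : Subgroup G) (hab : ∀ a b : P, a * b = b * a) (m : ℕ)
    (hCN : (Subgroup.centralizer (P : Set G)).relIndex (Subgroup.normalizer (P : Set G)) = m)
    (hfrob : ∀ y : G, y ∈ P → y ≠ 1 →
      Subgroup.centralizer ({y} : Set G) ⊓ Subgroup.normalizer (P : Set G)
        = Subgroup.centralizer (P : Set G))
    (ψ : P →* ℂˣ) (hψ : ψ ≠ 1) : Nat.card {ψ' : P →* ℂˣ // blRel P ψ ψ'} = m := by
  haveI : Finite (P →* ℂˣ) := bl_finite_hom
  have h1 := bl_card_class P hab (bl_hfree P hfrob) ψ hψ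
  rw [← bl_card_NC P m hCN] at h1
  exact (Nat.eq_of_mul_eq_mul_left Nat.card_pos h1).symm

theorem bl_exists_two (P : Subgroup G) (hab : ∀ a b : P, a * b = b * a) (m : ℕ)
    (hm2 : m + 1 < Nat.card P)
    (hCN : (Subgroup.centralizer (P : Set G)).relIndex (Subgroup.normalizer (P : Set G)) = m)
    (hfrob : ∀ y : G, y ∈ P → y ≠ 1 →
      Subgroup.centralizer ({y} : Set G) ⊓ Subgroup.normalizer (P : Set G)
        = Subgroup.centralizer (P : Set G)) :
    ∃ ψ₀ ψ₁ : P →* ℂˣ, ψ₀ ≠ 1 ∧ ψ₁ ≠ 1 ∧ ¬ blRel P ψ₀ ψ₁ := by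
  haveI : Finite (P →* ℂˣ) := bl_finite_hom
  have hcard : Nat.card {ψ : P →* ℂˣ // ψ ≠ 1} = Nat.card P - 1 := by
    rw [bl_card_ne, bl_card_hom hab]
  obtain ⟨ψ₀, hψ₀⟩ : ∃ ψ₀ : P →* ℂˣ, ψ₀ ≠ 1 := by
    by_contra h
    push Not at h
    haveI : IsEmpty {ψ : P →* ℂˣ // ψ ≠ 1} := ⟨fun ψ => ψ.2 (h ψ.1)⟩
    rw [Nat.card_of_isEmpty] at hcard
    omega
  by_contra hcon
  push Not at hcon
  have hall : ∀ ψ : P →* ℂˣ, ψ ≠ 1 → blRel P ψ₀ ψ := fun ψ hψ => hcon ψ₀ ψ hψ₀ hψ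
  have hle : Nat.card {ψ : P →* ℂˣ // ψ ≠ 1} ≤ Nat.card {ψ' : P →* ℂˣ // blRel P ψ₀ ψ'} := by
    apply Nat.card_le_card_of_injective
      (fun ψ : {ψ : P →* ℂˣ // ψ ≠ 1} => (⟨ψ.1, hall ψ.1 ψ.2⟩ : {ψ' : P →* ℂˣ // blRel P ψ₀ ψ'}))
    intro a b hab'
    apply Subtype.ext
    have h := congrArg Subtype.val hab'
    exact h
  rw [hcard, bl_class_card P hab m hCN hfrob ψ₀ hψ₀] at hle
  omega

theorem bl_card_Y (P : Subgroup G) (hab : ∀ a b : P, a * b = b * a) (m : ℕ) (hm : 0 < m)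
    (hCN : (Subgroup.centralizer (P : Set G)).relIndex (Subgroup.normalizer (P : Set G)) = m)
    (hfrob : ∀ y : G, y ∈ P → y ≠ 1 →
      Subgroup.centralizer ({y} : Set G) ⊓ Subgroup.normalizer (P : Set G)
        = Subgroup.centralizer (P : Set G))
    {ι : Type*} (Y : Finset ι) (ζ : (P →* ℂˣ) → ι)
    (hζY : ∀ ψ, ψ ≠ 1 → ζ ψ ∈ Y) (hsurj : ∀ η ∈ Y, ∃ ψ, ψ ≠ 1 ∧ ζ ψ = η)
    (hiff : ∀ ψ ψ', ψ ≠ 1 → ψ' ≠ 1 → (ζ ψ = ζ ψ' ↔ blRel P ψ ψ')) :
    Y.card = (Nat.card P - 1) / m := by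
  haveI : Finite (P →* ℂˣ) := bl_finite_hom
  have hcard : Nat.card {ψ : P →* ℂˣ // ψ ≠ 1} = Nat.card P - 1 := by
    rw [bl_card_ne, bl_card_hom hab]
  have h1 := bl_card_eq_mul_of_fiber
    (fun ψ : {ψ : P →* ℂˣ // ψ ≠ 1} => (⟨ζ ψ.1, hζY ψ.1 ψ.2⟩ : (Y : Set ι))) m (by
      rintro ⟨η, hη⟩
      obtain ⟨ψ₀, hψ₀, hζ₀⟩ := hsurj η hη
      rw [← bl_class_card P hab m hCN hfrob ψ₀ hψ₀]
      apply Nat.card_congr
      refine
        { toFun := fun a => ⟨a.1.1, (hiff ψ₀ a.1.1 hψ₀ a.1.2).mp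
            (hζ₀.trans (congrArg Subtype.val a.2).symm)⟩
          invFun := fun ψ' => ⟨⟨ψ'.1, fun h => hψ₀ (blRel_one_right P (h ▸ ψ'.2))⟩,
            Subtype.ext (((hiff ψ₀ ψ'.1 hψ₀
              (fun h => hψ₀ (blRel_one_right P (h ▸ ψ'.2)))).mpr ψ'.2).symm.trans hζ₀)⟩
          left_inv := fun a => rfl
          right_inv := fun ψ' => rfl })
  rw [hcard] at h1
  have h2 : Nat.card (Y : Set ι) = Y.card := by
    rw [Nat.card_coe_set_eq, Set.ncard_coe_finset]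
  rw [h2] at h1
  rw [h1, Nat.mul_div_cancel_left _ hm]

theorem blMult_triv (P : Subgroup G) (ψ : P →* ℂˣ) (hψ : ψ ≠ 1) :
    blMult P (trivChar G) ψ = 0 := by
  classical
  have : Fintype P := Fintype.ofFinite P
  have h := blMult_sum P (trivChar G) ψ
  have h1 : ∑ y : P, (trivChar G : G → ℂ) (y : G) * ((ψ y⁻¹ : ℂˣ) : ℂ) = 0 := by
    have h2 : ∀ y : P, (trivChar G : G → ℂ) (y : G) * ((ψ y⁻¹ : ℂˣ) : ℂ)
        = ((ψ⁻¹ y : ℂˣ) : ℂ) := by
      intro y
      rw [MonoidHom.inv_apply, map_inv]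
      show (1 : ℂ) * _ = _
      rw [one_mul]
    rw [Finset.sum_congr rfl (fun y _ => h2 y)]
    apply Cfsg.Agent.Lib.helper19.sum_hom_eq_zero
    intro h'
    have h'' : ψ = 1 := by
      apply MonoidHom.ext
      intro y
      have h3 := congrArg (fun φ : P →* ℂˣ => φ y) h'
      simp only [MonoidHom.inv_apply, MonoidHom.one_apply] at h3
      rw [MonoidHom.one_apply]
      exact inv_eq_one.mp h3
    exact hψ h''
  rw [h1, mul_zero] at h
  exact_mod_cast h

theorem bl_T_const {p : ℕ} [Fact p.Prime] {M : Ideal AlgInt} (hM : IsPModular p M)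
    (P : Sylow p G) (I : Finset (IrrCharacter G))
    (hI : ∀ χ, χ ∈ I ↔ χ ∈ principalBlock M G) (g : G) (hg : ¬ p ∣ orderOf g)
    (ψ₁ ψ₂ : (P : Subgroup G) →* ℂˣ) :
    ∑ χ ∈ I, ((((blMult (P : Subgroup G) χ ψ₁ : ℕ) : ℤ) : ℂ)
      - (((blMult (P : Subgroup G) χ ψ₂ : ℕ) : ℤ) : ℂ)) * (χ : G → ℂ) g = 0 := by
  classical
  have : Fintype G := Fintype.ofFinite G
  have : Fintype (P : Subgroup G) := Fintype.ofFinite _
  have key : ∀ ψ : (P : Subgroup G) →* ℂˣ,
      ∑ χ ∈ I, (((blMult (P : Subgroup G) χ ψ : ℕ) : ℤ) : ℂ) * (χ : G → ℂ) g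
        = (Nat.card (P : Subgroup G) : ℂ)⁻¹ * ∑ χ ∈ I, (χ : G → ℂ) 1 * (χ : G → ℂ) g := by
    intro ψ
    have h1 : ∀ χ : IrrCharacter G,
        (((blMult (P : Subgroup G) χ ψ : ℕ) : ℤ) : ℂ) * (χ : G → ℂ) g
          = (Nat.card (P : Subgroup G) : ℂ)⁻¹ * ∑ u : (P : Subgroup G),
            ((ψ u⁻¹ : ℂˣ) : ℂ) * ((χ : G → ℂ) (u : G) * (χ : G → ℂ) g) := by
      intro χ
      rw [Int.cast_natCast, blMult_sum, mul_assoc, Finset.sum_mul]
      congr 1
      apply Finset.sum_congr rfl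
      intro u _
      ring
    rw [Finset.sum_congr rfl (fun χ _ => h1 χ), ← Finset.mul_sum, Finset.sum_comm]
    congr 1
    rw [Finset.sum_eq_single (1 : (P : Subgroup G))]
    · rw [← Finset.mul_sum, inv_one, map_one, Units.val_one, one_mul, Subgroup.coe_one]
    · intro u _ hu
      rw [← Finset.mul_sum]
      have hz : ∑ χ ∈ I, (χ : G → ℂ) (u : G) * (χ : G → ℂ) g = 0 := by
        have hord : p ∣ orderOf ((u : G)⁻¹) := by
          rw [orderOf_inv, Subgroup.orderOf_coe]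
          obtain ⟨k, hk⟩ := (IsPGroup.iff_orderOf.mp P.isPGroup') u
          rw [hk]
          have hk0 : k ≠ 0 := by
            rintro rfl
            rw [pow_zero, orderOf_eq_one_iff] at hk
            exact hu hk
          exact dvd_pow_self p hk0
        have h := Cfsg.Agent.Lib.helper84.block_orthogonality hM
          (isPBlock_principalBlock (M := M) (G := G)) g (u : G)⁻¹ hg hord
        rw [← Finset.sum_subset (Finset.subset_univ I)
          (fun χ _ hχ => by rw [if_neg (fun h' => hχ ((hI χ).mpr h'))])] at h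
        rw [← h]
        apply Finset.sum_congr rfl
        intro χ hχ
        rw [if_pos ((hI χ).mp hχ), irr_inv, Complex.conj_conj, mul_comm]
      rw [hz, mul_zero]
    · intro h
      exact absurd (Finset.mem_univ _) h
  simp only [sub_mul, Finset.sum_sub_distrib]
  rw [key ψ₁, key ψ₂, sub_self]

open Classical in
/-- The Gram relations of the multiplicity matrix of the principal block. -/
theorem bl_rel {p : ℕ} [Fact p.Prime] {M : Ideal AlgInt} (hM : IsPModular p M) (P : Sylow p G)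
    (hab : IsMulCommutative P) (hP1 : Nat.card P ≠ 1) (m : ℕ)
    (hCN : (Subgroup.centralizer ((P : Subgroup G) : Set G)).relIndex
      (Subgroup.normalizer ((P : Subgroup G) : Set G)) = m)
    (hfrob : ∀ y : G, y ∈ (P : Subgroup G) → y ≠ 1 →
      Subgroup.centralizer ({y} : Set G) ⊓ Subgroup.normalizer ((P : Subgroup G) : Set G)
        = Subgroup.centralizer ((P : Subgroup G) : Set G))
    (I : Finset (IrrCharacter G)) (hI : ∀ χ, χ ∈ I ↔ χ ∈ principalBlock M G)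
    (ψ₁ ψ₂ ψ₃ : (P : Subgroup G) →* ℂˣ) :
    ∑ χ ∈ I, (((blMult (P : Subgroup G) χ ψ₁ : ℕ) : ℤ) - ((blMult (P : Subgroup G) χ ψ₂ : ℕ) : ℤ))
        * ((blMult (P : Subgroup G) χ ψ₃ : ℕ) : ℤ)
      = (if ψ₃ = 1 then (if ψ₁ = 1 then (m : ℤ) else 0)
          else (if blRel (P : Subgroup G) ψ₁ ψ₃ then 1 else 0))
        - (if ψ₃ = 1 then (if ψ₂ = 1 then (m : ℤ) else 0)
          else (if blRel (P : Subgroup G) ψ₂ ψ₃ then 1 else 0)) := by
  have hp : p.Prime := Fact.out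
  have hab' : ∀ a b : (P : Subgroup G), a * b = b * a := fun a b => hab.is_comm.comm a b
  have : Fintype (P : Subgroup G) := Fintype.ofFinite _
  have : Fintype (Subgroup.normalizer ((P : Subgroup G) : Set G)) := Fintype.ofFinite _
  obtain ⟨θ, hθdef⟩ : ∃ θ : ↥(P : Subgroup G) → ℂ,
      θ = (fun y => ((ψ₁ y : ℂˣ) : ℂ)) - (fun y => ((ψ₂ y : ℂˣ) : ℂ)) := ⟨_, rfl⟩
  obtain ⟨η, hηdef⟩ : ∃ η : ↥(P : Subgroup G) → ℂ, η = fun y => ((ψ₃ y : ℂˣ) : ℂ) := ⟨_, rfl⟩
  have hθ : IsGeneralizedCharacter (P : Subgroup G) θ :=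
    ⟨_, _, Cfsg.Agent.Lib.helper19.isCharacter_of_hom ψ₁,
      Cfsg.Agent.Lib.helper19.isCharacter_of_hom ψ₂, hθdef⟩
  have hη : IsGeneralizedCharacter (P : Subgroup G) η := by
    rw [hηdef]
    exact Cfsg.Agent.Lib.helper4.isGeneralizedCharacter_of_isCharacter
      (Cfsg.Agent.Lib.helper19.isCharacter_of_hom ψ₃)
  obtain ⟨U, hU⟩ : ∃ U : Set G, U = {y | y ∈ (P : Subgroup G) ∧ y ≠ 1} := ⟨_, rfl⟩
  have hmemU : ∀ y, y ∈ U ↔ y ∈ (P : Subgroup G) ∧ y ≠ 1 := by
    intro y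
    rw [hU]
    rfl
  have hP0 : (Nat.card (P : Subgroup G) : ℂ) ≠ 0 := by exact_mod_cast Nat.card_pos.ne'
  have hC0 : (Nat.card (Subgroup.centralizer ((P : Subgroup G) : Set G)) : ℂ) ≠ 0 := by
    exact_mod_cast Nat.card_pos.ne'
  have hC0' : (Nat.card (Subgroup.centralizer ((P : Subgroup G) : Set G)) : ℚ) ≠ 0 := by
    exact_mod_cast Nat.card_pos.ne'
  have hUne : U.Nonempty := by
    obtain ⟨y, hy⟩ : ∃ y : (P : Subgroup G), y ≠ 1 := by
      by_contra h
      push Not at h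
      apply hP1
      rw [Nat.card_eq_one_iff_unique]
      exact ⟨⟨fun a b => (h a).trans (h b).symm⟩, ⟨1⟩⟩
    exact ⟨(y : G), (hmemU _).mpr ⟨y.2, fun h => hy (Subtype.ext h)⟩⟩
  have hUP : U ⊆ ((P : Subgroup G) : Set G) := fun u hu => ((hmemU u).mp hu).1
  have hUN : ∀ n ∈ Subgroup.normalizer ((P : Subgroup G) : Set G), ∀ u ∈ U,
      n * u * n⁻¹ ∈ U := by
    intro n hn u hu
    obtain ⟨hu1, hu2⟩ := (hmemU u).mp hu
    exact (hmemU _).mpr ⟨(Subgroup.mem_normalizer_iff.mp hn u).mp hu1,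
      fun h => hu2 (conj_eq_one_iff.mp h)⟩
  have hfus : ∀ u ∈ U, ∀ g : G, g * u * g⁻¹ ∈ ((P : Subgroup G) : Set G) →
      ∃ n ∈ Subgroup.normalizer ((P : Subgroup G) : Set G), n * u * n⁻¹ = g * u * g⁻¹ :=
    fun u hu g hg => bl_fusion P hab u ((hmemU u).mp hu).1 g hg
  have hw : ∀ y ∈ U, ((∑ᶠ ψ ∈ principalBlock M ↥(Subgroup.centralizer ({y} : Set G)),
      ((charDegree (ψ : ↥(Subgroup.centralizer ({y} : Set G)) → ℂ) : ℕ) : ℚ) ^ 2) : ℚ)
      = ((Nat.card (P : Subgroup G) : ℚ)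
          / (Nat.card (Subgroup.centralizer ((P : Subgroup G) : Set G)) : ℚ))
        * Nat.card ↥(Subgroup.normalizer ((P : Subgroup G) : Set G)
            ⊓ Subgroup.centralizer ({y} : Set G)) := by
    intro y hy
    obtain ⟨hyP, hy1⟩ := (hmemU y).mp hy
    rw [bl_lambda hM P hab' y hyP (hfrob y hyP hy1).le]
    have h1 : Subgroup.normalizer ((P : Subgroup G) : Set G) ⊓ Subgroup.centralizer ({y} : Set G)
        = Subgroup.centralizer ((P : Subgroup G) : Set G) := by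
      rw [inf_comm]
      exact hfrob y hyP hy1
    rw [h1, div_mul_cancel₀ _ hC0']
  have hθU : ∀ y : (P : Subgroup G), (y : G) ∉ U → θ y = 0 := by
    intro y hy
    have h1 : y = 1 := by
      by_contra h
      exact hy ((hmemU _).mpr ⟨y.2, fun h' => h (Subtype.ext h')⟩)
    rw [h1, hθdef]
    simp
  have key := Cfsg.Agent.S4720.result p M hM (P : Subgroup G) P.isPGroup'
    (Subgroup.normalizer ((P : Subgroup G) : Set G)) Subgroup.le_normalizer le_rfl U hUne hUP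
    hUN hfus _ hw θ η hθ hη hθU
  -- the left-hand side
  have hB : principalBlock M G = (I : Set (IrrCharacter G)) :=
    Set.ext (fun χ => by rw [Finset.mem_coe, hI])
  rw [hB, finsum_mem_coe_finset] at key
  have hL : ∀ χ : IrrCharacter G,
      ((Nat.card (P : Subgroup G) : ℂ)⁻¹ * ∑ᶠ y : (P : Subgroup G), (χ : G → ℂ) (y : G) * θ y⁻¹)
        * conj ((Nat.card (P : Subgroup G) : ℂ)⁻¹
          * ∑ᶠ y : (P : Subgroup G), (χ : G → ℂ) (y : G) * η y⁻¹)
      = (((((blMult (P : Subgroup G) χ ψ₁ : ℕ) : ℤ) - ((blMult (P : Subgroup G) χ ψ₂ : ℕ) : ℤ))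
        * ((blMult (P : Subgroup G) χ ψ₃ : ℕ) : ℤ) : ℤ) : ℂ) := by
    intro χ
    have e1 : (Nat.card (P : Subgroup G) : ℂ)⁻¹
          * ∑ᶠ y : (P : Subgroup G), (χ : G → ℂ) (y : G) * θ y⁻¹
        = ((blMult (P : Subgroup G) χ ψ₁ : ℕ) : ℂ) - ((blMult (P : Subgroup G) χ ψ₂ : ℕ) : ℂ) := by
      rw [blMult_sum, blMult_sum, finsum_eq_sum_of_fintype, ← mul_sub, ← Finset.sum_sub_distrib]
      congr 1
      apply Finset.sum_congr rfl
      intro y _
      rw [hθdef]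
      show (χ : G → ℂ) (y : G) * (((ψ₁ y⁻¹ : ℂˣ) : ℂ) - ((ψ₂ y⁻¹ : ℂˣ) : ℂ)) = _
      ring
    have e2 : (Nat.card (P : Subgroup G) : ℂ)⁻¹
          * ∑ᶠ y : (P : Subgroup G), (χ : G → ℂ) (y : G) * η y⁻¹
        = ((blMult (P : Subgroup G) χ ψ₃ : ℕ) : ℂ) := by
      rw [blMult_spec, hηdef]
    rw [e1, e2, Complex.conj_natCast]
    push_cast
    ring
  rw [Finset.sum_congr rfl (fun χ _ => hL χ), ← Int.cast_sum] at key
  -- the right-hand side
  have hR1 : ∀ y : (P : Subgroup G),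
      ∑ᶠ x : ↥(Subgroup.normalizer ((P : Subgroup G) : Set G)),
        extendByZero (P : Subgroup G) η ((x : G) * (y : G) * (x : G)⁻¹)
      = ∑ x : ↥(Subgroup.normalizer ((P : Subgroup G) : Set G)),
        ((blTw (P : Subgroup G) x x.2 ψ₃ y : ℂˣ) : ℂ) := by
    intro y
    rw [finsum_eq_sum_of_fintype]
    apply Finset.sum_congr rfl
    intro x _
    rw [← blConj_coe (P : Subgroup G) x x.2 y, Cfsg.Agent.Lib.helper19.extendByZero_coe, hηdef,
      blTw_apply]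
  have hK : ∀ ψ : (P : Subgroup G) →* ℂˣ,
      ∑ x : ↥(Subgroup.normalizer ((P : Subgroup G) : Set G)),
        (if ψ = blTw (P : Subgroup G) x x.2 ψ₃ then (Nat.card (P : Subgroup G) : ℂ) else 0)
      = (Nat.card (P : Subgroup G) : ℂ)
        * (Nat.card {x : ↥(Subgroup.normalizer ((P : Subgroup G) : Set G)) //
            blTw (P : Subgroup G) x x.2 ψ₃ = ψ} : ℂ) := by
    intro ψ
    rw [← Finset.sum_filter, Finset.sum_const, nsmul_eq_mul, mul_comm]
    congr 2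
    rw [Nat.card_eq_fintype_card, Fintype.card_subtype]
    congr 1
    ext x
    simp only [Finset.mem_filter, Finset.mem_univ, true_and]
    exact eq_comm
  have hR2 : ∑ᶠ y : (P : Subgroup G), θ y
        * conj (∑ᶠ x : ↥(Subgroup.normalizer ((P : Subgroup G) : Set G)),
          extendByZero (P : Subgroup G) η ((x : G) * (y : G) * (x : G)⁻¹))
      = (Nat.card (P : Subgroup G) : ℂ)
          * (Nat.card {x : ↥(Subgroup.normalizer ((P : Subgroup G) : Set G)) //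
            blTw (P : Subgroup G) x x.2 ψ₃ = ψ₁} : ℂ)
        - (Nat.card (P : Subgroup G) : ℂ)
          * (Nat.card {x : ↥(Subgroup.normalizer ((P : Subgroup G) : Set G)) //
            blTw (P : Subgroup G) x x.2 ψ₃ = ψ₂} : ℂ) := by
    rw [finsum_eq_sum_of_fintype, ← hK ψ₁, ← hK ψ₂, ← Finset.sum_sub_distrib]
    have h1 : ∀ y : (P : Subgroup G), θ y
        * conj (∑ᶠ x : ↥(Subgroup.normalizer ((P : Subgroup G) : Set G)),
          extendByZero (P : Subgroup G) η ((x : G) * (y : G) * (x : G)⁻¹))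
        = ∑ x : ↥(Subgroup.normalizer ((P : Subgroup G) : Set G)),
          (((ψ₁ y : ℂˣ) : ℂ) * conj ((blTw (P : Subgroup G) x x.2 ψ₃ y : ℂˣ) : ℂ)
            - ((ψ₂ y : ℂˣ) : ℂ) * conj ((blTw (P : Subgroup G) x x.2 ψ₃ y : ℂˣ) : ℂ)) := by
      intro y
      rw [hR1 y, map_sum, Finset.mul_sum, hθdef]
      apply Finset.sum_congr rfl
      intro x _
      show (((ψ₁ y : ℂˣ) : ℂ) - ((ψ₂ y : ℂˣ) : ℂ)) * _ = _
      ring
    rw [Finset.sum_congr rfl (fun y _ => h1 y), Finset.sum_comm]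
    apply Finset.sum_congr rfl
    intro x _
    rw [Finset.sum_sub_distrib, bl_sum_mul_conj, bl_sum_mul_conj]
  rw [hR2] at key
  -- the values of the counts
  have hfree := bl_hfree (P : Subgroup G) hfrob
  have hNC := bl_card_NC (P : Subgroup G) m hCN
  have hfull : Nat.card {x : ↥(Subgroup.normalizer ((P : Subgroup G) : Set G)) //
      blTw (P : Subgroup G) x x.2 (1 : (P : Subgroup G) →* ℂˣ) = 1}
      = Nat.card ↥(Subgroup.normalizer ((P : Subgroup G) : Set G)) :=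
    Nat.card_congr (Equiv.subtypeUnivEquiv
      (fun x : ↥(Subgroup.normalizer ((P : Subgroup G) : Set G)) =>
        blTw_one_hom (P : Subgroup G) (x : G) x.2))
  have hKval : ∀ ψ : (P : Subgroup G) →* ℂˣ,
      (Nat.card {x : ↥(Subgroup.normalizer ((P : Subgroup G) : Set G)) //
        blTw (P : Subgroup G) x x.2 ψ₃ = ψ} : ℂ)
      = (Nat.card (Subgroup.centralizer ((P : Subgroup G) : Set G)) : ℂ)
        * (((if ψ₃ = 1 then (if ψ = 1 then (m : ℤ) else 0)
          else (if blRel (P : Subgroup G) ψ ψ₃ then 1 else 0) : ℤ)) : ℂ) := by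
    intro ψ
    by_cases h3 : ψ₃ = 1
    · rw [if_pos h3]
      subst h3
      by_cases h : ψ = 1
      · rw [if_pos h]
        subst h
        rw [hfull, ← hNC]
        push_cast
        ring
      · rw [if_neg h]
        haveI : IsEmpty {x : ↥(Subgroup.normalizer ((P : Subgroup G) : Set G)) //
            blTw (P : Subgroup G) x x.2 1 = ψ} :=
          ⟨fun x => h (x.2.symm.trans (blTw_one_hom _ _ _))⟩
        rw [Nat.card_of_isEmpty]
        simp
    · rw [if_neg h3]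
      by_cases hr : blRel (P : Subgroup G) ψ ψ₃
      · rw [if_pos hr, bl_card_tw_eq (P : Subgroup G) hab' hfree ψ ψ₃ h3 hr]
        simp
      · rw [if_neg hr]
        haveI : IsEmpty {x : ↥(Subgroup.normalizer ((P : Subgroup G) : Set G)) //
            blTw (P : Subgroup G) x x.2 ψ₃ = ψ} :=
          ⟨fun x => hr ((blRel_iff (P : Subgroup G) ψ ψ₃).mpr ⟨x.1, x.1.2, x.2⟩)⟩
        rw [Nat.card_of_isEmpty]
        simp
  rw [hKval ψ₁, hKval ψ₂] at key
  apply Int.cast_injective (α := ℂ)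
  rw [key]
  push_cast
  field_simp

end

end Cfsg.Agent.Lib.helper81
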