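import Mathlib
import Cfsg.Prelude.Def_Characters
import Cfsg.Prelude.Def_Blocks
import Cfsg.Agent.Lib.helper83.CharBasic
import Cfsg.Agent.Lib.helper79.GaloisChar

/-!
# S4484: definitions for the split project (helper81)

`proj M p lam` is the spectral projector of a matrix `M` with `M ^ p = 1` at the `p`-th root of
unity `lam`: `proj M p lam = p⁻¹ • ∑ l < p, lam⁻¹ ^ l • M ^ l`.
See `tools/S4484_SPEC.md`.
-/

set_option autoImplicit false

namespace Cfsg.Agent.Lib.helper81.S4484

/-- Spectral projector of `M` (with `M ^ p = 1`) at the `p`-th root of unity `lam`. -/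
noncomputable def proj {n : ℕ} (M : Matrix (Fin n) (Fin n) ℂ) (p : ℕ) (lam : ℂ) :
    Matrix (Fin n) (Fin n) ℂ :=
  (p : ℂ)⁻¹ • ∑ l ∈ Finset.range p, (lam⁻¹) ^ l • M ^ l

end Cfsg.Agent.Lib.helper81.S4484
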