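import Mathlib

set_option autoImplicit false

/-! `SL₂(F)` and `PSL₂(F)` over a field of characteristic two: trivial centre, and commuting is a
transitive relation on the non-identity elements (helper81). -/

namespace Cfsg.Agent.Lib.helper81

open Matrix

variable {F : Type*} [Field F]

/-- In characteristic two the centre of `SL₂(F)` is trivial. -/
theorem h81_sl2_center_eq_bot (h2 : (2 : F) = 0) :
    Subgroup.center (Matrix.SpecialLinearGroup (Fin 2) F) = ⊥ := by
  rw [eq_bot_iff]
  intro A hA
  obtain ⟨r, hr, hrA⟩ := Matrix.SpecialLinearGroup.mem_center_iff.mp hA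
  rw [Fintype.card_fin] at hr
  have hr1 : r = 1 := by
    have h : (r - 1) ^ 2 = 0 := by linear_combination hr + (1 - r) * h2
    exact sub_eq_zero.mp ((pow_eq_zero_iff two_ne_zero).mp h)
  rw [Subgroup.mem_bot]
  apply Subtype.ext
  rw [← hrA, hr1]
  simp

/-- Two `2 × 2` matrices commuting with a common non-scalar matrix commute (entrywise form). -/
theorem h81_ct_aux {p q r s a b c d p' q' r' s' : F}
    (e1 : p * a + q * c = a * p + b * r) (e2 : p * b + q * d = a * q + b * s)
    (e3 : r * a + s * c = c * p + d * r)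
    (f1 : a * p' + b * r' = p' * a + q' * c) (f2 : a * q' + b * s' = p' * b + q' * d)
    (f3 : c * p' + d * r' = r' * a + s' * c)
    (hns : b ≠ 0 ∨ c ≠ 0 ∨ a - d ≠ 0) :
    p * p' + q * r' = p' * p + q' * r ∧ p * q' + q * s' = p' * q + q' * s ∧
      r * p' + s * r' = r' * p + s' * r ∧ r * q' + s * s' = r' * q + s' * s := by
  rcases hns with hb | hc | he
  · refine ⟨?_, ?_, ?_, ?_⟩
    · apply mul_left_cancel₀ hb
      linear_combination q * f1 + q' * e1
    · apply mul_left_cancel₀ hb
      linear_combination q' * e2 + q * f2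
    · apply mul_left_cancel₀ (pow_ne_zero 2 hb)
      linear_combination (-c * q') * e2 + (-c * q) * f2 + (-b * (p' - s')) * e1 + (-b * (p - s)) * f1
    · apply mul_left_cancel₀ hb
      linear_combination (-q') * e1 + (-q) * f1
  · refine ⟨?_, ?_, ?_, ?_⟩
    · apply mul_left_cancel₀ hc
      linear_combination r' * e1 + r * f1
    · apply mul_left_cancel₀ (pow_ne_zero 2 hc)
      linear_combination (-b * r') * e3 + (-b * r) * f3 + (-c * (p - s)) * f1 + (-c * (p' - s')) * e1
    · apply mul_left_cancel₀ hc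
      linear_combination r * f3 + r' * e3
    · apply mul_left_cancel₀ hc
      linear_combination (-r) * f1 + (-r') * e1
  · refine ⟨?_, ?_, ?_, ?_⟩
    · apply mul_left_cancel₀ he
      linear_combination (p - s) * f1 + (-r') * e2 + (-q') * e3
    · apply mul_left_cancel₀ he
      linear_combination (p - s) * f2 + (p' - s') * e2
    · apply mul_left_cancel₀ he
      linear_combination (p' - s') * e3 + (p - s) * f3
    · apply mul_left_cancel₀ he
      linear_combination (-(p - s)) * f1 + q' * e3 + r' * e2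

/-- In `SL₂(F)`, `F` of characteristic two: two elements commuting with a common non-identity element
commute. -/
theorem h81_sl2_ct (h2 : (2 : F) = 0) {x y z : Matrix.SpecialLinearGroup (Fin 2) F} (hy : y ≠ 1)
    (hxy : Commute x y) (hyz : Commute y z) : Commute x z := by
  have hxy' : (x : Matrix (Fin 2) (Fin 2) F) * (y : Matrix (Fin 2) (Fin 2) F)
      = (y : Matrix (Fin 2) (Fin 2) F) * (x : Matrix (Fin 2) (Fin 2) F) := by
    have := congrArg Subtype.val hxy.eq
    simpa using this
  have hyz' : (y : Matrix (Fin 2) (Fin 2) F) * (z : Matrix (Fin 2) (Fin 2) F)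
      = (z : Matrix (Fin 2) (Fin 2) F) * (y : Matrix (Fin 2) (Fin 2) F) := by
    have := congrArg Subtype.val hyz.eq
    simpa using this
  have e1 := congrFun (congrFun hxy' 0) 0
  have e2 := congrFun (congrFun hxy' 0) 1
  have e3 := congrFun (congrFun hxy' 1) 0
  have f1 := congrFun (congrFun hyz' 0) 0
  have f2 := congrFun (congrFun hyz' 0) 1
  have f3 := congrFun (congrFun hyz' 1) 0
  simp only [Matrix.mul_apply, Fin.sum_univ_two] at e1 e2 e3 f1 f2 f3
  have hns : (y : Matrix (Fin 2) (Fin 2) F) 0 1 ≠ 0 ∨ (y : Matrix (Fin 2) (Fin 2) F) 1 0 ≠ 0 ∨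
      (y : Matrix (Fin 2) (Fin 2) F) 0 0 - (y : Matrix (Fin 2) (Fin 2) F) 1 1 ≠ 0 := by
    by_contra hcon
    push Not at hcon
    obtain ⟨hb, hc, had⟩ := hcon
    apply hy
    have hdet := y.det_coe
    rw [Matrix.det_fin_two] at hdet
    have had' : (y : Matrix (Fin 2) (Fin 2) F) 1 1 = (y : Matrix (Fin 2) (Fin 2) F) 0 0 :=
      (sub_eq_zero.mp had).symm
    rw [hb, hc, had'] at hdet
    have ha : (y : Matrix (Fin 2) (Fin 2) F) 0 0 = 1 := by
      have h : ((y : Matrix (Fin 2) (Fin 2) F) 0 0 - 1) ^ 2 = 0 := by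
        linear_combination hdet + (1 - (y : Matrix (Fin 2) (Fin 2) F) 0 0) * h2
      exact sub_eq_zero.mp ((pow_eq_zero_iff two_ne_zero).mp h)
    apply Subtype.ext
    ext i j
    fin_cases i <;> fin_cases j <;> simp [ha, hb, hc, had']
  obtain ⟨g1, g2, g3, g4⟩ := h81_ct_aux e1 e2 e3 f1 f2 f3 hns
  apply Subtype.ext
  show (x : Matrix (Fin 2) (Fin 2) F) * (z : Matrix (Fin 2) (Fin 2) F)
      = (z : Matrix (Fin 2) (Fin 2) F) * (x : Matrix (Fin 2) (Fin 2) F)
  ext i j
  fin_cases i <;> fin_cases j <;> simp only [Matrix.mul_apply, Fin.sum_univ_two]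
  · exact g1
  · exact g2
  · exact g3
  · exact g4

/-- `PSL₂(F)`, `F` of characteristic two: two elements commuting with a common non-identity element
commute. -/
theorem h81_psl2_ct (h2 : (2 : F) = 0) (a b c : Matrix.ProjectiveSpecialLinearGroup (Fin 2) F)
    (hb : b ≠ 1) (hab : Commute a b) (hbc : Commute b c) : Commute a c := by
  obtain ⟨x, rfl⟩ := QuotientGroup.mk_surjective a
  obtain ⟨y, rfl⟩ := QuotientGroup.mk_surjective b
  obtain ⟨z, rfl⟩ := QuotientGroup.mk_surjective c
  have hinj : ∀ u v : Matrix.SpecialLinearGroup (Fin 2) F,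
      (QuotientGroup.mk u : Matrix.ProjectiveSpecialLinearGroup (Fin 2) F) = QuotientGroup.mk v → u = v := by
    intro u v h
    have h' := QuotientGroup.eq.mp h
    rw [h81_sl2_center_eq_bot h2, Subgroup.mem_bot] at h'
    exact inv_mul_eq_one.mp h'
  have hxy : Commute x y := hinj _ _ (by rw [QuotientGroup.mk_mul, QuotientGroup.mk_mul]; exact hab.eq)
  have hyz : Commute y z := hinj _ _ (by rw [QuotientGroup.mk_mul, QuotientGroup.mk_mul]; exact hbc.eq)
  have hy : y ≠ 1 := by
    rintro rfl
    exact hb rfl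
  have hxz := h81_sl2_ct h2 hy hxy hyz
  show (QuotientGroup.mk x : Matrix.ProjectiveSpecialLinearGroup (Fin 2) F) * QuotientGroup.mk z
      = QuotientGroup.mk z * QuotientGroup.mk x
  rw [← QuotientGroup.mk_mul, ← QuotientGroup.mk_mul, hxz.eq]

/-- In characteristic two, `SL₂(F) ≃* PSL₂(F)`. -/
noncomputable def h81_sl2_equiv_psl2 (h2 : (2 : F) = 0) :
    Matrix.SpecialLinearGroup (Fin 2) F ≃* Matrix.ProjectiveSpecialLinearGroup (Fin 2) F :=
  ((QuotientGroup.quotientMulEquivOfEq (h81_sl2_center_eq_bot h2)).trans QuotientGroup.quotientBot).symm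

end Cfsg.Agent.Lib.helper81
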