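import Mathlib

/-!
# S4414: shared definitions (weights of a normal abelian subgroup on a representation)

`cj Y g μ` : conjugation action of `g : S` on a character `μ : Y →* Fˣ` of the normal subgroup `Y`,
`(cj Y g μ) y = μ (g⁻¹ y g)`.
`proj R Y μ = ∑ y, μ(y⁻¹) • R y` : the (unnormalised) projection onto the `μ`-weight space
(in characteristic 2 with `|Y|` odd it is an idempotent).
`fixT R T` : the fixed points of the subgroup `T`.
`supp R Y v` : the weights `ν` with `proj R Y ν v ≠ 0`.  `orb Y T μ` : the `T`-orbit of `μ`.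
`bc F ρ` : base change of a representation over `ZMod 2` to an extension field `F`.
-/

set_option autoImplicit false

namespace Cfsg.Agent.Lib.helper81.WT

open scoped TensorProduct

universe u v w

section
variable {S : Type u} [Group S] {F : Type w} [Field F] {V : Type v} [AddCommGroup V] [Module F V]

/-- conjugation action on characters of a normal subgroup: `(cj Y g μ) y = μ (g⁻¹ * y * g)`. -/
noncomputable def cj (Y : Subgroup S) [Y.Normal] (g : S) (μ : ↥Y →* Fˣ) : ↥Y →* Fˣ :=
  μ.comp (MulAut.conjNormal g⁻¹ : ↥Y ≃* ↥Y).toMonoidHom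

theorem cj_apply (Y : Subgroup S) [Y.Normal] (g : S) (μ : ↥Y →* Fˣ) (y : ↥Y) :
    cj Y g μ y = μ (MulAut.conjNormal g⁻¹ y) := rfl

theorem cj_one (Y : Subgroup S) [Y.Normal] (μ : ↥Y →* Fˣ) : cj Y (1 : S) μ = μ := by
  ext y; simp [cj]

theorem cj_mul (Y : Subgroup S) [Y.Normal] (g h : S) (μ : ↥Y →* Fˣ) :
    cj Y (g * h) μ = cj Y g (cj Y h μ) := by
  ext y; simp [cj, mul_inv_rev, map_mul]

/-- unnormalised projection onto the `μ`-weight space. -/
noncomputable def proj (R : Representation F S V) (Y : Subgroup S) [Fintype ↥Y] (μ : ↥Y →* Fˣ) :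
    V →ₗ[F] V :=
  ∑ y : ↥Y, ((μ y⁻¹ : Fˣ) : F) • R (y : S)

theorem proj_apply (R : Representation F S V) (Y : Subgroup S) [Fintype ↥Y] (μ : ↥Y →* Fˣ) (v : V) :
    proj R Y μ v = ∑ y : ↥Y, ((μ y⁻¹ : Fˣ) : F) • R (y : S) v := by
  simp [proj, LinearMap.sum_apply]

/-- fixed points of a subgroup. -/
def fixT (R : Representation F S V) (T : Subgroup S) : Submodule F V where
  carrier := {v | ∀ s ∈ T, R s v = v}
  add_mem' := by
    intro a b ha hb s hs
    rw [map_add, ha s hs, hb s hs]
  zero_mem' := by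
    intro s _
    exact map_zero _
  smul_mem' := by
    intro c a ha s hs
    rw [map_smul, ha s hs]

theorem mem_fixT (R : Representation F S V) (T : Subgroup S) (v : V) :
    v ∈ fixT R T ↔ ∀ s ∈ T, R s v = v := Iff.rfl

/-- the weights occurring in `v`. -/
def supp (R : Representation F S V) (Y : Subgroup S) [Fintype ↥Y] (v : V) : Set (↥Y →* Fˣ) :=
  {ν | proj R Y ν v ≠ 0}

/-- the `T`-orbit of a character. -/
def orb (Y : Subgroup S) [Y.Normal] (T : Subgroup S) (μ : ↥Y →* Fˣ) : Set (↥Y →* Fˣ) :=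
  {ν | ∃ t ∈ T, ν = cj Y t μ}

end

section
variable {S : Type u} [Group S] {E : Type v} [AddCommGroup E] [Module (ZMod 2) E]

/-- base change of a representation over `ZMod 2` to `F`. -/
noncomputable def bc (F : Type w) [Field F] [Algebra (ZMod 2) F] (ρ : Representation (ZMod 2) S E) :
    Representation F S (F ⊗[ZMod 2] E) where
  toFun s := (ρ s).baseChange F
  map_one' := by
    rw [map_one]
    ext x
    simp
  map_mul' := by
    intro a b
    rw [map_mul]
    ext x
    simp

theorem bc_apply (F : Type w) [Field F] [Algebra (ZMod 2) F] (ρ : Representation (ZMod 2) S E) (s : S) :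
    bc F ρ s = (ρ s).baseChange F := rfl

theorem bc_tmul (F : Type w) [Field F] [Algebra (ZMod 2) F] (ρ : Representation (ZMod 2) S E) (s : S)
    (a : F) (e : E) : bc F ρ s (a ⊗ₜ[ZMod 2] e) = a ⊗ₜ[ZMod 2] (ρ s e) := by
  simp [bc_apply]

end

end Cfsg.Agent.Lib.helper81.WT
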