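import Mathlib
import Cfsg.Prelude.Def_Characters
import Cfsg.Agent.Lib.helper81.CharOrtho
import Cfsg.Agent.Lib.helper81.Blocks

/-!
# S0996, sub-piece BETA-CL (helper81): a lower bound for a centralizer from column orthogonality
-/

set_option autoImplicit false

namespace Cfsg.Agent.Lib.helper81.Br

open Cfsg
open scoped ComplexConjugate

universe u

/-- BETA-CL : lower bound for a centralizer from column orthogonality. -/
theorem beta_cent_lower {G : Type u} [Group G] [Fintype G] (p : ℕ) (hp5 : 5 ≤ p)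
    (Y : Set (IrrCharacter G)) (hY : 2 * Nat.card Y = p - 1)
    (hθ1 : ∀ θ ∈ Y, (θ : G → ℂ) 1 = (p : ℂ) - 2)
    (g : G) (hθg : ∀ θ ∈ Y, (θ : G → ℂ) g = -1) :
    p + 1 ≤ 2 * Nat.card (Subgroup.centralizer ({g} : Set G)) := by
  classical
  have hcol := Cfsg.Agent.Lib.helper81.irr_col_orth g g
  rw [if_pos (IsConj.refl g)] at hcol
  -- real form
  have hre : ∑ χ : IrrCharacter G, Complex.normSq ((χ : G → ℂ) g) =
      (Nat.card (Subgroup.centralizer ({g} : Set G)) : ℝ) := by
    have h1 : ∀ χ : IrrCharacter G, (χ : G → ℂ) g * conj ((χ : G → ℂ) g) =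
        ((Complex.normSq ((χ : G → ℂ) g) : ℝ) : ℂ) := fun χ => Complex.mul_conj _
    simp_rw [h1] at hcol
    rw [← Complex.ofReal_sum] at hcol
    have h2 : ((Nat.card (Subgroup.centralizer ({g} : Set G)) : ℕ) : ℂ) =
        (((Nat.card (Subgroup.centralizer ({g} : Set G)) : ℕ) : ℝ) : ℂ) := by simp
    rw [h2] at hcol
    exact_mod_cast hcol
  -- the subset `insert triv Y`
  set T : IrrCharacter G := Cfsg.Agent.Lib.helper81.trivChar G with hT
  have hTY : T ∉ Y := by
    intro h
    have h1 := hθ1 T h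
    rw [hT, Cfsg.Agent.Lib.helper81.trivChar_apply] at h1
    have h2 : (p : ℂ) = 3 := by linear_combination -h1
    have h3 : p = 3 := by exact_mod_cast h2
    omega
  have hYfin : Y.Finite := Set.toFinite Y
  set S : Finset (IrrCharacter G) := insert T hYfin.toFinset with hS
  have hTS : T ∉ hYfin.toFinset := by
    rw [Set.Finite.mem_toFinset]
    exact hTY
  have hsub : ∑ χ ∈ S, Complex.normSq ((χ : G → ℂ) g) ≤
      ∑ χ : IrrCharacter G, Complex.normSq ((χ : G → ℂ) g) :=
    Finset.sum_le_sum_of_subset_of_nonneg (Finset.subset_univ S)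
      (fun χ _ _ => Complex.normSq_nonneg _)
  have hSsum : ∑ χ ∈ S, Complex.normSq ((χ : G → ℂ) g) = 1 + (Nat.card Y : ℝ) := by
    rw [hS, Finset.sum_insert hTS]
    have h1 : Complex.normSq ((T : G → ℂ) g) = 1 := by
      rw [hT, Cfsg.Agent.Lib.helper81.trivChar_apply]
      simp
    have h2 : ∑ χ ∈ hYfin.toFinset, Complex.normSq ((χ : G → ℂ) g) =
        ∑ χ ∈ hYfin.toFinset, (1 : ℝ) := by
      refine Finset.sum_congr rfl (fun χ hχ => ?_)
      rw [Set.Finite.mem_toFinset] at hχ
      rw [hθg χ hχ]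
      simp
    rw [h1, h2, Finset.sum_const, nsmul_eq_mul, mul_one]
    congr 1
    rw [Nat.card_eq_card_finite_toFinset hYfin]
  rw [hre, hSsum] at hsub
  have h3 : 1 + Nat.card Y ≤ Nat.card (Subgroup.centralizer ({g} : Set G)) := by
    exact_mod_cast hsub
  omega

end Cfsg.Agent.Lib.helper81.Br
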