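import Mathlib
import Cfsg.Prelude.Def_Characters
import Cfsg.Agent.Lib.helper81.CharOrtho
import Cfsg.Agent.Lib.helper73.M11_V

/-!
# S0996, sub-piece BETA-DZ (helper81): defect-zero vanishing in coprime form
-/

set_option autoImplicit false

namespace Cfsg.Agent.Lib.helper81.Br

open Cfsg

universe u

/-- BETA-DZ : defect-zero vanishing in coprime form. -/
theorem beta_defect_zero {G : Type u} [Group G] [Fintype G] (ψ : IrrCharacter G) (d k : ℕ)
    (hd : (ψ : G → ℂ) 1 = (d : ℂ)) (hcard : Nat.card G = d * k) (hcop : Nat.Coprime d k)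
    (g : G) (hg : ¬ (orderOf g).Coprime d) : (ψ : G → ℂ) g = 0 := by
  have hdeg : charDegree (ψ : G → ℂ) = d := by
    have h1 := Cfsg.Agent.Lib.helper81.irr_one_eq_charDegree ψ
    rw [hd] at h1
    exact_mod_cast h1.symm
  have hd0 : d ≠ 0 := by
    have := Cfsg.Agent.Lib.helper81.irr_charDegree_pos ψ
    omega
  obtain ⟨r, hr, hrg, hrd⟩ := Nat.Prime.not_coprime_iff_dvd.mp hg
  have hG0 : Nat.card G ≠ 0 := Nat.card_pos.ne'
  have hk0 : k ≠ 0 := by
    rintro rfl
    rw [mul_zero] at hcard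
    exact hG0 hcard
  have hrk : ¬ r ∣ k := by
    intro h
    have := Nat.dvd_gcd hrd h
    rw [hcop.gcd_eq_one] at this
    exact hr.one_lt.ne' (Nat.dvd_one.mp this)
  refine Cfsg.Agent.Lib.helper73.irr_vanish_of_defect_zero ψ r (d.factorization r) hr ?_ ?_ ?_ g hrg
  · rw [hcard]
    exact Dvd.dvd.mul_right (Nat.ordProj_dvd d r) k
  · intro h
    rw [hcard] at h
    have h1 : r ^ (d.factorization r + 1) ∣ d := by
      refine Nat.Coprime.dvd_of_dvd_mul_right ?_ h
      exact Nat.Coprime.pow_left _ ((Nat.Prime.coprime_iff_not_dvd hr).2 hrk)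
    exact Nat.pow_succ_factorization_not_dvd hd0 hr h1
  · rw [hdeg]
    exact Nat.ordProj_dvd d r

end Cfsg.Agent.Lib.helper81.Br
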