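import Mathlib
import Cfsg.Prelude.Def_Characters
import Cfsg.Agent.S1230

/-!
# S0996, sub-piece BETA-FIN (helper81): recognition of `PSL(2, 2^m)` via S1230
-/

set_option autoImplicit false

namespace Cfsg.Agent.Lib.helper81.Br

open Cfsg

universe u

/-- BETA-FIN : recognition via the landed S1230. -/
theorem beta_final {G : Type u} [Group G] [Fintype G] (p m : ℕ) (hp : p.Prime) (hp5 : 5 ≤ p)
    (hcard : Nat.card G = p * (p - 1) * (p - 2)) (hm : p - 1 = 2 ^ m)
    (hcount : Nat.card {g : G // ¬ (orderOf g).Coprime (p - 1)} = p * (p - 2))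
    (hord2 : ∀ g : G, ¬ (orderOf g).Coprime (p - 1) → orderOf g = 2)
    (hcent : ∀ g : G, ¬ (orderOf g).Coprime (p - 1) →
      Nat.card (Subgroup.centralizer ({g} : Set G)) = p - 1) :
    ∃ (F : Type) (_ : Field F) (_ : Fintype F), Fintype.card F = 2 ^ m ∧
      Nonempty (G ≃* Matrix.ProjectiveSpecialLinearGroup (Fin 2) F) := by
  classical
  haveI : Fact (Nat.Prime 2) := ⟨Nat.prime_two⟩
  -- `m ≥ 2`
  have hm2 : 2 ≤ m := by
    by_contra hcon
    have hm1 : m ≤ 1 := by omega
    have : 2 ^ m ≤ 2 ^ 1 := Nat.pow_le_pow_right (by norm_num) hm1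
    omega
  have h2dvd : 2 ∣ p - 1 := by
    rw [hm]
    exact dvd_pow_self 2 (by omega)
  -- elements of even order are of type 1
  have htype : ∀ x : G, 2 ∣ orderOf x → ¬ (orderOf x).Coprime (p - 1) := by
    intro x hx
    exact Nat.Prime.not_coprime_iff_dvd.mpr ⟨2, Nat.prime_two, hx, h2dvd⟩
  -- elements of 2-power order square to 1
  have hsq : ∀ x : G, ∀ k : ℕ, orderOf x ∣ 2 ^ k → x ^ 2 = 1 := by
    intro x k hk
    obtain ⟨j, -, hj⟩ := (Nat.dvd_prime_pow Nat.prime_two).mp hk
    rcases Nat.eq_zero_or_pos j with h0 | h0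
    · rw [h0, pow_zero] at hj
      rw [orderOf_eq_one_iff.mp hj, one_pow]
    · have h2 : 2 ∣ orderOf x := by
        rw [hj]
        exact dvd_pow_self 2 (by omega)
      have := hord2 x (htype x h2)
      rw [← this]
      exact pow_orderOf_eq_one x
  -- the Sylow 2-subgroup
  let T : Sylow 2 G := default
  have hp2 : ¬ 2 ∣ p := by
    intro h
    have := (Nat.prime_dvd_prime_iff_eq Nat.prime_two hp).mp h
    omega
  have hp2' : ¬ 2 ∣ p - 2 := by
    intro h
    apply hp2
    have : p = (p - 2) + 2 := by omega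
    rw [this]
    exact Dvd.dvd.add h (dvd_refl 2)
  have hfac : (Nat.card G).factorization 2 = m := by
    rw [hcard, hm]
    rw [Nat.factorization_mul (by positivity) (by omega),
      Nat.factorization_mul (by omega) (by positivity)]
    simp [Nat.factorization_eq_zero_of_not_dvd hp2, Nat.factorization_eq_zero_of_not_dvd hp2',
      Nat.Prime.factorization_pow Nat.prime_two]
  have hT : Nat.card T = 2 ^ m := by
    rw [Sylow.card_eq_multiplicity T, hfac]
  -- elements of `T` square to 1
  have hTsq : ∀ x : G, x ∈ (T : Subgroup G) → x ^ 2 = 1 := by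
    intro x hx
    have h1 : orderOf (⟨x, hx⟩ : (T : Subgroup G)) ∣ Nat.card T := orderOf_dvd_natCard _
    rw [hT] at h1
    have h2 : orderOf (⟨x, hx⟩ : (T : Subgroup G)) = orderOf x := by
      rw [← Subgroup.orderOf_coe]
    rw [h2] at h1
    exact hsq x m h1
  -- `T` is not cyclic
  have hnc : ¬ IsCyclic (T : Subgroup G) := by
    intro hcyc
    obtain ⟨g, hg⟩ := hcyc.exists_generator
    have h1 : orderOf g = Nat.card T := orderOf_eq_card_of_forall_mem_zpowers hg
    have h2 : (g : G) ^ 2 = 1 := hTsq g g.2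
    have h3 : g ^ 2 = 1 := by
      apply Subtype.ext
      simpa using h2
    have h4 : orderOf g ∣ 2 := orderOf_dvd_of_pow_eq_one h3
    rw [h1, hT] at h4
    have h5 := Nat.le_of_dvd (by norm_num) h4
    have h6 : 2 ^ 2 ≤ 2 ^ m := Nat.pow_le_pow_right (by norm_num) hm2
    omega
  -- `T` is not normal
  have hnn : ¬ (T : Subgroup G).Normal := by
    intro hnorm
    haveI := Sylow.unique_of_normal T hnorm
    have hmem : ∀ g : G, ¬ (orderOf g).Coprime (p - 1) → g ∈ (T : Subgroup G) := by
      intro g hg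
      have h2 := hord2 g hg
      have hpg : IsPGroup 2 (Subgroup.zpowers g) := by
        rw [IsPGroup.iff_card]
        refine ⟨1, ?_⟩
        rw [Nat.card_zpowers, h2, pow_one]
      obtain ⟨Q, hQ⟩ := hpg.exists_le_sylow
      have hQT : Q = T := Subsingleton.elim Q T
      rw [hQT] at hQ
      exact hQ (Subgroup.mem_zpowers g)
    have hle : Nat.card {g : G // ¬ (orderOf g).Coprime (p - 1)} ≤ Nat.card T := by
      refine Nat.card_le_card_of_injective
        (fun g : {g : G // ¬ (orderOf g).Coprime (p - 1)} =>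
          (⟨g.1, hmem g.1 g.2⟩ : (T : Subgroup G))) ?_
      intro a b hab
      apply Subtype.ext
      have := congrArg (fun x : (T : Subgroup G) => (x : G)) hab
      simpa using this
    rw [hcount, hT, ← hm] at hle
    have : p * 3 ≤ p * (p - 2) := Nat.mul_le_mul_left p (by omega)
    omega
  -- involution centralizers are elementary abelian
  have hC : ∀ t : G, orderOf t = 2 → IsMulCommutative (Subgroup.centralizer ({t} : Set G)) ∧
      ∀ c ∈ Subgroup.centralizer ({t} : Set G), c ^ 2 = 1 := by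
    intro t ht
    have htt : ¬ (orderOf t).Coprime (p - 1) := htype t (by rw [ht])
    have hcard' := hcent t htt
    rw [hm] at hcard'
    have hsq' : ∀ c ∈ Subgroup.centralizer ({t} : Set G), c ^ 2 = 1 := by
      intro c hc
      have h1 : orderOf (⟨c, hc⟩ : Subgroup.centralizer ({t} : Set G)) ∣
          Nat.card (Subgroup.centralizer ({t} : Set G)) := orderOf_dvd_natCard _
      rw [hcard'] at h1
      have h2 : orderOf (⟨c, hc⟩ : Subgroup.centralizer ({t} : Set G)) = orderOf c := by
        rw [← Subgroup.orderOf_coe]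
      rw [h2] at h1
      exact hsq c m h1
    refine ⟨⟨⟨fun a b => ?_⟩⟩, hsq'⟩
    apply Subtype.ext
    show (a : G) * (b : G) = (b : G) * (a : G)
    have ha := hsq' a a.2
    have hb := hsq' b b.2
    have hab := hsq' ((a : G) * (b : G)) (Subgroup.mul_mem _ a.2 b.2)
    have ha' : (a : G)⁻¹ = a := by
      rw [inv_eq_iff_mul_eq_one, ← pow_two]
      exact ha
    have hb' : (b : G)⁻¹ = b := by
      rw [inv_eq_iff_mul_eq_one, ← pow_two]
      exact hb
    have h3 : ((a : G) * (b : G))⁻¹ = (a : G) * (b : G) := by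
      rw [inv_eq_iff_mul_eq_one, ← pow_two]
      exact hab
    rw [mul_inv_rev, ha', hb'] at h3
    exact h3.symm
  obtain ⟨F, i1, i2, hF, hiso⟩ := Cfsg.Agent.S1230.result T hnc hnn hC
  exact ⟨F, i1, i2, by rw [hF, hT], hiso⟩

end Cfsg.Agent.Lib.helper81.Br
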