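import Mathlib
import Cfsg.Prelude.Def_Characters
import Cfsg.Agent.Lib.helper81.BrBetaDZ
import Cfsg.Agent.Lib.helper81.BrBetaCL
import Cfsg.Agent.Lib.helper81.BrBetaFIN
import Cfsg.Agent.Lib.helper32.BrBetaCD
import Cfsg.Agent.Lib.helper32.BrBetaOC
import Cfsg.Agent.Lib.helper32.BrBetaCNT

/-!
# S0996, piece BETA (helper81): the case `e = 2` of Brauer's theorem

Assembly of `brauer_beta` from the sub-pieces of `tools/S0996_BETA_SPEC.md`.
-/

set_option autoImplicit false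

namespace Cfsg.Agent.Lib.helper81.Br

open Cfsg
open Cfsg.Agent.Lib.helper32.Br

universe u

/-- glue: a type-1 element has order prime to `p (p - 2)`. -/
theorem beta_type1_order {G : Type u} [Group G] [Fintype G] (p : ℕ) (hp : p.Prime)
    (χ θ : IrrCharacter G)
    (hχ0 : ∀ g : G, ¬ (orderOf g).Coprime (p - 1) → (χ : G → ℂ) g = 0)
    (hχs : ∀ g : G, p ∣ orderOf g → (χ : G → ℂ) g = -1)
    (hθ0 : ∀ g : G, ¬ (orderOf g).Coprime (p - 2) → (θ : G → ℂ) g = 0)
    (hθ : ∀ g : G, ¬ p ∣ orderOf g → (θ : G → ℂ) g = (χ : G → ℂ) g - 1)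
    (g : G) (hg : ¬ (orderOf g).Coprime (p - 1)) : (orderOf g).Coprime (p * (p - 2)) := by
  have h0 := hχ0 g hg
  have hpn : ¬ p ∣ orderOf g := by
    intro h
    have := hχs g h
    rw [h0] at this
    norm_num at this
  have h1 : (orderOf g).Coprime p := ((Nat.Prime.coprime_iff_not_dvd hp).2 hpn).symm
  have h2 : (orderOf g).Coprime (p - 2) := by
    by_contra hcon
    have ha := hθ0 g hcon
    have hb := hθ g hpn
    rw [ha, h0] at hb
    norm_num at hb
  exact Nat.Coprime.mul_right h1 h2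

/-- glue: `χ = 1` on non-identity `p`-regular elements which are not of type 1. -/
theorem beta_chi_one {G : Type u} [Group G] [Fintype G] (p : ℕ) (hp : p.Prime) (hp5 : 5 ≤ p)
    (hcard : Nat.card G = p * (p - 1) * (p - 2))
    (χ θ : IrrCharacter G)
    (hθ0 : ∀ g : G, ¬ (orderOf g).Coprime (p - 2) → (θ : G → ℂ) g = 0)
    (hθ : ∀ g : G, ¬ p ∣ orderOf g → (θ : G → ℂ) g = (χ : G → ℂ) g - 1)
    (g : G) (hg1 : g ≠ 1) (hpn : ¬ p ∣ orderOf g) (hc : (orderOf g).Coprime (p - 1)) :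
    (χ : G → ℂ) g = 1 := by
  have hdvd : orderOf g ∣ p * (p - 1) * (p - 2) := by
    rw [← hcard]
    exact orderOf_dvd_natCard g
  have h1 : (orderOf g).Coprime p := ((Nat.Prime.coprime_iff_not_dvd hp).2 hpn).symm
  have h2 : orderOf g ∣ p - 2 :=
    (Nat.Coprime.mul_right h1 hc).dvd_of_dvd_mul_left hdvd
  have hne : orderOf g ≠ 1 := by
    intro h
    exact hg1 (orderOf_eq_one_iff.mp h)
  have h3 : ¬ (orderOf g).Coprime (p - 2) := by
    intro hcop
    have : orderOf g ∣ 1 := by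
      have := Nat.dvd_gcd (dvd_refl (orderOf g)) h2
      rwa [hcop.gcd_eq_one] at this
    exact hne (Nat.dvd_one.mp this)
  have ha := hθ0 g h3
  have hb := hθ g hpn
  rw [ha] at hb
  linear_combination -hb

/-- BR-BETA : the case `e = 2`. -/
theorem brauer_beta {G : Type*} [Group G] [Fintype G] (p : ℕ) [Fact p.Prime] (hp5 : 5 ≤ p)
    (hcard : Nat.card G = p * (p - 1) * (p - 2))
    (hsing : 2 * Nat.card {g : G // p ∣ orderOf g} = (p - 1) * (p - 1) * (p - 2))
    (χ : IrrCharacter G) (hχ1 : (χ : G → ℂ) 1 = (p : ℂ) - 1)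
    (hχs : ∀ g : G, p ∣ orderOf g → (χ : G → ℂ) g = -1)
    (Y : Set (IrrCharacter G)) (hY : 2 * Nat.card Y = p - 1)
    (hθ1 : ∀ θ ∈ Y, (θ : G → ℂ) 1 = (p : ℂ) - 2)
    (hθ : ∀ θ ∈ Y, ∀ g : G, ¬ p ∣ orderOf g → (θ : G → ℂ) g = (χ : G → ℂ) g - 1) :
    ∃ (m : ℕ) (F : Type) (_ : Field F) (_ : Fintype F), Fintype.card F = 2 ^ m ∧ p = 2 ^ m + 1 ∧
      Nonempty (G ≃* Matrix.ProjectiveSpecialLinearGroup (Fin 2) F) := by
  have hp : p.Prime := Fact.out
  -- `Y` is nonempty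
  have hYne : Y.Nonempty := by
    by_contra hcon
    rw [Set.not_nonempty_iff_eq_empty] at hcon
    rw [hcon] at hY
    simp at hY
    omega
  obtain ⟨θ, hθY⟩ := hYne
  -- coprimality facts
  have hc1 : Nat.Coprime (p - 1) p := by
    refine ((Nat.Prime.coprime_iff_not_dvd hp).2 ?_).symm
    intro h
    have := Nat.le_of_dvd (by omega) h
    omega
  have hc2 : Nat.Coprime (p - 2) p := by
    refine ((Nat.Prime.coprime_iff_not_dvd hp).2 ?_).symm
    intro h
    have := Nat.le_of_dvd (by omega) h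
    omega
  have hc3 : Nat.Coprime (p - 1) (p - 2) := by
    have h : p - 1 = (p - 2) + 1 := by omega
    rw [h]
    simp
  have hχ0 : ∀ g : G, ¬ (orderOf g).Coprime (p - 1) → (χ : G → ℂ) g = 0 := by
    intro g hg
    refine beta_defect_zero χ (p - 1) (p * (p - 2)) ?_ ?_ ?_ g hg
    · rw [hχ1, Nat.cast_sub (by omega)]
      simp
    · rw [hcard]
      ring
    · exact Nat.Coprime.mul_right hc1 hc3
  have hθ0 : ∀ θ ∈ Y, ∀ g : G, ¬ (orderOf g).Coprime (p - 2) → (θ : G → ℂ) g = 0 := by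
    intro θ' hθ' g hg
    refine beta_defect_zero θ' (p - 2) (p * (p - 1)) ?_ ?_ ?_ g hg
    · rw [hθ1 θ' hθ', Nat.cast_sub (by omega)]
      simp
    · rw [hcard]
      ring
    · exact Nat.Coprime.mul_right hc2 hc3.symm
  have hord : ∀ g : G, ¬ (orderOf g).Coprime (p - 1) → (orderOf g).Coprime (p * (p - 2)) :=
    fun g hg => beta_type1_order p hp χ θ hχ0 hχs (hθ0 θ hθY) (hθ θ hθY) g hg
  have hχ2 : ∀ g : G, g ≠ 1 → ¬ p ∣ orderOf g → (orderOf g).Coprime (p - 1) →
      (χ : G → ℂ) g = 1 :=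
    fun g hg1 hpn hc => beta_chi_one p hp hp5 hcard χ θ (hθ0 θ hθY) (hθ θ hθY) g hg1 hpn hc
  have hcount := beta_count p hp hp5 hcard hsing χ hχ1 hχ0 hχs hχ2
  have hcent : ∀ g : G, ¬ (orderOf g).Coprime (p - 1) →
      Nat.card (Subgroup.centralizer ({g} : Set G)) = p - 1 := by
    intro g hg
    have hpn : ¬ p ∣ orderOf g := by
      intro h
      have h1 := hχs g h
      rw [hχ0 g hg] at h1
      norm_num at h1
    have h1 := beta_cent_lower p hp5 Y hY hθ1 g (fun θ' hθ' => by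
      rw [hθ θ' hθ' g hpn, hχ0 g hg]; ring)
    obtain ⟨c, hc⟩ := beta_cent_dvd p hp hp5 hcard hord g hg
    -- `p - 1 = |C| * c` and `p + 1 ≤ 2 |C|` force `c = 1`
    rcases Nat.lt_or_ge c 2 with hlt | hge
    · have hc1' : c = 1 := by
        rcases Nat.eq_zero_or_pos c with h0 | h0
        · rw [h0, mul_zero] at hc
          omega
        · omega
      rw [hc1', mul_one] at hc
      exact hc.symm
    · exfalso
      have : 2 * Nat.card (Subgroup.centralizer ({g} : Set G)) ≤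
          Nat.card (Subgroup.centralizer ({g} : Set G)) * c := by
        rw [mul_comm]
        exact Nat.mul_le_mul_left _ hge
      omega
  obtain ⟨⟨m, hm⟩, hord2⟩ := beta_one_class p hp hp5 hcard hcount hcent
  obtain ⟨F, i1, i2, hF, hiso⟩ := beta_final p m hp hp5 hcard hm hcount hord2 hcent
  exact ⟨m, F, i1, i2, hF, by omega, hiso⟩

end Cfsg.Agent.Lib.helper81.Br
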