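import Mathlib
import Cfsg.Prelude.Def_Characters
import Cfsg.Prelude.Def_Blocks
import Cfsg.Agent.Lib.helper84.BrDefs
import Cfsg.Agent.Lib.helper84.Frobenius
import Cfsg.Agent.Lib.helper19.PermChar

/-!
# S0996, piece C3e (helper81): the norm of a transitive permutation character is the number of
orbits of a point stabiliser
-/

set_option autoImplicit false

namespace Cfsg.Agent.Lib.helper81.Br

open Cfsg Cfsg.Agent.Lib.helper81 Cfsg.Agent.Lib.helper84.Br
open scoped ComplexConjugate

universe u

/-- The number of fixed points on the cosets of a point stabiliser of a transitive action. -/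
theorem fixCount_stabilizer {G : Type u} [Group G] {X : Type*} [MulAction G X]
    [MulAction.IsPretransitive G X] (x : X) (g : G) :
    Cfsg.Agent.Lib.helper19.fixCount (MulAction.stabilizer G x) g =
      Nat.card (MulAction.fixedBy X g) := by
  unfold Cfsg.Agent.Lib.helper19.fixCount
  refine Nat.card_congr (Equiv.ofBijective
    (fun y : MulAction.fixedBy (G ⧸ MulAction.stabilizer G x) g =>
      (⟨MulAction.ofQuotientStabilizer G x y.1, ?_⟩ : MulAction.fixedBy X g)) ⟨?_, ?_⟩)
  · have h := y.2
    rw [MulAction.mem_fixedBy] at h ⊢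
    rw [← MulAction.ofQuotientStabilizer_smul, h]
  · intro a b hab
    apply Subtype.ext
    exact MulAction.injective_ofQuotientStabilizer G x (congrArg Subtype.val hab)
  · rintro ⟨z, hz⟩
    obtain ⟨g', rfl⟩ := MulAction.exists_smul_eq G x z
    refine ⟨⟨QuotientGroup.mk g', ?_⟩, ?_⟩
    · rw [MulAction.mem_fixedBy] at hz ⊢
      apply MulAction.injective_ofQuotientStabilizer G x
      rw [MulAction.ofQuotientStabilizer_smul]
      exact hz
    · rfl

/-- General form of C3e: for a transitive action, the norm of the permutation character `1_H^G`,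
`H` a point stabiliser, is the number of `H`-orbits. -/
theorem perm_norm_aux {G : Type u} [Group G] [Fintype G] {X : Type*} [MulAction G X] [Finite X]
    [MulAction.IsPretransitive G X] (x : X) (H : Subgroup G)
    (hH : H = MulAction.stabilizer G x) :
    classInner (indFun H (fun _ : ↥H => (1 : ℂ))) (indFun H (fun _ : ↥H => (1 : ℂ))) =
      (Nat.card (MulAction.orbitRel.Quotient ↥H X) : ℂ) := by
  classical
  subst hH
  haveI : Fintype (MulAction.stabilizer G x) := Fintype.ofFinite _
  haveI : Fintype X := Fintype.ofFinite X
  haveI : Fintype (MulAction.orbitRel.Quotient (MulAction.stabilizer G x) X) := Fintype.ofFinite _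
  rw [Cfsg.Agent.Lib.helper84.frobenius_reciprocity (MulAction.stabilizer G x) _ _
    (Cfsg.Agent.Lib.helper84.indFun_isClassFunction (MulAction.stabilizer G x) _),
    Cfsg.Agent.Lib.helper83.classInner_def]
  have hB := MulAction.sum_card_fixedBy_eq_card_orbits_mul_card_group
    (MulAction.stabilizer G x) X
  have hterm : ∀ h : MulAction.stabilizer G x,
      (1 : ℂ) * conj (indFun (MulAction.stabilizer G x) (fun _ => (1 : ℂ)) (h : G)) =
        ((Fintype.card (MulAction.fixedBy X h) : ℕ) : ℂ) := by
    intro h
    rw [one_mul, Cfsg.Agent.Lib.helper19.indFun_one_eq, Complex.conj_natCast,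
      fixCount_stabilizer x (h : G), Nat.card_eq_fintype_card]
    rfl
  rw [Finset.sum_congr rfl (fun h _ => hterm h), ← Nat.cast_sum, hB, Nat.cast_mul,
    Nat.card_eq_fintype_card, Nat.card_eq_fintype_card]
  have hH0 : ((Fintype.card (MulAction.stabilizer G x) : ℕ) : ℂ) ≠ 0 := by
    exact_mod_cast Fintype.card_ne_zero
  field_simp

section pieces

variable {G : Type u} [Group G] [Fintype G] {p : ℕ} [Fact p.Prime] {P : Sylow p G} {e n : ℕ}

/-- C3e (RANK) : the norm of the permutation character is the number of `N`-orbits. -/
theorem piChar_norm :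
    classInner (piChar P) (piChar P) =
      (Nat.card (MulAction.orbitRel.Quotient
        (Subgroup.normalizer ((P : Subgroup G) : Set G)) (Sylow p G)) : ℂ) :=
  perm_norm_aux P (Subgroup.normalizer ((P : Subgroup G) : Set G))
    (Sylow.stabilizer_eq_normalizer P).symm

end pieces

end Cfsg.Agent.Lib.helper81.Br
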