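import Mathlib
import Cfsg.Prelude.Def_Characters
import Cfsg.Prelude.Def_Blocks
import Cfsg.Agent.Lib.helper84.BrDefs
import Cfsg.Agent.Lib.helper84.Frobenius

/-!
# S0996, piece C4d (helper81): `⟨μ^G, μ^G⟩ = ⟨π, π⟩` for a fusion-invariant sign character `μ`
-/

set_option autoImplicit false

namespace Cfsg.Agent.Lib.helper81.Br

open Cfsg Cfsg.Agent.Lib.helper81 Cfsg.Agent.Lib.helper84.Br
open scoped ComplexConjugate

universe u

section pieces

variable {G : Type u} [Group G] [Fintype G] {p : ℕ} [Fact p.Prime] {P : Sylow p G} {e n : ℕ}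

/-- auxiliary general form of C4d. -/
theorem tau_norm_aux (N : Subgroup G) (μ : ↥N →* ℂˣ)
    (hμ : ∀ h : ↥N, μ h = 1 ∨ μ h = -1)
    (hinv : ∀ (g : G) (h : ↥N) (hg : g⁻¹ * (h : G) * g ∈ N),
        μ ⟨g⁻¹ * (h : G) * g, hg⟩ = μ h) :
    classInner (indFun N (fun h => ((μ h : ℂˣ) : ℂ))) (indFun N (fun h => ((μ h : ℂˣ) : ℂ))) =
      classInner (indFun N (fun _ : ↥N => (1 : ℂ))) (indFun N (fun _ : ↥N => (1 : ℂ))) := by
  classical
  haveI : Fintype N := Fintype.ofFinite N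
  have hcτ := Cfsg.Agent.Lib.helper84.indFun_isClassFunction N (fun h => ((μ h : ℂˣ) : ℂ))
  have hcπ := Cfsg.Agent.Lib.helper84.indFun_isClassFunction N (fun _ : N => (1 : ℂ))
  rw [Cfsg.Agent.Lib.helper84.frobenius_reciprocity N (fun h => ((μ h : ℂˣ) : ℂ)) _ hcτ,
    Cfsg.Agent.Lib.helper84.frobenius_reciprocity N (fun _ : N => (1 : ℂ)) _ hcπ]
  -- the value of `μ^G` on `N`
  have hval : ∀ h : N, indFun N (fun h => ((μ h : ℂˣ) : ℂ)) (h : G) =
      ((μ h : ℂˣ) : ℂ) * indFun N (fun _ : N => (1 : ℂ)) (h : G) := by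
    intro h
    rw [Cfsg.Agent.Lib.helper19.indFun_apply, Cfsg.Agent.Lib.helper19.indFun_apply,
      mul_left_comm]
    congr 1
    rw [Finset.mul_sum]
    refine Finset.sum_congr rfl (fun x _ => ?_)
    by_cases hx : x⁻¹ * (h : G) * x ∈ N
    · have h1 := Cfsg.Agent.Lib.helper19.extendByZero_coe N (fun h => ((μ h : ℂˣ) : ℂ))
        ⟨x⁻¹ * (h : G) * x, hx⟩
      have h2 := Cfsg.Agent.Lib.helper19.extendByZero_coe N (fun _ : N => (1 : ℂ))
        ⟨x⁻¹ * (h : G) * x, hx⟩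
      simp only at h1 h2
      rw [h1, h2, mul_one, hinv x h hx]
    · rw [Cfsg.Agent.Lib.helper19.extendByZero_of_not_mem N _ _ hx,
        Cfsg.Agent.Lib.helper19.extendByZero_of_not_mem N _ _ hx, mul_zero]
  have hmm : ∀ h : N, ((μ h : ℂˣ) : ℂ) * conj ((μ h : ℂˣ) : ℂ) = 1 := by
    intro h
    rcases hμ h with h1 | h1
    · simp [h1]
    · simp [h1]
  rw [Cfsg.Agent.Lib.helper83.classInner_def, Cfsg.Agent.Lib.helper83.classInner_def]
  congr 1
  refine Finset.sum_congr rfl (fun h _ => ?_)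
  rw [hval h, map_mul, ← mul_assoc, hmm h]

/-- C4d (TAU-NORM) : for a fusion-invariant `μ` with values `±1`, `⟨μ^G, μ^G⟩ = ⟨π, π⟩`. -/
theorem tau_norm
    (μ : ↥(Subgroup.normalizer ((P : Subgroup G) : Set G)) →* ℂˣ)
    (hμ : ∀ h : ↥(Subgroup.normalizer ((P : Subgroup G) : Set G)), μ h = 1 ∨ μ h = -1)
    (hinv : ∀ (g : G) (h : ↥(Subgroup.normalizer ((P : Subgroup G) : Set G)))
        (hg : g⁻¹ * (h : G) * g ∈ Subgroup.normalizer ((P : Subgroup G) : Set G)),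
        μ ⟨g⁻¹ * (h : G) * g, hg⟩ = μ h) :
    classInner (indFun (Subgroup.normalizer ((P : Subgroup G) : Set G))
        (fun h => ((μ h : ℂˣ) : ℂ)))
      (indFun (Subgroup.normalizer ((P : Subgroup G) : Set G)) (fun h => ((μ h : ℂˣ) : ℂ))) =
      classInner (piChar P) (piChar P) :=
  tau_norm_aux _ μ hμ hinv

end pieces

end Cfsg.Agent.Lib.helper81.Br
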