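import Mathlib
import Cfsg.Prelude.Def_Blocks
import Cfsg.Agent.Lib.helper81.Blocks
import Cfsg.Agent.Lib.helper4.Burnside
import Cfsg.Agent.Lib.helper80.LocalInt

/-!
# Faithful characters of prime power degree and block defects (helper81)
-/

set_option autoImplicit false

namespace Cfsg.Agent.Lib.helper81

open Cfsg Cfsg.Agent.Lib.helper20
open scoped ComplexConjugate

universe u

variable {G : Type u} [Group G] [Finite G]

/-- Burnside: a faithful irreducible character of a group with trivial centre vanishes at every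
non-identity element whose class size is coprime to the degree. -/
theorem irr_vanish_of_coprime_of_faithful (hZ : Subgroup.center G = ⊥) (χ : IrrCharacter G)
    (hfaith : ∀ g : G, (χ : G → ℂ) g = (χ : G → ℂ) 1 → g = 1) (z : G) (hz : z ≠ 1)
    (hcop : Nat.Coprime (charDegree (χ : G → ℂ)) (Subgroup.centralizer ({z} : Set G)).index) :
    (χ : G → ℂ) z = 0 := by
  classical
  have := Fintype.ofFinite G
  obtain ⟨n', ρ, hρ, hρχ⟩ := χ.2
  have := hρ
  have hfin : Module.finrank ℂ (Fin n' → ℂ) = n' := by simp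
  have hdeg : charDegree (χ : G → ℂ) = n' := by
    have h1 := irr_one_eq_charDegree χ
    have h2 : (χ : G → ℂ) 1 = (n' : ℂ) := by
      rw [← hρχ, Representation.char_one, hfin]
    rw [h2] at h1
    exact_mod_cast h1.symm
  rw [hdeg, ← hfin] at hcop
  rcases Cfsg.Agent.Lib.helper4.char_eq_zero_or_norm_eq_of_coprime ρ z hcop with h0 | hnorm
  · rw [← hρχ]; exact h0
  · exfalso
    obtain ⟨ω, hω⟩ := (Cfsg.Agent.Lib.helper4.norm_char_eq_iff ρ z).mp hnorm
    apply hz
    have hzc : z ∈ Subgroup.center G := by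
      rw [Subgroup.mem_center_iff]
      intro h
      have hcomm : ρ (h * z) = ρ (z * h) := by
        rw [map_mul, map_mul, hω]
        ext v
        simp
      have h1 : ρ ((h * z) * (z * h)⁻¹) = 1 :=
        calc ρ ((h * z) * (z * h)⁻¹) = ρ (h * z) * ρ ((z * h)⁻¹) := map_mul ρ _ _
          _ = ρ (z * h) * ρ ((z * h)⁻¹) := by rw [hcomm]
          _ = ρ ((z * h) * (z * h)⁻¹) := (map_mul ρ _ _).symm
          _ = 1 := by rw [mul_inv_cancel, map_one]
      have h4 : (χ : G → ℂ) ((h * z) * (z * h)⁻¹) = (χ : G → ℂ) 1 := by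
        rw [← hρχ]
        show LinearMap.trace ℂ _ (ρ ((h * z) * (z * h)⁻¹)) = LinearMap.trace ℂ _ (ρ 1)
        rw [h1, map_one ρ]
      have h5 := hfaith _ h4
      exact mul_inv_eq_one.mp h5
    rw [hZ] at hzc
    exact Subgroup.mem_bot.mp hzc

/-- If `ψ(z)/ψ(1)` lies in the local ideal for all non-identity `z` of a subgroup `Z` of order
`p ^ b`, then `p ^ b` divides `ψ(1)`. -/
theorem pow_dvd_degree_of_vanish_mod (p : ℕ) {M : Ideal AlgInt} (hM : IsPModular p M)
    (ψ : IrrCharacter G) (Z : Subgroup G) (b : ℕ) (hZ : Nat.card Z = p ^ b)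
    (hvan : ∀ z ∈ Z, z ≠ 1 → MemLocalIdeal M ((ψ : G → ℂ) z / (ψ : G → ℂ) 1)) :
    p ^ b ∣ charDegree (ψ : G → ℂ) := by
  classical
  have := Fintype.ofFinite G
  have hp : p.Prime := hM.1
  have hMp : M.IsPrime := isPrime_of_isPModular hM
  obtain ⟨m, hm⟩ := sum_subgroup_char (irr_isCharacter ψ) Z
  rw [hZ] at hm
  set d := charDegree (ψ : G → ℂ) with hd
  have hd1 : (ψ : G → ℂ) 1 = (d : ℂ) := irr_one_eq_charDegree ψ
  have hdpos : 0 < d := irr_charDegree_pos ψ
  have hd0 : (d : ℂ) ≠ 0 := by exact_mod_cast hdpos.ne'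
  -- `p^b m / d - 1` is in the local ideal
  have h1 : MemLocalIdeal M ((((p ^ b : ℕ) : ℂ) * (m : ℂ)) / (d : ℂ) - 1) := by
    have h2 : (((p ^ b : ℕ) : ℂ) * (m : ℂ)) / (d : ℂ) - 1
        = ∑ u ∈ (Finset.univ : Finset Z).erase 1, (ψ : G → ℂ) (u : G) / (ψ : G → ℂ) 1 := by
      rw [← hm, Finset.sum_div, ← Finset.add_sum_erase Finset.univ _ (Finset.mem_univ (1 : Z)),
        hd1]
      simp only [Subgroup.coe_one]
      rw [hd1, div_self hd0, add_sub_cancel_left]
    rw [h2]
    apply memLocalIdeal_sum hMp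
    intro u hu
    have hu1 : u ≠ 1 := (Finset.mem_erase.mp hu).1
    exact hvan (u : G) u.2 (fun h => hu1 (Subtype.ext h))
  by_contra hndvd
  -- write `d = p^c * d'`
  obtain ⟨c, d', hd', hdeq⟩ := Nat.exists_eq_pow_mul_and_not_dvd hdpos.ne' p hp.ne_one
  have hcb : c < b := by
    by_contra hcb
    push Not at hcb
    apply hndvd
    rw [hdeq]
    exact Dvd.dvd.mul_right (pow_dvd_pow p hcb) _
  have h3 : MemLocalIdeal M ((((p ^ b : ℕ) : ℂ) * (m : ℂ)) / (d : ℂ)) := by
    have h4 : (((p ^ b : ℕ) : ℂ) * (m : ℂ)) / (d : ℂ)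
        = (((p ^ (b - c) * m : ℕ) : AlgInt) : ℂ) / ((d' : ℕ) : ℂ) := by
      have hb : b = c + (b - c) := by omega
      have hpc : ((p : ℂ) ^ c) ≠ 0 := pow_ne_zero _ (by exact_mod_cast hp.ne_zero)
      have hd'0 : (d' : ℂ) ≠ 0 := by
        intro h
        have : d' = 0 := by exact_mod_cast h
        rw [this] at hd'
        exact hd' (dvd_zero p)
      rw [hdeq]
      push_cast
      rw [div_eq_div_iff (mul_ne_zero hpc hd'0) hd'0]
      conv_lhs => rw [hb, pow_add]
      ring
    rw [h4]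
    apply Cfsg.Agent.Lib.helper80.memLocalIdeal_div_natCast hM _ hd'
    apply Cfsg.Agent.Lib.helper80.natCast_mem hM
    exact Dvd.dvd.mul_right (dvd_pow_self p (by omega)) _
  have h5 := memLocalIdeal_sub hMp h3 h1
  rw [sub_sub_cancel] at h5
  exact not_memLocalIdeal_one h5

end Cfsg.Agent.Lib.helper81
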