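import Mathlib

/-!
# A combinatorial lemma on integer matrices with prescribed Gram differences (helper81)

`bl_comb`: let `c : ι → Λ → ℤ` have nonnegative entries (rows indexed by a finite set `I`) and
satisfy `∑_χ (c χ ψ₁ - c χ ψ₂) c χ ψ₃ = [ψ₁ ~ ψ₃] - [ψ₂ ~ ψ₃]` for an equivalence relation `~` with
at least two classes.  Then there are `x`, `ε = ±1` and a map `ζ : Λ → I` such that the row
`ζ ψ` is `x + ε [ψ ~ ·]` and every other row is constant.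
-/

set_option autoImplicit false

namespace Cfsg.Agent.Lib.helper81

theorem bl_sq_ge_one {a : ℤ} (h : a ≠ 0) : 1 ≤ a ^ 2 := by
  have h1 : 0 ≤ a ^ 2 := sq_nonneg a
  have h2 : a ^ 2 ≠ 0 := pow_ne_zero 2 h
  omega

theorem bl_sq_le_two {a : ℤ} (h : a ^ 2 ≤ 2) (h0 : a ≠ 0) : a ^ 2 = 1 := by
  have h1 := bl_sq_ge_one h0
  by_contra hne
  have h2 : a ^ 2 = 2 := by omega
  rcases le_or_gt 2 a with h3 | h3
  · nlinarith
  · rcases le_or_gt a (-2) with h4 | h4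
    · nlinarith
    · have h5 : a ^ 2 ≤ 1 := by nlinarith
      omega

/-- Integers whose squares sum to `2`: exactly two of them are `±1`. -/
theorem bl_sq_sum_two {ι : Type*} [DecidableEq ι] (I : Finset ι) (f : ι → ℤ)
    (h : ∑ χ ∈ I, f χ ^ 2 = 2) :
    ∃ α ∈ I, ∃ β ∈ I, α ≠ β ∧ f α ^ 2 = 1 ∧ f β ^ 2 = 1 ∧
      ∀ χ ∈ I, χ ≠ α → χ ≠ β → f χ = 0 := by
  have hex : ∃ α ∈ I, f α ≠ 0 := by
    by_contra hcon
    push Not at hcon
    rw [Finset.sum_eq_zero (fun χ hχ => by rw [hcon χ hχ]; norm_num)] at h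
    norm_num at h
  obtain ⟨α, hα, hfα⟩ := hex
  have hsplit := Finset.add_sum_erase I (fun χ => f χ ^ 2) hα
  rw [h] at hsplit
  have hrest_nn : 0 ≤ ∑ χ ∈ I.erase α, f χ ^ 2 := Finset.sum_nonneg (fun χ _ => sq_nonneg _)
  have hα2 : f α ^ 2 = 1 := bl_sq_le_two (by omega) hfα
  have hrest : ∑ χ ∈ I.erase α, f χ ^ 2 = 1 := by omega
  have hex2 : ∃ β ∈ I.erase α, f β ≠ 0 := by
    by_contra hcon
    push Not at hcon
    rw [Finset.sum_eq_zero (fun χ hχ => by rw [hcon χ hχ]; norm_num)] at hrest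
    norm_num at hrest
  obtain ⟨β, hβ, hfβ⟩ := hex2
  have hsplit2 := Finset.add_sum_erase (I.erase α) (fun χ => f χ ^ 2) hβ
  rw [hrest] at hsplit2
  have hrest2_nn : 0 ≤ ∑ χ ∈ (I.erase α).erase β, f χ ^ 2 :=
    Finset.sum_nonneg (fun χ _ => sq_nonneg _)
  have hβ1 := bl_sq_ge_one hfβ
  have hβ2 : f β ^ 2 = 1 := by omega
  have hrest2 : ∑ χ ∈ (I.erase α).erase β, f χ ^ 2 = 0 := by omega
  refine ⟨α, hα, β, Finset.mem_of_mem_erase hβ, (Finset.ne_of_mem_erase hβ).symm, hα2, hβ2, ?_⟩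
  intro χ hχ hχα hχβ
  have hmem : χ ∈ (I.erase α).erase β :=
    Finset.mem_erase.mpr ⟨hχβ, Finset.mem_erase.mpr ⟨hχα, hχ⟩⟩
  have h0 := (Finset.sum_eq_zero_iff_of_nonneg (fun χ _ => sq_nonneg (f χ))).mp hrest2 χ hmem
  exact pow_eq_zero_iff (two_ne_zero) |>.mp h0

open Classical in
/-- The structure of a nonnegative integer matrix whose columns have Gram matrix `κ + [ψ ~ ψ']`
(given through differences). -/
theorem bl_comb {Λ ι : Type*} (I : Finset ι) (c : ι → Λ → ℤ) (r : Λ → Λ → Prop)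
    (hc0 : ∀ χ ∈ I, ∀ ψ, 0 ≤ c χ ψ)
    (hrel : ∀ ψ₁ ψ₂ ψ₃, ∑ χ ∈ I, (c χ ψ₁ - c χ ψ₂) * c χ ψ₃
      = (if r ψ₁ ψ₃ then 1 else 0) - (if r ψ₂ ψ₃ then 1 else 0))
    (hrefl : ∀ ψ, r ψ ψ) (hsymm : ∀ ψ ψ', r ψ ψ' → r ψ' ψ)
    (htrans : ∀ ψ ψ' ψ'', r ψ ψ' → r ψ' ψ'' → r ψ ψ'')
    (ψ₀ ψ₁ : Λ) (h01 : ¬ r ψ₀ ψ₁) :
    ∃ (x ε : ℤ) (ζ : Λ → ι), (ε = 1 ∨ ε = -1) ∧ (∀ ψ, ζ ψ ∈ I) ∧
      (∀ ψ ψ', c (ζ ψ) ψ' = x + ε * (if r ψ ψ' then 1 else 0)) ∧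
      (∀ χ ∈ I, (∀ ψ, ζ ψ ≠ χ) → ∀ ψ ψ', c χ ψ = c χ ψ') ∧
      (∀ ψ ψ', r ψ ψ' → ζ ψ = ζ ψ') := by
  have hsq : ∀ ψ ψ', ∑ χ ∈ I, (c χ ψ - c χ ψ') ^ 2
      = ∑ χ ∈ I, (c χ ψ - c χ ψ') * c χ ψ - ∑ χ ∈ I, (c χ ψ - c χ ψ') * c χ ψ' := by
    intro ψ ψ'
    rw [← Finset.sum_sub_distrib]
    exact Finset.sum_congr rfl (fun χ _ => by ring)
  -- S1: equivalent columns are equal
  have hS1 : ∀ ψ ψ', r ψ ψ' → ∀ χ ∈ I, c χ ψ = c χ ψ' := by
    intro ψ ψ' hr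
    have e1 := hrel ψ ψ' ψ
    have e2 := hrel ψ ψ' ψ'
    rw [if_pos (hrefl ψ), if_pos (hsymm _ _ hr)] at e1
    rw [if_pos hr, if_pos (hrefl ψ')] at e2
    have e3 : ∑ χ ∈ I, (c χ ψ - c χ ψ') ^ 2 = 0 := by
      rw [hsq, e1, e2]
      norm_num
    intro χ hχ
    have h0 := (Finset.sum_eq_zero_iff_of_nonneg (fun χ _ => sq_nonneg (c χ ψ - c χ ψ'))).mp e3 χ hχ
    have h1 : c χ ψ - c χ ψ' = 0 := pow_eq_zero_iff (two_ne_zero) |>.mp h0
    omega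
  -- S2: inequivalent columns differ in exactly two rows
  have hS2 : ∀ ψ ψ', ¬ r ψ ψ' → ∑ χ ∈ I, (c χ ψ - c χ ψ') ^ 2 = 2 := by
    intro ψ ψ' hr
    have hr' : ¬ r ψ' ψ := fun h => hr (hsymm _ _ h)
    have e1 := hrel ψ ψ' ψ
    have e2 := hrel ψ ψ' ψ'
    rw [if_pos (hrefl ψ), if_neg hr'] at e1
    rw [if_neg hr, if_pos (hrefl ψ')] at e2
    rw [hsq, e1, e2]
    norm_num
  -- S3: the swap lemma
  have hS3 : ∀ ψ ψ', ¬ r ψ ψ' → ∃ α ∈ I, ∃ β ∈ I, α ≠ β ∧ c α ψ - c α ψ' = 1 ∧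
      c β ψ - c β ψ' = -1 ∧ c α ψ' = c β ψ ∧ ∀ χ ∈ I, χ ≠ α → χ ≠ β → c χ ψ = c χ ψ' := by
    intro ψ ψ' hr
    have hr' : ¬ r ψ' ψ := fun h => hr (hsymm _ _ h)
    have e1 := hrel ψ ψ' ψ
    rw [if_pos (hrefl ψ), if_neg hr'] at e1
    obtain ⟨α, hα, β, hβ, hαβ, hfα, hfβ, hrest⟩ :=
      bl_sq_sum_two I (fun χ => c χ ψ - c χ ψ') (hS2 ψ ψ' hr)
    have hsum : ∑ χ ∈ I, (c χ ψ - c χ ψ') * c χ ψ
        = (c α ψ - c α ψ') * c α ψ + (c β ψ - c β ψ') * c β ψ := by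
      rw [← Finset.add_sum_erase I _ hα,
        ← Finset.add_sum_erase (I.erase α) _ (Finset.mem_erase.mpr ⟨hαβ.symm, hβ⟩)]
      rw [Finset.sum_eq_zero, add_zero]
      intro χ hχ
      have h1 := Finset.mem_erase.mp hχ
      have h2 := Finset.mem_erase.mp h1.2
      rw [hrest χ h2.2 h2.1 h1.1, zero_mul]
    rw [hsum] at e1
    have hα' : c α ψ - c α ψ' = 1 ∨ c α ψ - c α ψ' = -1 := sq_eq_one_iff.mp hfα
    have hβ' : c β ψ - c β ψ' = 1 ∨ c β ψ - c β ψ' = -1 := sq_eq_one_iff.mp hfβ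
    have n1 := hc0 α hα ψ
    have n2 := hc0 α hα ψ'
    have n3 := hc0 β hβ ψ
    have n4 := hc0 β hβ ψ'
    rcases hα' with ha | ha <;> rcases hβ' with hb | hb
    · exfalso
      rw [ha, hb] at e1
      omega
    · refine ⟨α, hα, β, hβ, hαβ, ha, hb, ?_, fun χ hχ h1 h2 => ?_⟩
      · rw [ha, hb] at e1
        omega
      · have := hrest χ hχ h1 h2
        omega
    · refine ⟨β, hβ, α, hα, hαβ.symm, hb, ha, ?_, fun χ hχ h1 h2 => ?_⟩
      · rw [ha, hb] at e1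
        omega
      · have := hrest χ hχ h2 h1
        omega
    · exfalso
      rw [ha, hb] at e1
      omega
  obtain ⟨ι₀, -, -⟩ := hS3 ψ₀ ψ₁ h01
  have hS3' : ∀ ψ : Λ, ∃ α β : ι, ¬ r ψ₀ ψ → (α ∈ I ∧ β ∈ I ∧ α ≠ β ∧ c α ψ₀ - c α ψ = 1 ∧
      c β ψ₀ - c β ψ = -1 ∧ c α ψ = c β ψ₀ ∧ ∀ χ ∈ I, χ ≠ α → χ ≠ β → c χ ψ₀ = c χ ψ) := by
    intro ψ
    by_cases h : r ψ₀ ψ
    · exact ⟨ι₀, ι₀, fun h' => absurd h h'⟩
    · obtain ⟨α, hα, β, hβ, h1, h2, h3, h4, h5⟩ := hS3 ψ₀ ψ h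
      exact ⟨α, β, fun _ => ⟨hα, hβ, h1, h2, h3, h4, h5⟩⟩
  choose A Bt hAB using hS3'
  have hAuniq : ∀ ψ, ¬ r ψ₀ ψ → ∀ χ ∈ I, c χ ψ₀ - c χ ψ = 1 → χ = A ψ := by
    intro ψ hψ χ hχ h1
    obtain ⟨hα, hβ, hne, ha, hb, hv, hrest⟩ := hAB ψ hψ
    by_contra hne'
    by_cases hb' : χ = Bt ψ
    · rw [hb'] at h1
      omega
    · have := hrest χ hχ hne' hb'
      omega
  have hBuniq : ∀ ψ, ¬ r ψ₀ ψ → ∀ χ ∈ I, c χ ψ₀ - c χ ψ = -1 → χ = Bt ψ := by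
    intro ψ hψ χ hχ h1
    obtain ⟨hα, hβ, hne, ha, hb, hv, hrest⟩ := hAB ψ hψ
    by_contra hne'
    by_cases ha' : χ = A ψ
    · rw [ha'] at h1
      omega
    · have := hrest χ hχ ha' hne'
      omega
  have hA_congr : ∀ ψ ψ', ¬ r ψ₀ ψ → r ψ ψ' → A ψ = A ψ' := by
    intro ψ ψ' hψ hr
    have hψ' : ¬ r ψ₀ ψ' := fun h => hψ (htrans _ _ _ h (hsymm _ _ hr))
    obtain ⟨hα, -, -, ha, -⟩ := hAB ψ hψ
    apply hAuniq ψ' hψ' (A ψ) hα
    rw [← hS1 ψ ψ' hr (A ψ) hα]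
    exact ha
  have hB_congr : ∀ ψ ψ', ¬ r ψ₀ ψ → r ψ ψ' → Bt ψ = Bt ψ' := by
    intro ψ ψ' hψ hr
    have hψ' : ¬ r ψ₀ ψ' := fun h => hψ (htrans _ _ _ h (hsymm _ _ hr))
    obtain ⟨-, hβ, -, -, hb, -⟩ := hAB ψ hψ
    apply hBuniq ψ' hψ' (Bt ψ) hβ
    rw [← hS1 ψ ψ' hr (Bt ψ) hβ]
    exact hb
  -- S5
  have hS5a : ∀ ψ ψ', ¬ r ψ₀ ψ → ¬ r ψ₀ ψ' → ¬ r ψ ψ' → ¬ (A ψ = A ψ' ∧ Bt ψ = Bt ψ') := by
    rintro ψ ψ' hψ hψ' hr ⟨hA, hB⟩
    obtain ⟨hα, hβ, hne, ha, hb, hv, hrest⟩ := hAB ψ hψ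
    obtain ⟨hα', hβ', hne', ha', hb', hv', hrest'⟩ := hAB ψ' hψ'
    obtain ⟨α₂, hα₂, -, -, -, h1, -⟩ := hS3 ψ ψ' hr
    have hall : ∀ χ ∈ I, c χ ψ = c χ ψ' := by
      intro χ hχ
      by_cases h1 : χ = A ψ
      · rw [← hA] at ha'
        rw [h1]
        omega
      · by_cases h2 : χ = Bt ψ
        · rw [← hB] at hb'
          rw [h2]
          omega
        · have e1 := hrest χ hχ h1 h2
          have e2 := hrest' χ hχ (hA ▸ h1) (hB ▸ h2)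
          omega
    have := hall α₂ hα₂
    omega
  have hS5b : ∀ ψ ψ', ¬ r ψ₀ ψ → ¬ r ψ₀ ψ' → ¬ r ψ ψ' → A ψ = A ψ' ∨ Bt ψ = Bt ψ' := by
    intro ψ ψ' hψ hψ' hr
    by_contra hcon
    push Not at hcon
    obtain ⟨hAne, hBne⟩ := hcon
    obtain ⟨hα, hβ, hne, ha, hb, hv, hrest⟩ := hAB ψ hψ
    obtain ⟨hα', hβ', hne', ha', hb', hv', hrest'⟩ := hAB ψ' hψ'
    have e3 := hS2 ψ ψ' hr
    by_cases h1 : A ψ = Bt ψ'
    · have hg : c (A ψ) ψ - c (A ψ) ψ' = -2 := by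
        rw [← h1] at hb'
        omega
      have hle := Finset.single_le_sum (f := fun χ => (c χ ψ - c χ ψ') ^ 2)
        (fun χ _ => sq_nonneg _) hα
      rw [hg, e3] at hle
      norm_num at hle
    · by_cases h2 : Bt ψ = A ψ'
      · have hg : c (Bt ψ) ψ - c (Bt ψ) ψ' = 2 := by
          rw [← h2] at ha'
          omega
        have hle := Finset.single_le_sum (f := fun χ => (c χ ψ - c χ ψ') ^ 2)
          (fun χ _ => sq_nonneg _) hβ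
        rw [hg, e3] at hle
        norm_num at hle
      · have hgα : c (A ψ) ψ - c (A ψ) ψ' = -1 := by
          have := hrest' (A ψ) hα hAne h1
          omega
        have hgα' : c (A ψ') ψ - c (A ψ') ψ' = 1 := by
          have := hrest (A ψ') hα' (Ne.symm hAne) (Ne.symm h2)
          omega
        have hgβ : c (Bt ψ) ψ - c (Bt ψ) ψ' = 1 := by
          have := hrest' (Bt ψ) hβ h2 hBne
          omega
        have hsub : ({A ψ, A ψ', Bt ψ} : Finset ι) ⊆ I := by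
          intro χ hχ
          simp only [Finset.mem_insert, Finset.mem_singleton] at hχ
          rcases hχ with rfl | rfl | rfl <;> assumption
        have hle := Finset.sum_le_sum_of_subset_of_nonneg hsub
          (f := fun χ => (c χ ψ - c χ ψ') ^ 2) (fun χ _ _ => sq_nonneg _)
        rw [Finset.sum_insert (by
            simp only [Finset.mem_insert, Finset.mem_singleton, not_or]
            exact ⟨hAne, hne⟩),
          Finset.sum_insert (by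
            simp only [Finset.mem_singleton]
            exact Ne.symm h2), Finset.sum_singleton] at hle
        rw [hgα, hgα', hgβ, e3] at hle
        norm_num at hle
  -- S6: the dichotomy
  have hdich : (∀ ψ ψ', ¬ r ψ₀ ψ → ¬ r ψ₀ ψ' → A ψ = A ψ') ∨
      (∀ ψ ψ', ¬ r ψ₀ ψ → ¬ r ψ₀ ψ' → Bt ψ = Bt ψ') := by
    by_contra hcon
    push Not at hcon
    obtain ⟨⟨ψa, ψb, ha, hb, hAne⟩, ⟨ψc, ψd, hc, hd, hBne⟩⟩ := hcon
    have hrab : ¬ r ψa ψb := fun h => hAne (hA_congr ψa ψb ha h)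
    have hBab : Bt ψa = Bt ψb := by
      rcases hS5b ψa ψb ha hb hrab with h | h
      · exact absurd h hAne
      · exact h
    obtain ⟨ψe, he, hBe⟩ : ∃ ψe, ¬ r ψ₀ ψe ∧ Bt ψe ≠ Bt ψa := by
      by_cases h : Bt ψc = Bt ψa
      · exact ⟨ψd, hd, fun h' => hBne (h.trans h'.symm)⟩
      · exact ⟨ψc, hc, h⟩
    have hrea : ¬ r ψe ψa := fun h => hBe (hB_congr ψe ψa he h)
    have hreb : ¬ r ψe ψb := fun h => hBe ((hB_congr ψe ψb he h).trans hBab.symm)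
    have hAea : A ψe = A ψa := by
      rcases hS5b ψe ψa he ha hrea with h | h
      · exact h
      · exact absurd h hBe
    have hAeb : A ψe = A ψb := by
      rcases hS5b ψe ψb he hb hreb with h | h
      · exact h
      · exact absurd (h.trans hBab.symm) hBe
    exact hAne (hAea.symm.trans hAeb)
  rcases hdich with hA | hB
  · obtain ⟨α₀, hα₀⟩ : ∃ α₀, α₀ = A ψ₁ := ⟨_, rfl⟩
    have hAα₀ : ∀ ψ, ¬ r ψ₀ ψ → A ψ = α₀ := fun ψ hψ => by
      rw [hα₀]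
      exact hA ψ ψ₁ hψ h01
    have hα₀I : α₀ ∈ I := by
      rw [hα₀]
      exact (hAB ψ₁ h01).1
    refine ⟨c α₀ ψ₀ - 1, 1, fun ψ => if r ψ₀ ψ then α₀ else Bt ψ, Or.inl rfl, ?_, ?_, ?_, ?_⟩
    · intro ψ
      show (if r ψ₀ ψ then α₀ else Bt ψ) ∈ I
      split_ifs with h
      · exact hα₀I
      · exact (hAB ψ h).2.1
    · intro ψ ψ'
      show c (if r ψ₀ ψ then α₀ else Bt ψ) ψ' = c α₀ ψ₀ - 1 + 1 * (if r ψ ψ' then 1 else 0)
      by_cases h : r ψ₀ ψ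
      · rw [if_pos h]
        by_cases h' : r ψ ψ'
        · rw [if_pos h']
          have := hS1 ψ₀ ψ' (htrans _ _ _ h h') α₀ hα₀I
          omega
        · rw [if_neg h']
          have hψ' : ¬ r ψ₀ ψ' := fun h'' => h' (htrans _ _ _ (hsymm _ _ h) h'')
          obtain ⟨-, -, -, ha, -⟩ := hAB ψ' hψ'
          rw [hAα₀ ψ' hψ'] at ha
          omega
      · rw [if_neg h]
        obtain ⟨hα, hβ, hne, ha, hb, hv, hrest⟩ := hAB ψ h
        rw [hAα₀ ψ h] at ha hv hne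
        by_cases h' : r ψ ψ'
        · rw [if_pos h']
          have := hS1 ψ ψ' h' (Bt ψ) hβ
          omega
        · rw [if_neg h']
          by_cases h'' : r ψ₀ ψ'
          · have := hS1 ψ₀ ψ' h'' (Bt ψ) hβ
            omega
          · obtain ⟨hα', hβ', hne', ha', hb', hv', hrest'⟩ := hAB ψ' h''
            rw [hAα₀ ψ' h''] at hrest'
            have hBne : Bt ψ ≠ Bt ψ' := by
              intro hB'
              exact hS5a ψ ψ' h h'' h' ⟨by rw [hAα₀ ψ h, hAα₀ ψ' h''], hB'⟩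
            have := hrest' (Bt ψ) hβ (Ne.symm hne) hBne
            omega
    · intro χ hχ hnot ψ ψ'
      have key : ∀ ψ, c χ ψ = c χ ψ₀ := by
        intro ψ
        by_cases h : r ψ₀ ψ
        · exact (hS1 ψ₀ ψ h χ hχ).symm
        · obtain ⟨hα, hβ, hne, ha, hb, hv, hrest⟩ := hAB ψ h
          have h1 : χ ≠ A ψ := by
            rw [hAα₀ ψ h]
            have := hnot ψ₀
            simp only [if_pos (hrefl ψ₀)] at this
            exact Ne.symm this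
          have h2 : χ ≠ Bt ψ := by
            have := hnot ψ
            simp only [if_neg h] at this
            exact Ne.symm this
          exact (hrest χ hχ h1 h2).symm
      rw [key ψ, key ψ']
    · intro ψ ψ' hr
      show (if r ψ₀ ψ then α₀ else Bt ψ) = (if r ψ₀ ψ' then α₀ else Bt ψ')
      by_cases h : r ψ₀ ψ
      · rw [if_pos h, if_pos (htrans _ _ _ h hr)]
      · have h' : ¬ r ψ₀ ψ' := fun h'' => h (htrans _ _ _ h'' (hsymm _ _ hr))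
        rw [if_neg h, if_neg h']
        exact hB_congr ψ ψ' h hr
  · obtain ⟨β₀, hβ₀⟩ : ∃ β₀, β₀ = Bt ψ₁ := ⟨_, rfl⟩
    have hBβ₀ : ∀ ψ, ¬ r ψ₀ ψ → Bt ψ = β₀ := fun ψ hψ => by
      rw [hβ₀]
      exact hB ψ ψ₁ hψ h01
    have hβ₀I : β₀ ∈ I := by
      rw [hβ₀]
      exact (hAB ψ₁ h01).2.1
    refine ⟨c β₀ ψ₀ + 1, -1, fun ψ => if r ψ₀ ψ then β₀ else A ψ, Or.inr rfl, ?_, ?_, ?_, ?_⟩
    · intro ψ
      show (if r ψ₀ ψ then β₀ else A ψ) ∈ I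
      split_ifs with h
      · exact hβ₀I
      · exact (hAB ψ h).1
    · intro ψ ψ'
      show c (if r ψ₀ ψ then β₀ else A ψ) ψ' = c β₀ ψ₀ + 1 + (-1) * (if r ψ ψ' then 1 else 0)
      by_cases h : r ψ₀ ψ
      · rw [if_pos h]
        by_cases h' : r ψ ψ'
        · rw [if_pos h']
          have := hS1 ψ₀ ψ' (htrans _ _ _ h h') β₀ hβ₀I
          omega
        · rw [if_neg h']
          have hψ' : ¬ r ψ₀ ψ' := fun h'' => h' (htrans _ _ _ (hsymm _ _ h) h'')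
          obtain ⟨-, -, -, -, hb, -⟩ := hAB ψ' hψ'
          rw [hBβ₀ ψ' hψ'] at hb
          omega
      · rw [if_neg h]
        obtain ⟨hα, hβ, hne, ha, hb, hv, hrest⟩ := hAB ψ h
        rw [hBβ₀ ψ h] at hb hv hne
        by_cases h' : r ψ ψ'
        · rw [if_pos h']
          have := hS1 ψ ψ' h' (A ψ) hα
          omega
        · rw [if_neg h']
          by_cases h'' : r ψ₀ ψ'
          · have := hS1 ψ₀ ψ' h'' (A ψ) hα
            omega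
          · obtain ⟨hα', hβ', hne', ha', hb', hv', hrest'⟩ := hAB ψ' h''
            rw [hBβ₀ ψ' h''] at hrest'
            have hAne : A ψ ≠ A ψ' := fun hA' =>
              hS5a ψ ψ' h h'' h' ⟨hA', by rw [hBβ₀ ψ h, hBβ₀ ψ' h'']⟩
            have := hrest' (A ψ) hα hAne hne
            omega
    · intro χ hχ hnot ψ ψ'
      have key : ∀ ψ, c χ ψ = c χ ψ₀ := by
        intro ψ
        by_cases h : r ψ₀ ψ
        · exact (hS1 ψ₀ ψ h χ hχ).symm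
        · obtain ⟨hα, hβ, hne, ha, hb, hv, hrest⟩ := hAB ψ h
          have h1 : χ ≠ A ψ := by
            have := hnot ψ
            simp only [if_neg h] at this
            exact Ne.symm this
          have h2 : χ ≠ Bt ψ := by
            rw [hBβ₀ ψ h]
            have := hnot ψ₀
            simp only [if_pos (hrefl ψ₀)] at this
            exact Ne.symm this
          exact (hrest χ hχ h1 h2).symm
      rw [key ψ, key ψ']
    · intro ψ ψ' hr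
      show (if r ψ₀ ψ then β₀ else A ψ) = (if r ψ₀ ψ' then β₀ else A ψ')
      by_cases h : r ψ₀ ψ
      · rw [if_pos h, if_pos (htrans _ _ _ h hr)]
      · have h' : ¬ r ψ₀ ψ' := fun h'' => h (htrans _ _ _ h'' (hsymm _ _ hr))
        rw [if_neg h, if_neg h']
        exact hA_congr ψ ψ' h hr

end Cfsg.Agent.Lib.helper81
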