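import Mathlib
import Cfsg.Agent.Lib.helper81.BlComb

/-!
# The decomposition matrix pattern for an abelian Sylow subgroup with Frobenius normalizer
(helper81)

`bl_comb2` is the purely combinatorial part of the Brauer--Leonard analysis: given the
nonnegative integer matrix `c χ ψ` (rows: characters of the principal block, columns: linear
characters of `P`) and the relations `∑_χ (c χ ψ₁ - c χ ψ₂) c χ ψ₃ = ν(ψ₁, ψ₃) - ν(ψ₂, ψ₃)`, the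
rows split into "exceptional" rows `ζ ψ` and "non-exceptional" rows.
-/

set_option autoImplicit false

namespace Cfsg.Agent.Lib.helper81

open Classical in
theorem bl_sum_two_ite {ι R : Type*} [CommRing R] (I : Finset ι) (α β : ι) (hα : α ∈ I)
    (hβ : β ∈ I) (e : R) (F : ι → R) :
    ∑ χ ∈ I, (e * ((if χ = α then 1 else 0) - (if χ = β then 1 else 0))) * F χ
      = e * (F α - F β) := by
  have h1 : ∀ χ ∈ I, (e * ((if χ = α then 1 else 0) - (if χ = β then 1 else 0))) * F χ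
      = e * (if χ = α then F χ else 0) - e * (if χ = β then F χ else 0) := by
    intro χ _
    split_ifs <;> ring
  rw [Finset.sum_congr rfl h1, Finset.sum_sub_distrib, ← Finset.mul_sum, ← Finset.mul_sum,
    Finset.sum_eq_single_of_mem α hα (fun χ _ hne => by rw [if_neg hne]),
    Finset.sum_eq_single_of_mem β hβ (fun χ _ hne => by rw [if_neg hne]),
    if_pos rfl, if_pos rfl]
  ring

open Classical in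
theorem bl_sum_split {ι R : Type*} [CommRing R] (I Y : Finset ι) (hYI : Y ⊆ I) (η₀ : ι)
    (hη₀ : η₀ ∈ Y) (u v : R) (g F : ι → R) :
    ∑ χ ∈ I, (if χ ∈ Y then (u - v * (if χ = η₀ then 1 else 0)) else g χ) * F χ
      = u * ∑ χ ∈ Y, F χ - v * F η₀ + ∑ χ ∈ I \ Y, g χ * F χ := by
  rw [← Finset.sum_sdiff hYI]
  have h1 : ∑ χ ∈ I \ Y, (if χ ∈ Y then (u - v * (if χ = η₀ then 1 else 0)) else g χ) * F χ
      = ∑ χ ∈ I \ Y, g χ * F χ := by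
    apply Finset.sum_congr rfl
    intro χ hχ
    rw [if_neg (Finset.mem_sdiff.mp hχ).2]
  have h2 : ∑ χ ∈ Y, (if χ ∈ Y then (u - v * (if χ = η₀ then 1 else 0)) else g χ) * F χ
      = u * ∑ χ ∈ Y, F χ - v * F η₀ := by
    have h3 : ∀ χ ∈ Y, (if χ ∈ Y then (u - v * (if χ = η₀ then 1 else 0)) else g χ) * F χ
        = u * F χ - v * (if χ = η₀ then F χ else 0) := by
      intro χ hχ
      rw [if_pos hχ]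
      split_ifs <;> ring
    have hs : ∑ χ ∈ Y, (if χ = η₀ then F χ else 0) = F η₀ := by
      rw [Finset.sum_eq_single_of_mem η₀ hη₀ (fun χ _ hne => if_neg hne), if_pos rfl]
    rw [Finset.sum_congr rfl h3, Finset.sum_sub_distrib, ← Finset.mul_sum, ← Finset.mul_sum, hs]
  rw [h1, h2]
  ring

open Classical in
/-- The Brauer--Leonard pattern. -/
theorem bl_comb2 {Λ ι : Type*} (I : Finset ι) (c : ι → Λ → ℤ) (r : Λ → Λ → Prop) (o : Λ) (m : ℤ)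
    (hc0 : ∀ χ ∈ I, ∀ ψ, 0 ≤ c χ ψ)
    (hrel : ∀ ψ₁ ψ₂ ψ₃, ∑ χ ∈ I, (c χ ψ₁ - c χ ψ₂) * c χ ψ₃
      = (if ψ₃ = o then (if ψ₁ = o then m else 0) else (if r ψ₁ ψ₃ then 1 else 0))
        - (if ψ₃ = o then (if ψ₂ = o then m else 0) else (if r ψ₂ ψ₃ then 1 else 0)))
    (hrefl : ∀ ψ, r ψ ψ) (hsymm : ∀ ψ ψ', r ψ ψ' → r ψ' ψ)
    (htrans : ∀ ψ ψ' ψ'', r ψ ψ' → r ψ' ψ'' → r ψ ψ'')
    (hro : ∀ ψ, r o ψ → ψ = o)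
    (ψ₀ ψ₁ : Λ) (h0 : ψ₀ ≠ o) (h1 : ψ₁ ≠ o) (h01 : ¬ r ψ₀ ψ₁) :
    ∃ (d ε : ℤ) (ζ : Λ → ι) (Y : Finset ι) (a : ι → ℤ),
      (ε = 1 ∨ ε = -1) ∧ Y ⊆ I ∧
      (∀ ψ, ψ ≠ o → ζ ψ ∈ Y) ∧
      (∀ η ∈ Y, ∃ ψ, ψ ≠ o ∧ ζ ψ = η) ∧
      (∀ ψ ψ', ψ ≠ o → ψ' ≠ o → (ζ ψ = ζ ψ' ↔ r ψ ψ')) ∧
      (∀ χ ∈ I, χ ∉ Y → ∀ ψ, ψ ≠ o → c χ o - c χ ψ = a χ) ∧
      (∀ ψ ψ', ψ ≠ o → ψ' ≠ o →
        c (ζ ψ) o - c (ζ ψ) ψ' = d - ε * (if r ψ ψ' then 1 else 0)) ∧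
      ((d - ε) ^ 2 + ((Y.card : ℤ) - 1) * d ^ 2 + ∑ χ ∈ I \ Y, a χ ^ 2 = m + 1) ∧
      2 ≤ Y.card ∧
      (∀ χ ∈ I, (∀ ψ ψ', ψ ≠ o → ψ' ≠ o → c χ ψ = c χ ψ') → χ ∉ Y) ∧
      ((∀ χ ∈ I \ Y, a χ ≠ 0) → ((I \ Y).card : ℤ) ≤ m) ∧
      (∀ F : ι → ℂ, (∀ ψ₁ ψ₂, ∑ χ ∈ I, ((c χ ψ₁ : ℂ) - (c χ ψ₂ : ℂ)) * F χ = 0) →
        (∀ η ∈ Y, ∀ η' ∈ Y, F η = F η') ∧
        (∀ η ∈ Y, ((Y.card : ℂ) * (d : ℂ) - (ε : ℂ)) * F η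
          + ∑ χ ∈ I \ Y, (a χ : ℂ) * F χ = 0)) := by
  obtain ⟨x, ε, ζ', hε, hζI, hval, hconst, hcongr⟩ :=
    bl_comb (Λ := {ψ : Λ // ψ ≠ o}) I (fun χ ψ => c χ ψ.1) (fun ψ ψ' => r ψ.1 ψ'.1)
      (fun χ hχ ψ => hc0 χ hχ ψ.1)
      (fun ψ₁ ψ₂ ψ₃ => by
        have h := hrel ψ₁.1 ψ₂.1 ψ₃.1
        rw [if_neg ψ₃.2, if_neg ψ₃.2] at h
        exact h)
      (fun ψ => hrefl ψ.1) (fun ψ ψ' h => hsymm _ _ h) (fun ψ ψ' ψ'' h h' => htrans _ _ _ h h')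
      ⟨ψ₀, h0⟩ ⟨ψ₁, h1⟩ h01
  have hval' : ∀ ψ ψ' : {ψ : Λ // ψ ≠ o},
      c (ζ' ψ) ψ'.1 = x + ε * (if r ψ.1 ψ'.1 then 1 else 0) := hval
  have hconst' : ∀ χ ∈ I, (∀ ψ, ζ' ψ ≠ χ) → ∀ ψ ψ' : {ψ : Λ // ψ ≠ o}, c χ ψ.1 = c χ ψ'.1 :=
    hconst
  have hcongr' : ∀ ψ ψ' : {ψ : Λ // ψ ≠ o}, r ψ.1 ψ'.1 → ζ' ψ = ζ' ψ' := hcongr
  have hε0 : ε ≠ 0 := by rcases hε with h | h <;> rw [h] <;> norm_num
  have hinj : ∀ ψ ψ' : {ψ : Λ // ψ ≠ o}, ζ' ψ = ζ' ψ' → r ψ.1 ψ'.1 := by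
    intro ψ ψ' h
    have e1 := hval' ψ ψ'
    have e2 := hval' ψ' ψ'
    rw [h] at e1
    rw [e1, if_pos (hrefl _)] at e2
    by_contra hr
    rw [if_neg hr] at e2
    omega
  obtain ⟨Y, hY⟩ : ∃ Y : Finset ι, Y = I.filter (fun χ => ∃ ψ, ζ' ψ = χ) := ⟨_, rfl⟩
  have hmemY : ∀ χ, χ ∈ Y ↔ χ ∈ I ∧ ∃ ψ, ζ' ψ = χ := by
    intro χ
    rw [hY, Finset.mem_filter]
  have hYI : Y ⊆ I := fun χ hχ => ((hmemY χ).mp hχ).1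
  have hζY : ∀ ψ, ζ' ψ ∈ Y := fun ψ => (hmemY _).mpr ⟨hζI ψ, ψ, rfl⟩
  obtain ⟨Ψ₀, hΨ₀⟩ : ∃ Ψ₀ : {ψ : Λ // ψ ≠ o}, Ψ₀ = ⟨ψ₀, h0⟩ := ⟨_, rfl⟩
  obtain ⟨Ψ₁, hΨ₁⟩ : ∃ Ψ₁ : {ψ : Λ // ψ ≠ o}, Ψ₁ = ⟨ψ₁, h1⟩ := ⟨_, rfl⟩
  have h01' : ¬ r Ψ₀.1 Ψ₁.1 := by
    rw [hΨ₀, hΨ₁]
    exact h01
  have hΨ₀v : Ψ₀.1 = ψ₀ := by rw [hΨ₀]
  -- (P1)
  have hP1 : ∀ ψ ψ' : {ψ : Λ // ψ ≠ o}, ¬ r ψ.1 ψ'.1 → ∀ χ ∈ I,
      c χ ψ.1 - c χ ψ'.1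
        = ε * ((if χ = ζ' ψ then 1 else 0) - (if χ = ζ' ψ' then 1 else 0)) := by
    intro ψ ψ' hr χ hχ
    have hne : ζ' ψ ≠ ζ' ψ' := fun h => hr (hinj _ _ h)
    by_cases h1 : χ = ζ' ψ
    · rw [if_pos h1, if_neg (fun h => hne (h1.symm.trans h)), h1, hval' ψ ψ, hval' ψ ψ',
        if_pos (hrefl _), if_neg hr]
      ring
    · by_cases h2 : χ = ζ' ψ'
      · rw [if_neg h1, if_pos h2, h2, hval' ψ' ψ, hval' ψ' ψ', if_pos (hrefl _),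
          if_neg (fun h => hr (hsymm _ _ h))]
        ring
      · rw [if_neg h1, if_neg h2]
        by_cases h3 : ∃ ψ'', ζ' ψ'' = χ
        · obtain ⟨ψ'', rfl⟩ := h3
          have n1 : ¬ r ψ''.1 ψ.1 := fun h => h1 (hcongr' _ _ h)
          have n2 : ¬ r ψ''.1 ψ'.1 := fun h => h2 (hcongr' _ _ h)
          rw [hval' ψ'' ψ, hval' ψ'' ψ', if_neg n1, if_neg n2]
          ring
        · push Not at h3
          rw [hconst' χ hχ h3 ψ ψ']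
          ring
  obtain ⟨d, hd⟩ : ∃ d : ℤ, d = c (ζ' Ψ₀) o - x := ⟨_, rfl⟩
  obtain ⟨a, ha⟩ : ∃ a : ι → ℤ, a = fun χ => c χ o - c χ ψ₀ := ⟨_, rfl⟩
  have hνo : ∀ ψ₁ ψ₂ : Λ, ψ₁ ≠ o → ψ₂ ≠ o → ∑ χ ∈ I, (c χ ψ₁ - c χ ψ₂) * c χ o = 0 := by
    intro ψ₁ ψ₂ hψ₁ hψ₂
    have h := hrel ψ₁ ψ₂ o
    rw [if_pos rfl, if_pos rfl, if_neg hψ₁, if_neg hψ₂, sub_zero] at h
    exact h
  have hz : ∀ ψ : {ψ : Λ // ψ ≠ o}, c (ζ' ψ) o = c (ζ' Ψ₀) o := by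
    intro ψ
    by_cases hr : r Ψ₀.1 ψ.1
    · rw [hcongr' Ψ₀ ψ hr]
    · have e := hνo Ψ₀.1 ψ.1 Ψ₀.2 ψ.2
      have e2 : ∑ χ ∈ I, (c χ Ψ₀.1 - c χ ψ.1) * c χ o
          = ε * (c (ζ' Ψ₀) o - c (ζ' ψ) o) := by
        rw [← bl_sum_two_ite I (ζ' Ψ₀) (ζ' ψ) (hζI _) (hζI _) ε (fun χ => c χ o)]
        exact Finset.sum_congr rfl (fun χ hχ => by rw [hP1 Ψ₀ ψ hr χ hχ])
      rw [e2] at e
      rcases mul_eq_zero.mp e with h | h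
      · exact absurd h hε0
      · omega
  -- (P2)
  have hP2 : ∀ ψ : {ψ : Λ // ψ ≠ o}, ∀ χ ∈ I,
      c χ o - c χ ψ.1 = if χ ∈ Y then d - ε * (if χ = ζ' ψ then 1 else 0) else a χ := by
    intro ψ χ hχ
    by_cases hY' : χ ∈ Y
    · rw [if_pos hY']
      obtain ⟨-, ψ'', rfl⟩ := (hmemY χ).mp hY'
      rw [hz ψ'', hval' ψ'' ψ, hd]
      by_cases hr : r ψ''.1 ψ.1
      · rw [if_pos hr, if_pos (hcongr' _ _ hr)]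
        ring
      · rw [if_neg hr, if_neg (fun h => hr (hinj _ _ h))]
        ring
    · rw [if_neg hY', ha]
      have hnot : ∀ ψ'', ζ' ψ'' ≠ χ := fun ψ'' h => hY' ((hmemY χ).mpr ⟨hχ, ψ'', h⟩)
      show c χ o - c χ ψ.1 = c χ o - c χ ψ₀
      rw [hconst' χ hχ hnot ψ Ψ₀, hΨ₀v]
  obtain ⟨ζ, hζ⟩ : ∃ ζ : Λ → ι, ζ = fun ψ => if h : ψ ≠ o then ζ' ⟨ψ, h⟩ else ζ' Ψ₀ :=
    ⟨_, rfl⟩
  have hζ' : ∀ ψ (hψ : ψ ≠ o), ζ ψ = ζ' ⟨ψ, hψ⟩ := by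
    intro ψ hψ
    rw [hζ]
    exact dif_pos hψ
  have hno : ¬ r o ψ₀ := fun h => h0 (hro _ h)
  -- the sum of the entries of the difference column over `Y`
  have hsumY : ∑ χ ∈ Y, (c χ o - c χ ψ₀) = (Y.card : ℤ) * d - ε := by
    have h3 : ∀ χ ∈ Y, c χ o - c χ ψ₀ = d - ε * (if χ = ζ' Ψ₀ then 1 else 0) := by
      intro χ hχ
      have := hP2 Ψ₀ χ (hYI hχ)
      rw [if_pos hχ, hΨ₀v] at this
      exact this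
    have hs : ∑ χ ∈ Y, (if χ = ζ' Ψ₀ then (1 : ℤ) else 0) = 1 := by
      rw [Finset.sum_eq_single_of_mem (ζ' Ψ₀) (hζY Ψ₀) (fun χ _ hne => if_neg hne), if_pos rfl]
    rw [Finset.sum_congr rfl h3, Finset.sum_sub_distrib, ← Finset.mul_sum, hs,
      Finset.sum_const, nsmul_eq_mul]
    ring
  have hnorm : (d - ε) ^ 2 + ((Y.card : ℤ) - 1) * d ^ 2 + ∑ χ ∈ I \ Y, a χ ^ 2 = m + 1 := by
    have e1 := hrel o ψ₀ o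
    rw [if_pos rfl, if_pos rfl, if_pos rfl, if_neg h0, sub_zero] at e1
    have e2 := hrel o ψ₀ ψ₀
    rw [if_neg h0, if_neg h0, if_neg hno, if_pos (hrefl ψ₀)] at e2
    have e3 : ∑ χ ∈ I, (c χ o - c χ ψ₀) * (c χ o - c χ ψ₀) = m + 1 := by
      have : ∑ χ ∈ I, (c χ o - c χ ψ₀) * (c χ o - c χ ψ₀)
          = ∑ χ ∈ I, (c χ o - c χ ψ₀) * c χ o - ∑ χ ∈ I, (c χ o - c χ ψ₀) * c χ ψ₀ := by
        rw [← Finset.sum_sub_distrib]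
        exact Finset.sum_congr rfl (fun χ _ => by ring)
      rw [this, e1, e2]
      ring
    have e4 : ∑ χ ∈ I, (c χ o - c χ ψ₀) * (c χ o - c χ ψ₀)
        = d * ∑ χ ∈ Y, (c χ o - c χ ψ₀) - ε * (c (ζ' Ψ₀) o - c (ζ' Ψ₀) ψ₀)
          + ∑ χ ∈ I \ Y, a χ * (c χ o - c χ ψ₀) := by
      rw [← bl_sum_split I Y hYI (ζ' Ψ₀) (hζY Ψ₀) d ε a (fun χ => c χ o - c χ ψ₀)]
      apply Finset.sum_congr rfl
      intro χ hχ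
      have := hP2 Ψ₀ χ hχ
      rw [hΨ₀v] at this
      rw [← this]
    have e5 : c (ζ' Ψ₀) o - c (ζ' Ψ₀) ψ₀ = d - ε := by
      have := hP2 Ψ₀ (ζ' Ψ₀) (hζI _)
      rw [if_pos (hζY _), if_pos rfl, hΨ₀v] at this
      rw [this]
      ring
    have e6 : ∑ χ ∈ I \ Y, a χ * (c χ o - c χ ψ₀) = ∑ χ ∈ I \ Y, a χ ^ 2 := by
      apply Finset.sum_congr rfl
      intro χ hχ
      rw [ha]
      show (c χ o - c χ ψ₀) * (c χ o - c χ ψ₀) = (c χ o - c χ ψ₀) ^ 2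
      ring
    rw [e4, hsumY, e5, e6] at e3
    linear_combination e3
  have hcard2 : 2 ≤ Y.card :=
    Finset.one_lt_card.mpr ⟨ζ' Ψ₀, hζY _, ζ' Ψ₁, hζY _, fun h => h01' (hinj _ _ h)⟩
  refine ⟨d, ε, ζ, Y, a, hε, hYI, ?_, ?_, ?_, ?_, ?_, hnorm, hcard2, ?_, ?_, ?_⟩
  · intro ψ hψ
    rw [hζ' ψ hψ]
    exact hζY _
  · intro η hη
    obtain ⟨-, ψ, rfl⟩ := (hmemY η).mp hη
    exact ⟨ψ.1, ψ.2, hζ' ψ.1 ψ.2⟩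
  · intro ψ ψ' hψ hψ'
    rw [hζ' ψ hψ, hζ' ψ' hψ']
    exact ⟨fun h => hinj _ _ h, fun h => hcongr' ⟨ψ, hψ⟩ ⟨ψ', hψ'⟩ h⟩
  · intro χ hχ hY' ψ hψ
    have := hP2 ⟨ψ, hψ⟩ χ hχ
    rw [if_neg hY'] at this
    exact this
  · intro ψ ψ' hψ hψ'
    rw [hζ' ψ hψ]
    have := hP2 ⟨ψ', hψ'⟩ (ζ' ⟨ψ, hψ⟩) (hζI _)
    rw [if_pos (hζY _)] at this
    refine this.trans ?_
    by_cases hr : r ψ ψ'
    · rw [if_pos hr, if_pos (hcongr' ⟨ψ, hψ⟩ ⟨ψ', hψ'⟩ hr)]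
    · rw [if_neg hr, if_neg (fun h => hr (hinj _ _ h))]
  · intro χ hχ hconstχ hY'
    obtain ⟨-, ψ, rfl⟩ := (hmemY χ).mp hY'
    obtain ⟨ψ', hr⟩ : ∃ ψ' : {ψ : Λ // ψ ≠ o}, ¬ r ψ.1 ψ'.1 := by
      by_cases h : r Ψ₀.1 ψ.1
      · exact ⟨Ψ₁, fun h' => h01' (htrans _ _ _ h h')⟩
      · exact ⟨Ψ₀, fun h' => h (hsymm _ _ h')⟩
    have e1 := hval' ψ ψ
    have e2 := hval' ψ ψ'
    rw [if_pos (hrefl _)] at e1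
    rw [if_neg hr] at e2
    have := hconstχ ψ.1 ψ'.1 ψ.2 ψ'.2
    omega
  · intro hne
    have h1 : ((I \ Y).card : ℤ) ≤ ∑ χ ∈ I \ Y, a χ ^ 2 := by
      have := Finset.card_nsmul_le_sum (I \ Y) (fun χ => a χ ^ 2) 1
        (fun χ hχ => bl_sq_ge_one (hne χ hχ))
      simpa using this
    have h2 : 1 ≤ (d - ε) ^ 2 + ((Y.card : ℤ) - 1) * d ^ 2 := by
      by_cases hd0 : d = 0
      · rw [hd0]
        rcases hε with h | h <;> rw [h] <;> norm_num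
      · have h3 := bl_sq_ge_one hd0
        have h4 : (1 : ℤ) ≤ (Y.card : ℤ) - 1 := by
          have : (2 : ℤ) ≤ (Y.card : ℤ) := by exact_mod_cast hcard2
          linarith
        nlinarith [sq_nonneg (d - ε)]
    linarith
  · intro F hF
    have hYeq : ∀ η ∈ Y, ∀ η' ∈ Y, F η = F η' := by
      intro η hη η' hη'
      obtain ⟨-, ψ, rfl⟩ := (hmemY η).mp hη
      obtain ⟨-, ψ', rfl⟩ := (hmemY η').mp hη'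
      by_cases hr : r ψ.1 ψ'.1
      · rw [hcongr' _ _ hr]
      · have e := hF ψ.1 ψ'.1
        have e2 : ∑ χ ∈ I, ((c χ ψ.1 : ℂ) - (c χ ψ'.1 : ℂ)) * F χ
            = (ε : ℂ) * (F (ζ' ψ) - F (ζ' ψ')) := by
          rw [← bl_sum_two_ite I (ζ' ψ) (ζ' ψ') (hζI _) (hζI _) (ε : ℂ) F]
          apply Finset.sum_congr rfl
          intro χ hχ
          have := congrArg (Int.cast : ℤ → ℂ) (hP1 ψ ψ' hr χ hχ)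
          push_cast at this
          rw [this]
        rw [e2] at e
        rcases mul_eq_zero.mp e with h | h
        · exact absurd h (by exact_mod_cast hε0)
        · exact sub_eq_zero.mp h
    refine ⟨hYeq, ?_⟩
    intro η hη
    have e := hF o ψ₀
    have e2 : ∑ χ ∈ I, ((c χ o : ℂ) - (c χ ψ₀ : ℂ)) * F χ
        = (d : ℂ) * ∑ χ ∈ Y, F χ - (ε : ℂ) * F (ζ' Ψ₀)
          + ∑ χ ∈ I \ Y, (a χ : ℂ) * F χ := by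
      rw [← bl_sum_split I Y hYI (ζ' Ψ₀) (hζY Ψ₀) (d : ℂ) (ε : ℂ) (fun χ => (a χ : ℂ)) F]
      apply Finset.sum_congr rfl
      intro χ hχ
      have := hP2 Ψ₀ χ hχ
      rw [hΨ₀v] at this
      have := congrArg (Int.cast : ℤ → ℂ) this
      push_cast at this
      rw [this]
    rw [e2] at e
    have e3 : ∑ χ ∈ Y, F χ = (Y.card : ℂ) * F η := by
      rw [Finset.sum_congr rfl (fun χ hχ => hYeq χ hχ η hη), Finset.sum_const, nsmul_eq_mul]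
    rw [e3, hYeq (ζ' Ψ₀) (hζY _) η hη] at e
    linear_combination e

end Cfsg.Agent.Lib.helper81
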