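import Mathlib
import Cfsg.Prelude.Def_Characters
import Cfsg.Prelude.Def_Blocks

/-!
# S0197 (simple group with an involution centralizer `GL(2,3)`): shared definitions (helper81)

The interfaces of the split project; see `tools/S0197_SPEC.md`.
-/

set_option autoImplicit false

namespace Cfsg.Agent.Lib.helper81.S0197

open Cfsg

/-- Abstract facts about `H = GL(2,3)`, with an element `z0` of order 8 and an element `w0` of
order 6 (`z0 ^ 4 = w0 ^ 3` is the central involution). -/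
structure GLFacts (H : Type*) [Group H] (z0 w0 : H) : Prop where
  card : Nat.card H = 48
  center : ∀ x : H, (∀ y : H, x * y = y * x) → x = 1 ∨ x = z0 ^ 4
  z8 : z0 ^ 8 = 1
  z4 : z0 ^ 4 ≠ 1
  w3 : w0 ^ 3 = z0 ^ 4
  w2 : w0 ^ 2 ≠ 1
  cent_z : ∀ x : H, x * z0 = z0 * x → x ∈ Subgroup.zpowers z0
  cent_y : ∀ x : H, x * z0 ^ 2 = z0 ^ 2 * x → x ∈ Subgroup.zpowers z0
  cent_w : ∀ x : H, x * w0 = w0 * x → x ∈ Subgroup.zpowers w0
  conj_z : ∃ n : H, n * z0 * n⁻¹ = z0 ^ 3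
  nconj_z : ∀ n : H, n * z0 * n⁻¹ ≠ z0⁻¹
  conj_w : ∃ n : H, n * w0 * n⁻¹ = w0⁻¹
  ord8 : ∀ x : H, x ^ 8 = 1 → x ^ 4 ≠ 1 → x ^ 4 = z0 ^ 4
  invol : ∀ u v : H, u ^ 2 = 1 → u ≠ 1 → u ≠ z0 ^ 4 → v ^ 2 = 1 → v ≠ 1 → v ≠ z0 ^ 4 →
    ∃ n : H, n * u * n⁻¹ = v
  pairs : Nat.card {u : H // u ^ 2 = 1 ∧ u ≠ 1 ∧ u ≠ z0 ^ 4 ∧ (u⁻¹ * z0 ^ 2) ^ 2 = 1 ∧
    u⁻¹ * z0 ^ 2 ≠ 1 ∧ u⁻¹ * z0 ^ 2 ≠ z0 ^ 4} = 4

/-- The group-theoretic data in `G` used by the character computation: `t` the involution,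
`z` of order 8 with `z ^ 4 = t`, `w` of order 6 with `w ^ 3 = t`. -/
structure GData (G : Type*) [Group G] (t z w : G) : Prop where
  z4 : z ^ 4 = t
  w3 : w ^ 3 = t
  ord_z : orderOf z = 8
  ord_w : orderOf w = 6
  cent_t : Nat.card (Subgroup.centralizer ({t} : Set G)) = 48
  cent_z : Nat.card (Subgroup.centralizer ({z} : Set G)) = 8
  cent_y : Nat.card (Subgroup.centralizer ({z ^ 2} : Set G)) = 8
  cent_w : Nat.card (Subgroup.centralizer ({w} : Set G)) = 6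
  conj_z : IsConj z (z ^ 3)
  nconj_z : ¬ IsConj z z⁻¹
  conj_w : IsConj w w⁻¹
  count_z : ∀ u v : G, IsConj t u → IsConj t v → u * v ≠ z
  count_y : Nat.card {p : G × G // IsConj t p.1 ∧ IsConj t p.2 ∧ p.1 * p.2 = z ^ 2} = 4
  not32 : ¬ 32 ∣ Nat.card G

/-- The arithmetic data extracted from the character table of `G`: `ι` indexes the irreducible
characters, `χ0` is the trivial one, `T, Y, W` are the values at `t, z ^ 2, w`, the value at `z`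
is `a + b √-2`, `f` is the degree and `g = |G|`. -/
structure Arith (ι : Type*) [Fintype ι] (χ0 : ι) (T Y W a b f : ι → ℤ) (g : ℤ) : Prop where
  f_pos : ∀ i, 0 < f i
  f_one : ∀ i, f i = 1 → i = χ0
  T0 : T χ0 = 1
  Y0 : Y χ0 = 1
  W0 : W χ0 = 1
  a0 : a χ0 = 1
  b0 : b χ0 = 0
  f0 : f χ0 = 1
  cYa : ∀ i, (2 : ℤ) ∣ Y i - a i
  cTY : ∀ i, (4 : ℤ) ∣ T i - Y i - 2 * b i
  cWT : ∀ i, (3 : ℤ) ∣ W i - T i
  sTT : ∑ i, T i ^ 2 = 48
  sYY : ∑ i, Y i ^ 2 = 8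
  sWW : ∑ i, W i ^ 2 = 6
  saa : ∑ i, a i ^ 2 = 4
  sbb : ∑ i, b i ^ 2 = 2
  sTY : ∑ i, T i * Y i = 0
  sTW : ∑ i, T i * W i = 0
  sTa : ∑ i, T i * a i = 0
  sTb : ∑ i, T i * b i = 0
  sYW : ∑ i, Y i * W i = 0
  sYa : ∑ i, Y i * a i = 0
  sYb : ∑ i, Y i * b i = 0
  sWa : ∑ i, W i * a i = 0
  sWb : ∑ i, W i * b i = 0
  sab : ∑ i, a i * b i = 0
  sfT : ∑ i, f i * T i = 0
  sfY : ∑ i, f i * Y i = 0
  sfW : ∑ i, f i * W i = 0
  sfa : ∑ i, f i * a i = 0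
  sfb : ∑ i, f i * b i = 0
  cz : ∑ i, ((T i : ℚ) ^ 2 * (a i : ℚ) / (f i : ℚ)) = 0
  cy : (g : ℚ) * ∑ i, ((T i : ℚ) ^ 2 * (Y i : ℚ) / (f i : ℚ)) = 9216
  g32 : ¬ (32 : ℤ) ∣ g

/-- The eight exceptional rows (up to sign), columns `T, Y, W, a, b`. -/
def UT : Fin 8 → ℤ := ![1, 1, 2, 2, 2, 3, 3, 4]
def UY : Fin 8 → ℤ := ![1, 1, 2, 0, 0, -1, -1, 0]
def UW : Fin 8 → ℤ := ![1, 1, -1, -1, -1, 0, 0, 1]
def Ua : Fin 8 → ℤ := ![1, -1, 0, 0, 0, -1, 1, 0]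
def Ub : Fin 8 → ℤ := ![0, 0, 0, 1, -1, 0, 0, 0]

/-- The conclusion of the pattern lemma: exactly eight indices carry nonzero values, and these
are (up to a sign per row) the rows of the table `UT, UY, UW, Ua, Ub`. -/
def Pattern (ι : Type*) (χ0 : ι) (T Y W a b : ι → ℤ) : Prop :=
  ∃ (x : Fin 8 → ι) (δ : Fin 8 → ℤ), Function.Injective x ∧ x 0 = χ0 ∧
    (∀ j, δ j = 1 ∨ δ j = -1) ∧
    (∀ j, T (x j) = δ j * UT j ∧ Y (x j) = δ j * UY j ∧ W (x j) = δ j * UW j ∧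
      a (x j) = δ j * Ua j ∧ b (x j) = δ j * Ub j) ∧
    ∀ k, k ∉ Set.range x → T k = 0 ∧ Y k = 0 ∧ W k = 0 ∧ a k = 0 ∧ b k = 0

/-- `1` and `s = √-2` are linearly independent over the integers. -/
theorem int_add_mul_eq_zero {s : ℂ} (hs : s ^ 2 = -2) (A B : ℤ)
    (h : (A : ℂ) + (B : ℂ) * s = 0) : A = 0 ∧ B = 0 := by
  have h1 : (A : ℂ) ^ 2 = (B : ℂ) ^ 2 * s ^ 2 := by
    have : (A : ℂ) = -((B : ℂ) * s) := by linear_combination h
    rw [this]; ring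
  rw [hs] at h1
  have h2 : A ^ 2 + 2 * B ^ 2 = 0 := by
    have : ((A ^ 2 + 2 * B ^ 2 : ℤ) : ℂ) = 0 := by push_cast; linear_combination h1
    exact_mod_cast this
  constructor <;> nlinarith [sq_nonneg A, sq_nonneg B]

/-- Complex conjugation negates `s = √-2`. -/
theorem conj_sqrt_neg_two {s : ℂ} (hs : s ^ 2 = -2) : (starRingEnd ℂ) s = -s := by
  have hre : s.re = 0 := by
    have h1 := congrArg Complex.im hs
    have h2 := congrArg Complex.re hs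
    simp [pow_two] at h1 h2
    by_contra hne
    have him : s.im = 0 := by
      have : s.re * s.im = 0 := by linarith
      rcases mul_eq_zero.mp this with h | h
      · exact absurd h hne
      · exact h
    rw [him] at h2
    nlinarith [sq_nonneg s.re]
  apply Complex.ext
  · simp [hre]
  · simp

end Cfsg.Agent.Lib.helper81.S0197
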