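import Cfsg.Agent.Lib.helper81.Kernel
import Cfsg.Agent.Lib.helper82.CharQuot
import Cfsg.Agent.Lib.helper84.ThirdMain
import Cfsg.Agent.Lib.helper79.GaloisSum
import Cfsg.Agent.Lib.helper80.LocalInt

/-!
# The principal block and `O_{p'}(G)`; Galois stability (helper81)

* `sum_comp_mk` : `∑_g F (g N) = |N| ∑_q F q`.
* `dvd_orderOf_mk_iff` : modulo a normal `p'`-subgroup, `p`-regularity is preserved and reflected.
* `infl`, `infl_mem_principalBlock_iff` : for a normal `p'`-subgroup `N`, an irreducible character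
  of `G ⧸ N` lies in the principal block iff its inflation does.
* `exists_infl_eq_of_mem_principalBlock` : every member of the principal block of `G` is inflated
  from `G ⧸ O_{p'}(G)`.
* `irrPow_mem_principalBlock_iff` : the principal block is stable under Galois conjugation.
-/

set_option autoImplicit false

namespace Cfsg.Agent.Lib.helper81

open Cfsg Cfsg.Agent.Lib.helper20
open scoped ComplexConjugate

universe u

section

variable {G : Type u} [Group G] [Fintype G]

theorem sum_comp_mk (N : Subgroup G) [N.Normal] [Fintype (G ⧸ N)] (F : G ⧸ N → ℂ) :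
    ∑ g : G, F (g : G ⧸ N) = (Nat.card N : ℂ) * ∑ q : G ⧸ N, F q := by
  have : Fintype N := Fintype.ofFinite N
  have h1 : ∀ g : G,
      (Subgroup.groupEquivQuotientProdSubgroup (s := N) g).1 = (g : G ⧸ N) := fun g => rfl
  rw [← Equiv.sum_comp (Subgroup.groupEquivQuotientProdSubgroup (s := N)).symm]
  rw [Fintype.sum_prod_type]
  rw [Finset.mul_sum]
  refine Finset.sum_congr rfl (fun q _ => ?_)
  have h2 : ∀ n : N,
      F (((Subgroup.groupEquivQuotientProdSubgroup (s := N)).symm (q, n) : G) : G ⧸ N) = F q := by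
    intro n
    have := h1 ((Subgroup.groupEquivQuotientProdSubgroup (s := N)).symm (q, n))
    rw [Equiv.apply_symm_apply] at this
    rw [← this]
  rw [Finset.sum_congr rfl (fun n _ => h2 n), Finset.sum_const, Finset.card_univ, nsmul_eq_mul,
    Nat.card_eq_fintype_card]

omit [Fintype G] in
theorem dvd_orderOf_mk_iff [Finite G] (p : ℕ) [Fact p.Prime] (N : Subgroup G) [N.Normal]
    (hN : (Nat.card N).Coprime p) (g : G) :
    p ∣ orderOf (g : G ⧸ N) ↔ p ∣ orderOf g := by
  have hp : p.Prime := Fact.out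
  constructor
  · intro h
    exact dvd_trans h (orderOf_map_dvd (QuotientGroup.mk' N) g)
  · intro h
    have h1 : g ^ orderOf (g : G ⧸ N) ∈ N := by
      rw [← QuotientGroup.eq_one_iff, QuotientGroup.mk_pow]
      exact pow_orderOf_eq_one _
    have h2 : orderOf (g ^ orderOf (g : G ⧸ N)) ∣ Nat.card N := Subgroup.orderOf_dvd_natCard N h1
    have h3 : g ^ (orderOf (g : G ⧸ N) * Nat.card N) = 1 := by
      rw [pow_mul]
      exact orderOf_dvd_iff_pow_eq_one.mp h2
    have h4 : orderOf g ∣ orderOf (g : G ⧸ N) * Nat.card N := orderOf_dvd_of_pow_eq_one h3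
    rcases (hp.dvd_mul).mp (dvd_trans h h4) with h5 | h5
    · exact h5
    · exact absurd (Nat.dvd_gcd h5 (dvd_refl p)) (by rw [hN]; exact hp.one_lt.ne' ∘ Nat.dvd_one.mp)

omit [Fintype G] in
/-- Inflation of an irreducible character of a quotient. -/
noncomputable def infl (N : Subgroup G) [N.Normal] (ψ : IrrCharacter (G ⧸ N)) : IrrCharacter G :=
  ⟨fun g => (ψ : G ⧸ N → ℂ) (g : G ⧸ N), helper82.isIrrCharacter_inflation N ψ.2⟩

omit [Fintype G] in
theorem infl_apply (N : Subgroup G) [N.Normal] (ψ : IrrCharacter (G ⧸ N)) (g : G) :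
    (infl N ψ : G → ℂ) g = (ψ : G ⧸ N → ℂ) (g : G ⧸ N) := rfl

omit [Fintype G] in
theorem infl_injective (N : Subgroup G) [N.Normal] : Function.Injective (infl N) := by
  intro ψ₁ ψ₂ h
  apply Subtype.ext
  funext q
  obtain ⟨g, rfl⟩ := QuotientGroup.mk_surjective q
  have := congrFun (congrArg Subtype.val h) g
  exact this

/-- For a normal `p'`-subgroup `N`: `ψ` lies in the principal block of `G ⧸ N` iff its inflation
lies in the principal block of `G`. -/
theorem infl_mem_principalBlock_iff {p : ℕ} [Fact p.Prime] {M : Ideal AlgInt}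
    (hM : IsPModular p M) (N : Subgroup G) [N.Normal] (hN : (Nat.card N).Coprime p)
    (ψ : IrrCharacter (G ⧸ N)) :
    infl N ψ ∈ principalBlock M G ↔ ψ ∈ principalBlock M (G ⧸ N) := by
  classical
  have hMp := isPrime_of_isPModular hM
  have hp : p.Prime := Fact.out
  have : Fintype (G ⧸ N) := Fintype.ofFinite _
  rw [helper84.mem_principalBlock_iff_pRegSum hM, helper84.mem_principalBlock_iff_pRegSum hM]
  have hsum : ∑ x : G, (if ¬ p ∣ orderOf x then (infl N ψ : G → ℂ) x else 0)
      = (Nat.card N : ℂ) * ∑ q : G ⧸ N, (if ¬ p ∣ orderOf q then (ψ : G ⧸ N → ℂ) q else 0) := by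
    rw [← sum_comp_mk N (fun q => if ¬ p ∣ orderOf q then (ψ : G ⧸ N → ℂ) q else 0)]
    refine Finset.sum_congr rfl (fun x _ => ?_)
    rw [infl_apply]
    by_cases hx : p ∣ orderOf x
    · rw [if_neg (not_not.mpr hx), if_neg (not_not.mpr ((dvd_orderOf_mk_iff p N hN x).mpr hx))]
    · rw [if_pos hx, if_pos (fun h => hx ((dvd_orderOf_mk_iff p N hN x).mp h))]
  have h1 : (infl N ψ : G → ℂ) 1 = (ψ : G ⧸ N → ℂ) 1 := rfl
  rw [hsum, h1, mul_div_assoc]
  have hndvd : ¬ p ∣ Nat.card N := by
    intro h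
    exact absurd (Nat.dvd_gcd h (dvd_refl p)) (by rw [hN]; exact hp.one_lt.ne' ∘ Nat.dvd_one.mp)
  have hNJ : ¬ MemLocalIdeal M (Nat.card N : ℂ) := helper80.not_memLocalIdeal_natCast hM hndvd
  have hNR : MemLocalRing M (Nat.card N : ℂ) := memLocalRing_natCast hMp _
  have hN0 : (Nat.card N : ℂ) ≠ 0 := by
    have : Nat.card N ≠ 0 := Nat.card_pos.ne'
    exact_mod_cast this
  constructor
  · intro h hcon
    exact h (memLocalIdeal_mul_left hMp hNR hcon)
  · intro h hcon
    apply h
    have h2 := memLocalIdeal_mul_left hMp (memLocalRing_inv hNR hNJ) hcon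
    rwa [← mul_assoc, inv_mul_cancel₀ hN0, one_mul] at h2

omit [Fintype G] in
/-- Every member of the principal block is inflated from `G ⧸ O_{p'}(G)`. -/
theorem exists_infl_eq_of_mem_principalBlock [Finite G] {p : ℕ} [Fact p.Prime] {M : Ideal AlgInt}
    (hM : IsPModular p M) [(pPrimeCore p G).Normal] {χ : IrrCharacter G}
    (hχ : χ ∈ principalBlock M G) :
    ∃ ψ : IrrCharacter (G ⧸ pPrimeCore p G), infl (pPrimeCore p G) ψ = χ := by
  obtain ⟨ψ, hψ, hψχ⟩ := helper82.isIrrCharacter_deflation (pPrimeCore p G) χ.2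
    (pPrimeCore_le_ker_of_mem_principalBlock hM hχ)
  refine ⟨⟨ψ, hψ⟩, ?_⟩
  apply Subtype.ext
  funext g
  exact hψχ g

/-- The principal block is stable under Galois conjugation. -/
theorem irrPow_mem_principalBlock_iff {p : ℕ} [Fact p.Prime] {M : Ideal AlgInt}
    (hM : IsPModular p M) (m : ℕ) (hm : m.Coprime (Nat.card G)) (χ : IrrCharacter G) :
    helper79.irrPow m hm χ ∈ principalBlock M G ↔ χ ∈ principalBlock M G := by
  classical
  rw [helper84.mem_principalBlock_iff_pRegSum hM, helper84.mem_principalBlock_iff_pRegSum hM]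
  have h1 : (helper79.irrPow m hm χ : G → ℂ) 1 = (χ : G → ℂ) 1 := by
    rw [helper79.irrPow_apply, one_pow]
  have hsum : ∑ x : G, (if ¬ p ∣ orderOf x then (helper79.irrPow m hm χ : G → ℂ) x else 0)
      = ∑ x : G, (if ¬ p ∣ orderOf x then (χ : G → ℂ) x else 0) := by
    rw [← Equiv.sum_comp (powCoprime hm.symm)
      (fun x => if ¬ p ∣ orderOf x then (χ : G → ℂ) x else 0)]
    refine Finset.sum_congr rfl (fun x _ => ?_)
    rw [powCoprime_apply, helper79.irrPow_apply]
    have ho : orderOf (x ^ m) = orderOf x := by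
      apply Nat.Coprime.orderOf_pow
      exact Nat.Coprime.coprime_dvd_left (orderOf_dvd_natCard x) hm.symm
    rw [ho]
  rw [hsum, h1]

end

end Cfsg.Agent.Lib.helper81
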