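import Cfsg.Agent.Lib.helper81.WBO

/-!
# Consequences of weak block orthogonality (helper81)
-/

set_option autoImplicit false

namespace Cfsg.Agent.Lib.helper81

open Cfsg Cfsg.Agent.Lib.helper20
open scoped ComplexConjugate

universe u

section

variable {G : Type u} [Group G] [Fintype G]

/-- Row orthogonality in the form `∑ x, χ x * conj (ψ x) = |G| δ`. -/
theorem irr_sum_mul_conj (χ ψ : IrrCharacter G) :
    ∑ x : G, (χ : G → ℂ) x * conj ((ψ : G → ℂ) x) = if χ = ψ then (Nat.card G : ℂ) else 0 := by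
  have h := irr_classInner χ ψ
  unfold classInner at h
  have hG : (Nat.card G : ℂ) ≠ 0 := card_ne_zero_complex
  have h2 : ∑ x : G, (χ : G → ℂ) x * conj ((ψ : G → ℂ) x)
      = (Nat.card G : ℂ) * (if χ = ψ then 1 else 0) := by
    rw [← h]; field_simp
  rw [h2]
  split_ifs <;> simp

/-- Bilinear expansion: `∑ x, (∑ ψ, α ψ conj (ψ x)) (∑ χ, β χ χ x) = |G| ∑ χ, α χ β χ`. -/
theorem sum_mul_sum_irr (α β : IrrCharacter G → ℂ) :
    ∑ x : G, (∑ ψ : IrrCharacter G, α ψ * conj ((ψ : G → ℂ) x))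
        * (∑ χ : IrrCharacter G, β χ * (χ : G → ℂ) x)
      = (Nat.card G : ℂ) * ∑ χ : IrrCharacter G, α χ * β χ := by
  classical
  simp_rw [Finset.sum_mul, Finset.mul_sum]
  rw [Finset.sum_comm]
  refine Finset.sum_congr rfl (fun ψ _ => ?_)
  rw [Finset.sum_comm]
  have h1 : ∀ χ : IrrCharacter G, ∑ x : G, α ψ * conj ((ψ : G → ℂ) x) * (β χ * (χ : G → ℂ) x)
      = α ψ * β χ * (if χ = ψ then (Nat.card G : ℂ) else 0) := by
    intro χ
    rw [← irr_sum_mul_conj χ ψ, Finset.mul_sum]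
    refine Finset.sum_congr rfl (fun x _ => ?_)
    ring
  simp_rw [h1]
  rw [Finset.sum_eq_single ψ]
  · rw [if_pos rfl]; ring
  · intro χ _ hχ
    rw [if_neg hχ, mul_zero]
  · intro h
    exact absurd (Finset.mem_univ _) h

end

end Cfsg.Agent.Lib.helper81
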