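import Mathlib
import Cfsg.Prelude.Def_Blocks
import Cfsg.Agent.Lib.helper77.Fong
import Cfsg.Agent.Lib.helper77.FongReynolds
import Cfsg.Agent.Lib.helper84.BlockOrth
import Cfsg.Agent.S0963

/-!
# Blocks of a normal subgroup of `p`-power index (helper81)

`N` normal in `G` with `[G : N]` a power of `p`, `c` a `G`-stable block of `N`.

* `mem_of_pRegular_of_pow_index`: `p`-regular elements lie in `N`;
* `coverSet_eq_blockOf_of_pow_index`: the characters of `G` over `c` form one block;
* `stable_pow_index_main`: a block `B` with the idempotent of `c` has `G = N P` and `P ∩ N` a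
  defect group of `c` for each defect group `P`.
-/

set_option autoImplicit false

namespace Cfsg.Agent.Lib.helper81

open Cfsg
open scoped ComplexConjugate

universe u

section PQ

variable {G : Type u} [Group G] [Fintype G] (N : Subgroup G) [hN : N.Normal] [Fintype N]

omit [Fintype G] [Fintype N] in
/-- In a normal subgroup of `p`-power index, every `p`-regular element lies in the subgroup. -/
theorem mem_of_pRegular_of_pow_index {p : ℕ} [Fact p.Prime] (hidx : ∃ k : ℕ, N.index = p ^ k)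
    {g : G} (hg : ¬ p ∣ orderOf g) : g ∈ N := by
  obtain ⟨k, hk⟩ := hidx
  have h1 : g ^ N.index ∈ N := Subgroup.pow_index_mem N g
  have hp : p.Prime := Fact.out
  have hcop : (orderOf g).Coprime N.index := by
    rw [hk]
    exact Nat.Coprime.pow_right k ((Nat.Prime.coprime_iff_not_dvd hp).mpr hg).symm
  obtain ⟨m, hm⟩ := exists_pow_eq_self_of_coprime hcop.symm
  rw [← hm]
  exact N.pow_mem h1 m

/-- If `G/N` is a `p`-group and `c` is a `G`-stable block of `N`, the characters of `G` lying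
over `c` form a single block. -/
theorem coverSet_eq_blockOf_of_pow_index {p : ℕ} [Fact p.Prime] {M : Ideal AlgInt}
    (hM : IsPModular p M) (hidx : ∃ k : ℕ, N.index = p ^ k)
    {c : Set (IrrCharacter N)} (hc : IsPBlock M c)
    (hst : ∀ g : G, ∀ θ ∈ c, helper77.cjIrr N g θ ∈ c)
    {χ₀ : IrrCharacter G} (hχ₀ : χ₀ ∈ helper77.coverSet N c) :
    helper77.coverSet N c = blockOf M (χ₀ : G → ℂ) := by
  classical
  have hMp : M.IsPrime := helper20.isPrime_of_isPModular hM
  apply Set.Subset.antisymm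
  · intro χ hχ
    obtain ⟨θ₀, hθ₀, h₀⟩ := hχ₀
    obtain ⟨θ, hθ, h⟩ := hχ
    show SameBlock M (χ₀ : G → ℂ) (χ : G → ℂ)
    apply helper84.sameBlock_of_pRegular hM
    intro g hg
    have hgN : g ∈ N := mem_of_pRegular_of_pow_index N hidx hg
    have e0 := (Cfsg.Agent.S0963.result N χ₀ θ₀).mp h₀ ⟨g, hgN⟩
    have e1 := (Cfsg.Agent.S0963.result N χ θ).mp h ⟨g, hgN⟩
    have e2 := helper77.memLocalIdeal_inducedCentralChar_sub N hMp
      (helper80.sameBlock_of_mem hMp hc hθ₀ hθ) g
    show MemLocalIdeal M (centralChar (χ₀ : G → ℂ) g - centralChar (χ : G → ℂ) g)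
    have e0' : centralChar (χ₀ : G → ℂ) g = inducedCentralChar N (θ₀ : N → ℂ) g := e0
    have e1' : centralChar (χ : G → ℂ) g = inducedCentralChar N (θ : N → ℂ) g := e1
    rw [e0', e1']
    exact e2
  · exact helper77.coverSet_union_blocks N hMp hc hst χ₀ hχ₀

/-- If `G/N` is a `p`-group and `c` is a `G`-stable block of `N`, the idempotent of `c` is the
idempotent of a block of `G`. -/
theorem exists_block_of_pow_index {p : ℕ} [Fact p.Prime] {M : Ideal AlgInt}
    (hM : IsPModular p M) (hidx : ∃ k : ℕ, N.index = p ^ k)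
    {c : Set (IrrCharacter N)} (hc : IsPBlock M c)
    (hst : ∀ g : G, ∀ θ ∈ c, helper77.cjIrr N g θ ∈ c) :
    ∃ B : Set (IrrCharacter G), IsPBlock M B ∧ B = helper77.coverSet N c ∧
      ∀ g : G, blockCoeff B g = subgroupBlockCoeff N c g := by
  classical
  have hMp : M.IsPrime := helper20.isPrime_of_isPModular hM
  obtain ⟨θ, hθ⟩ := helper80.isPBlock_nonempty hMp hc
  obtain ⟨χ₀, hχ₀⟩ := helper77.exists_irr_over N θ
  have hmem : χ₀ ∈ helper77.coverSet N c := ⟨θ, hθ, hχ₀⟩
  have heq := coverSet_eq_blockOf_of_pow_index N hM hidx hc hst hmem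
  refine ⟨blockOf M (χ₀ : G → ℂ), helper80.isPBlock_blockOf M χ₀, heq.symm, ?_⟩
  intro g
  rw [← heq, ← helper77.blockCoeff_coverSet N c hst g]
  rfl

/-- If `G/N` is a `p`-group, `c` is a `G`-stable block of `N` and the block `B` of `G` has the
idempotent of `c`, then for each defect group `P` of `B`: `G = N P` and `P ∩ N` is a defect group
of `c`. -/
theorem stable_pow_index_main {p : ℕ} [Fact p.Prime] {M : Ideal AlgInt}
    (hM : IsPModular p M) (hidx : ∃ k : ℕ, N.index = p ^ k)
    {c : Set (IrrCharacter N)} (hc : IsPBlock M c)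
    (hst : ∀ g : G, ∀ θ ∈ c, helper77.cjIrr N g θ ∈ c)
    {B : Set (IrrCharacter G)} (hB : IsPBlock M B)
    (hBc : ∀ g : G, blockCoeff B g = subgroupBlockCoeff N c g)
    {P : Subgroup G} (hP : IsDefectGroup p M B P) :
    N ⊔ P = ⊤ ∧ IsDefectGroup p M c ((P ⊓ N).subgroupOf N) := by
  classical
  have hMp : M.IsPrime := helper20.isPrime_of_isPModular hM
  have hp : p.Prime := Fact.out
  obtain ⟨χ, hχ⟩ := helper80.isPBlock_nonempty hMp hB
  -- `χ` lies over `c`
  have hχc : χ ∈ helper77.coverSet N c := by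
    by_contra hcon
    have h1 := helper80.om_blockCoeff B χ
    rw [if_pos hχ] at h1
    have h2 := helper80.om_blockCoeff (helper77.coverSet N c) χ
    rw [if_neg hcon] at h2
    have h3 : blockCoeff B = blockCoeff (helper77.coverSet N c) := by
      funext g
      rw [hBc g, ← helper77.blockCoeff_coverSet N c hst g]
      rfl
    rw [h3, h2] at h1
    exact zero_ne_one h1
  have heq := coverSet_eq_blockOf_of_pow_index N hM hidx hc hst hχc
  have hBeq : B = helper77.coverSet N c := by
    rw [heq]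
    exact helper80.isPBlock_eq_of_mem hMp hB (helper80.isPBlock_blockOf M χ) hχ
      (helper80.mem_blockOf_self hMp χ)
  have hcov : ∃ χ ∈ B, ∃ θ ∈ c, classInner (fun n : N => (χ : G → ℂ) n) (θ : N → ℂ) ≠ 0 := by
    obtain ⟨θ, hθ, h⟩ := hχc
    exact ⟨χ, hχ, θ, hθ, h⟩
  have hmax : ∀ B' : Set (IrrCharacter G), IsPBlock M B' →
      (∃ χ ∈ B', ∃ θ ∈ c, classInner (fun n : N => (χ : G → ℂ) n) (θ : N → ℂ) ≠ 0) →
      blockDefect p B' ≤ blockDefect p B := by
    intro B' hB' ⟨χ', hχ', θ', hθ', h'⟩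
    have h1 : χ' ∈ B := by
      rw [hBeq]
      exact ⟨θ', hθ', h'⟩
    rw [helper80.isPBlock_eq_of_mem hMp hB' hB hχ' h1]
  obtain ⟨h1, h2, -⟩ := helper77.fong_main N hM hc hst hB hcov hmax hP
  refine ⟨?_, h2⟩
  obtain ⟨k, hk⟩ := hidx
  have h3 : (P ⊔ N).index ∣ N.index := Subgroup.index_dvd_of_le le_sup_right
  rw [hk] at h3
  obtain ⟨j, -, hj⟩ := (Nat.dvd_prime_pow hp).mp h3
  have hj0 : j = 0 := by
    by_contra hne
    apply h1
    rw [hj]
    exact dvd_pow_self p hne
  rw [hj0, pow_zero] at hj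
  rw [sup_comm]
  exact Subgroup.index_eq_one.mp hj

end PQ

end Cfsg.Agent.Lib.helper81
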