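import Cfsg.Agent.Lib.helper80.BrauerH
import Cfsg.Agent.Lib.helper80.IdemCongr
import Cfsg.Agent.Lib.helper80.InducedBr
import Cfsg.Agent.Lib.helper81.Blocks

/-!
# Brauer correspondents with control of an idempotent coefficient (helper81)

* `exists_block_brInd_of_blockCoeff` : if `c₀ ∈ C_G(P)` and the idempotent coefficient `a_B(c₀)`
  is not in the local ideal, then some block `b` of `H` (`C_G(P) ≤ H ≤ N_G(P)`) corresponding to
  `B` under the Brauer map has `a_b(c₀)` outside the local ideal.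
-/

set_option autoImplicit false

namespace Cfsg.Agent.Lib.helper81

open Cfsg Cfsg.Agent.Lib.helper20
open scoped ComplexConjugate

universe u

section

variable {G : Type u} [Group G] [Fintype G]

theorem exists_block_brInd_of_blockCoeff {p : ℕ} [Fact p.Prime] {M : Ideal AlgInt}
    (hM : IsPModular p M) (P H : Subgroup G) [Fintype H] (hP : IsPGroup p P)
    (hCH : Subgroup.centralizer (P : Set G) ≤ H) (hHN : H ≤ Subgroup.normalizer (P : Set G))
    {B : Set (IrrCharacter G)} (hB : IsPBlock M B) (c₀ : G)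
    (hc₀ : c₀ ∈ Subgroup.centralizer (P : Set G)) (hec : ¬ MemLocalIdeal M (blockCoeff B c₀)) :
    ∃ b : Set (IrrCharacter H), IsPBlock M b ∧
      (∃ θ ∈ b, ∃ χ ∈ B, Cfsg.Agent.Lib.helper80.BrInd M P H (θ : H → ℂ) (χ : G → ℂ)) ∧
      ¬ MemLocalIdeal M (blockCoeff b (⟨c₀, hCH hc₀⟩ : H)) := by
  classical
  have hMp := isPrime_of_isPModular hM
  have he := Cfsg.Agent.Lib.helper80.classAlg_blockCoeff hMp hB
  have hα := Cfsg.Agent.Lib.helper80.classAlg_brH hMp P H hHN he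
  have hidem : ∀ h : H, MemLocalIdeal M
      (conv (Cfsg.Agent.Lib.helper80.brH P H (blockCoeff B))
        (Cfsg.Agent.Lib.helper80.brH P H (blockCoeff B)) h
        - Cfsg.Agent.Lib.helper80.brH P H (blockCoeff B) h) := by
    intro h
    have h1 := Cfsg.Agent.Lib.helper80.brH_conv hM P H hP hCH he he h
    have h2 : Cfsg.Agent.Lib.helper80.brH P H (conv (blockCoeff B) (blockCoeff B)) h
        = Cfsg.Agent.Lib.helper80.brH P H (blockCoeff B) h := by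
      apply Cfsg.Agent.Lib.helper80.brH_congr
      intro g
      rw [Cfsg.Agent.Lib.helper80.conv_blockCoeff, Set.inter_self]
    rw [h2] at h1
    have := memLocalIdeal_neg h1
    rwa [neg_sub] at this
  obtain ⟨𝔅, h𝔅⟩ : ∃ 𝔅 : Finset (Set (IrrCharacter H)),
      𝔅 = (Cfsg.Agent.Lib.helper80.blocks M H).filter (fun b : Set (IrrCharacter H) => ∃ θ ∈ b, ∃ χ ∈ B,
        Cfsg.Agent.Lib.helper80.BrInd M P H (θ : H → ℂ) (χ : G → ℂ)) := ⟨_, rfl⟩
  have hmem𝔅 : ∀ b, b ∈ 𝔅 ↔ IsPBlock M b ∧ ∃ θ ∈ b, ∃ χ ∈ B,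
      Cfsg.Agent.Lib.helper80.BrInd M P H (θ : H → ℂ) (χ : G → ℂ) := by
    intro b
    rw [h𝔅, Finset.mem_filter, Cfsg.Agent.Lib.helper80.mem_blocks]
  have hdisj : ∀ b ∈ 𝔅, ∀ b' ∈ 𝔅, b ≠ b' → Disjoint b b' := by
    intro b hb b' hb' hne
    exact isPBlock_disjoint hMp ((hmem𝔅 b).1 hb).1 ((hmem𝔅 b').1 hb').1 hne
  have hβeq : ∀ h : H, ∑ b ∈ 𝔅, blockCoeff b h = blockCoeff (⋃ b ∈ 𝔅, b) h :=
    Cfsg.Agent.Lib.helper80.sum_blockCoeff_of_pairwiseDisjoint 𝔅 hdisj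
  have hβ : Cfsg.Agent.Lib.helper80.classAlg M (blockCoeff (⋃ b ∈ 𝔅, b)) := by
    have h1 := (Cfsg.Agent.Lib.helper80.isLocalSubalgebra_classAlg (G := H) hMp).sum 𝔅
      (fun b => blockCoeff b)
      (fun b hb => Cfsg.Agent.Lib.helper80.classAlg_blockCoeff hMp ((hmem𝔅 b).1 hb).1)
    have h2 : (fun k => ∑ b ∈ 𝔅, blockCoeff b k) = blockCoeff (⋃ b ∈ 𝔅, b) := funext hβeq
    rw [h2] at h1
    exact h1
  have hβidem : ∀ h : H, MemLocalIdeal M
      (conv (blockCoeff (⋃ b ∈ 𝔅, b)) (blockCoeff (⋃ b ∈ 𝔅, b)) h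
        - blockCoeff (⋃ b ∈ 𝔅, b) h) := by
    intro h
    rw [Cfsg.Agent.Lib.helper80.conv_blockCoeff, Set.inter_self, sub_self]
    exact memLocalIdeal_zero hMp
  have hom : ∀ θ : IrrCharacter H, MemLocalIdeal M
      (Cfsg.Agent.Lib.helper80.om (θ : H → ℂ) (Cfsg.Agent.Lib.helper80.brH P H (blockCoeff B))
        - Cfsg.Agent.Lib.helper80.om (θ : H → ℂ) (blockCoeff (⋃ b ∈ 𝔅, b))) := by
    intro θ
    obtain ⟨χ, hχ⟩ := Cfsg.Agent.Lib.helper80.exists_brInd hM P H hP hCH hHN θ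
    have h1 := hχ _ he
    rw [Cfsg.Agent.Lib.helper80.om_blockCoeff] at h1 ⊢
    have hiff : θ ∈ (⋃ b ∈ 𝔅, b) ↔ χ ∈ B := by
      constructor
      · intro hθ
        rw [Set.mem_iUnion₂] at hθ
        obtain ⟨b, hb, hθb⟩ := hθ
        obtain ⟨hbB, θ', hθ', χ', hχ', hbr⟩ := (hmem𝔅 b).1 hb
        have h2 : Cfsg.Agent.Lib.helper80.BrInd M P H (θ : H → ℂ) (χ' : G → ℂ) :=
          Cfsg.Agent.Lib.helper80.BrInd.congr_left hMp hHN hbr (sameBlock_of_mem hMp hbB hθ' hθb)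
        have h3 := Cfsg.Agent.Lib.helper80.BrInd.sameBlock hMp h2 hχ
        exact mem_of_sameBlock hMp hB hχ' h3
      · intro hχB
        rw [Set.mem_iUnion₂]
        exact ⟨blockOf M (θ : H → ℂ), (hmem𝔅 _).2 ⟨isPBlock_blockOf θ, θ, mem_blockOf_self hMp θ,
          χ, hχB, hχ⟩, mem_blockOf_self hMp θ⟩
    by_cases hχB : χ ∈ B
    · rw [if_pos hχB] at h1
      rw [if_pos (hiff.2 hχB)]
      exact h1
    · rw [if_neg hχB] at h1
      rw [if_neg (fun h => hχB (hiff.1 h))]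
      exact h1
  have hcong := Cfsg.Agent.Lib.helper80.memLocalIdeal_sub_of_idem hMp
    (Cfsg.Agent.Lib.helper80.isLocalSubalgebra_classAlg (G := H) hMp) hα hβ hidem hβidem hom
    ⟨c₀, hCH hc₀⟩
  rw [Cfsg.Agent.Lib.helper80.brH_of_mem P H _ (h := ⟨c₀, hCH hc₀⟩) hc₀] at hcong
  have hnot : ¬ MemLocalIdeal M (blockCoeff (⋃ b ∈ 𝔅, b) (⟨c₀, hCH hc₀⟩ : H)) := by
    intro hcon
    apply hec
    have := memLocalIdeal_add hMp hcong hcon
    rwa [sub_add_cancel] at this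
  rw [← hβeq] at hnot
  by_contra hall
  push Not at hall
  apply hnot
  apply memLocalIdeal_sum hMp
  intro b hb
  obtain ⟨hbB, hex⟩ := (hmem𝔅 b).1 hb
  exact hall b hbB hex

end

end Cfsg.Agent.Lib.helper81
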