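import Mathlib

/-!
# A counting form of the Brauer–Wielandt bound

If two commuting elements `x`, `y` of square one normalise a subgroup `X` of odd order, and the
centralizers of `x`, `y` and `x * y` in the ambient finite group have order at most `c`, then
`|X| ≤ c ^ 3`.  The proof is by counting products of involutions in the cosets `X x`, `X y`.
-/

set_option autoImplicit false

namespace Cfsg.Agent.Lib.helper81

open Subgroup

/-- A map with fibres of size at most `n` has domain of size at most `n` times the codomain. -/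
theorem dc_card_le_mul_of_fiber_le {α β : Type*} [Finite α] [Finite β] (f : α → β) (n : ℕ)
    (hn : ∀ b : β, Nat.card {a : α // f a = b} ≤ n) : Nat.card α ≤ n * Nat.card β := by
  classical
  have := Fintype.ofFinite α
  have := Fintype.ofFinite β
  rw [Nat.card_eq_fintype_card, Nat.card_eq_fintype_card, ← Finset.card_univ,
    ← Finset.card_univ (α := β)]
  refine Finset.card_le_mul_card_image_of_maps_to (f := f) (fun a _ => Finset.mem_univ _) n ?_
  intro b _
  have h := hn b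
  rwa [Nat.card_eq_fintype_card, Fintype.card_subtype] at h

/-- If every point of `S` gives an injection of `S` into a type of size at most `c`, then `S`
has size at most `c`. -/
theorem dc_card_le_of_pointed_inj {S T : Type*} [Finite T] (c : ℕ) (hT : Nat.card T ≤ c)
    (h : ∀ _ : S, ∃ f : S → T, Function.Injective f) : Nat.card S ≤ c := by
  rcases isEmpty_or_nonempty S with hS | hS
  · rw [Nat.card_of_isEmpty]; exact Nat.zero_le _
  · obtain ⟨s₀⟩ := hS
    obtain ⟨f, hf⟩ := h s₀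
    exact (Nat.card_le_card_of_injective f hf).trans hT

variable {G : Type*} [Group G]

/-- The elements of `X` inverted by `t`. -/
def dcInv (X : Subgroup G) (t : G) : Set G := {i | i ∈ X ∧ t * i * t⁻¹ = i⁻¹}

theorem dc_inv_eq_self {t : G} (ht : t * t = 1) : t⁻¹ = t :=
  inv_eq_of_mul_eq_one_left ht

theorem dc_conj_conj {t : G} (ht : t * t = 1) (g : G) :
    MulAut.conj t (MulAut.conj t g) = g := by
  rw [← MulAut.mul_apply, ← map_mul, ht, map_one, MulAut.one_apply]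

/-- A product of two elements of square one is inverted by the first. -/
theorem dc_invert {s t : G} (hs : s * s = 1) (ht : t * t = 1) :
    s * (s * t) * s = (s * t)⁻¹ := by
  calc s * (s * t) * s = (s * s) * t * s := by simp only [mul_assoc]
    _ = t * s := by rw [hs, one_mul]
    _ = (s * t)⁻¹ := by
      rw [mul_inv_rev, inv_eq_of_mul_eq_one_left hs, inv_eq_of_mul_eq_one_left ht]

/-- Two elements of square one inverting `g` differ by an element commuting with `g`. -/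
theorem dc_commute_of_invert {s s₀ g : G} (hs : s * s = 1) (hs₀ : s₀ * s₀ = 1)
    (h1 : s * g * s = g⁻¹) (h2 : s₀ * g * s₀ = g⁻¹) :
    (s₀⁻¹ * s) * g = g * (s₀⁻¹ * s) := by
  have hs₀i : s₀⁻¹ = s₀ := inv_eq_of_mul_eq_one_left hs₀
  have e1 : s * g = g⁻¹ * s := by
    have : s * g * s * s = g⁻¹ * s := by rw [h1]
    rwa [mul_assoc (s * g) s s, hs, mul_one] at this
  have h3 : s₀ * g = g⁻¹ * s₀ := by
    have : s₀ * g * s₀ * s₀ = g⁻¹ * s₀ := by rw [h2]
    rwa [mul_assoc (s₀ * g) s₀ s₀, hs₀, mul_one] at this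
  have h4 : g * s₀ * g = s₀ := by
    rw [mul_assoc, h3, ← mul_assoc, mul_inv_cancel, one_mul]
  have e2 : s₀ * g⁻¹ = g * s₀ := by
    calc s₀ * g⁻¹ = (g * s₀ * g) * g⁻¹ := by rw [h4]
      _ = g * s₀ := by rw [mul_assoc, mul_inv_cancel, mul_one]
  rw [hs₀i]
  calc s₀ * s * g = s₀ * (s * g) := mul_assoc _ _ _
    _ = s₀ * (g⁻¹ * s) := by rw [e1]
    _ = (s₀ * g⁻¹) * s := (mul_assoc _ _ _).symm
    _ = g * s₀ * s := by rw [e2]
    _ = g * (s₀ * s) := mul_assoc _ _ _

theorem dc_sq_of_mem_inv {X : Subgroup G} {t i : G} (ht : t * t = 1) (hi : i ∈ dcInv X t) :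
    (i * t) * (i * t) = 1 := by
  have h1 := hi.2
  rw [dc_inv_eq_self ht] at h1
  calc (i * t) * (i * t) = i * (t * i * t) := by simp only [mul_assoc]
    _ = i * i⁻¹ := by rw [h1]
    _ = 1 := mul_inv_cancel i

/-- `|X| ≤ c * #(elements of X inverted by t)`. -/
theorem dc_card_le_mul_card_inv [Finite G] (X : Subgroup G) (t : G) (ht : t * t = 1)
    (hX : ∀ g ∈ X, t * g * t⁻¹ ∈ X) (c : ℕ)
    (hc : Nat.card (Subgroup.centralizer ({t} : Set G)) ≤ c) :
    Nat.card X ≤ c * Nat.card (dcInv X t) := by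
  have hmem : ∀ g : X, (g : G)⁻¹ * (t * (g : G) * t⁻¹) ∈ dcInv X t := by
    intro g
    refine ⟨X.mul_mem (X.inv_mem g.2) (hX _ g.2), ?_⟩
    have h1 : t * ((g : G)⁻¹ * (t * (g : G) * t⁻¹)) * t⁻¹
        = (MulAut.conj t (g : G))⁻¹ * MulAut.conj t (MulAut.conj t (g : G)) := by
      simp only [MulAut.conj_apply]; group
    rw [h1, dc_conj_conj ht, MulAut.conj_apply]
    group
  refine dc_card_le_mul_of_fiber_le (fun g : X => (⟨_, hmem g⟩ : dcInv X t)) c ?_
  intro b
  refine dc_card_le_of_pointed_inj c hc ?_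
  rintro ⟨g₀, hg₀⟩
  have key : ∀ g : {a : X // (⟨_, hmem a⟩ : dcInv X t) = b},
      ((g : X) : G) * ((g₀ : X) : G)⁻¹ ∈ Subgroup.centralizer ({t} : Set G) := by
    rintro ⟨g, hg⟩
    rw [Subgroup.mem_centralizer_singleton_iff]
    have h1 : (g : G)⁻¹ * (t * (g : G) * t⁻¹) = (g₀ : G)⁻¹ * (t * (g₀ : G) * t⁻¹) := by
      have := congrArg Subtype.val (hg.trans hg₀.symm)
      exact this
    have h2 : (g : G)⁻¹ * t * (g : G) = (g₀ : G)⁻¹ * t * (g₀ : G) := by
      have h3 : (g : G)⁻¹ * t * (g : G) = ((g : G)⁻¹ * (t * (g : G) * t⁻¹)) * t := by group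
      have h4 : (g₀ : G)⁻¹ * t * (g₀ : G) = ((g₀ : G)⁻¹ * (t * (g₀ : G) * t⁻¹)) * t := by group
      rw [h3, h4, h1]
    have h5 : t = (g₀ : G) * ((g : G)⁻¹ * t * (g : G)) * (g₀ : G)⁻¹ := by
      rw [h2]; group
    show (g : G) * (g₀ : G)⁻¹ * t = t * ((g : G) * (g₀ : G)⁻¹)
    calc (g : G) * (g₀ : G)⁻¹ * t
        = (g : G) * (g₀ : G)⁻¹ * ((g₀ : G) * ((g : G)⁻¹ * t * (g : G)) * (g₀ : G)⁻¹) := by
          rw [← h5]
      _ = t * ((g : G) * (g₀ : G)⁻¹) := by group
  refine ⟨fun g => ⟨_, key g⟩, ?_⟩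
  rintro ⟨g, hg⟩ ⟨g', hg'⟩ h
  have h1 : (g : G) * (g₀ : G)⁻¹ = (g' : G) * (g₀ : G)⁻¹ := congrArg Subtype.val h
  have h2 : (g : G) = (g' : G) := mul_right_cancel h1
  exact Subtype.ext (Subtype.ext h2)

/-- For `z` of square one normalising the odd-order subgroup `X` and `h ∈ X`, every element
commuting with `h * z` is conjugate by a fixed element into the centralizer of `z`. -/
theorem dc_exists_conj_of_coset [Finite G] (X : Subgroup G) (hodd : Odd (Nat.card X)) (z : G)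
    (hz : z * z = 1) (hzX : ∀ g ∈ X, z * g * z⁻¹ ∈ X) (h : G) (hh : h ∈ X) :
    ∃ k : G, ∀ u : G, u * (h * z) = (h * z) * u → (k⁻¹ * u * k) * z = z * (k⁻¹ * u * k) := by
  obtain ⟨m, hm⟩ := hodd
  have hzi := dc_inv_eq_self hz
  -- the square of `h * z` lies in `X`
  have hsq : (h * z) * (h * z) ∈ X := by
    have : (h * z) * (h * z) = h * (z * h * z⁻¹) := by rw [hzi]; simp only [mul_assoc]
    rw [this]
    exact X.mul_mem hh (hzX h hh)
  obtain ⟨h', hh', hw⟩ : ∃ h' : G, h' ∈ X ∧ (h * z) ^ (Nat.card X) = h' * z := by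
    refine ⟨((h * z) * (h * z)) ^ m * h, X.mul_mem (X.pow_mem hsq m) hh, ?_⟩
    rw [hm, pow_succ, pow_mul, pow_two]
    exact (mul_assoc _ _ _).symm
  have hpowX : ∀ a : G, a ∈ X → a ^ (Nat.card X) = 1 := by
    intro a ha
    have := pow_card_eq_one' (G := X) (x := ⟨a, ha⟩)
    exact congrArg Subtype.val this
  -- `w = h' * z` has square one
  have hww : (h' * z) * (h' * z) = 1 := by
    rw [← hw, ← pow_add, ← two_mul, pow_mul, pow_two]
    exact hpowX _ hsq
  have hinv : z * h' * z⁻¹ = h'⁻¹ := by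
    rw [hzi]
    have : h' * (z * h' * z) = 1 := by
      rw [← hww]; simp only [mul_assoc]
    exact (eq_inv_of_mul_eq_one_right this)
  refine ⟨h' ^ (m + 1), ?_⟩
  obtain ⟨k, hk⟩ : ∃ k : G, k = h' ^ (m + 1) := ⟨_, rfl⟩
  rw [← hk]
  have hkk : k * k = h' := by
    rw [hk, ← pow_add]
    have : m + 1 + (m + 1) = Nat.card X + 1 := by omega
    rw [this, pow_succ, hpowX h' hh', one_mul]
  have hzk : z * k * z⁻¹ = k⁻¹ := by
    have h1 : z * k * z⁻¹ = (z * h' * z⁻¹) ^ (m + 1) := by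
      rw [hk, conj_pow]
    rw [h1, hinv, inv_pow, hk]
  have hconj : k * z * k⁻¹ = h' * z := by
    have h1 : z * k⁻¹ * z⁻¹ = k := by
      rw [← conj_inv, hzk, inv_inv]
    calc k * z * k⁻¹ = k * (z * k⁻¹ * z⁻¹) * z := by group
      _ = k * k * z := by rw [h1]
      _ = h' * z := by rw [hkk]
  intro u hu
  have hcu : Commute u (h * z) := hu
  have hcw : Commute u (h' * z) := by
    rw [← hw]
    exact hcu.pow_right _
  rw [← hconj] at hcw
  have h2 : u * (k * z * k⁻¹) = (k * z * k⁻¹) * u := hcw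
  calc (k⁻¹ * u * k) * z = k⁻¹ * (u * (k * z * k⁻¹)) * k := by group
    _ = k⁻¹ * ((k * z * k⁻¹) * u) * k := by rw [h2]
    _ = z * (k⁻¹ * u * k) := by group

/-- The counting form of the Brauer–Wielandt formula. -/
theorem dc_bw_card_le [Finite G] (X : Subgroup G) (hodd : Odd (Nat.card X)) (x y : G)
    (hx : x * x = 1) (hy : y * y = 1) (hxy : x * y = y * x)
    (hxX : ∀ g ∈ X, x * g * x⁻¹ ∈ X) (hyX : ∀ g ∈ X, y * g * y⁻¹ ∈ X) (c : ℕ)
    (hcx : Nat.card (Subgroup.centralizer ({x} : Set G)) ≤ c)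
    (hcy : Nat.card (Subgroup.centralizer ({y} : Set G)) ≤ c)
    (hcz : Nat.card (Subgroup.centralizer ({x * y} : Set G)) ≤ c) :
    Nat.card X ≤ c ^ 3 := by
  have hz : (x * y) * (x * y) = 1 := by
    calc (x * y) * (x * y) = x * (y * x) * y := by simp only [mul_assoc]
      _ = x * (x * y) * y := by rw [hxy]
      _ = (x * x) * (y * y) := by simp only [mul_assoc]
      _ = 1 := by rw [hx, hy, one_mul]
  have hzX : ∀ g ∈ X, (x * y) * g * (x * y)⁻¹ ∈ X := by
    intro g hg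
    have : (x * y) * g * (x * y)⁻¹ = x * (y * g * y⁻¹) * x⁻¹ := by group
    rw [this]
    exact hxX _ (hyX g hg)
  have hA := dc_card_le_mul_card_inv X x hx hxX c hcx
  have hB := dc_card_le_mul_card_inv X y hy hyX c hcy
  -- the product map
  have hΦ : ∀ q : dcInv X x × dcInv X y, (q.1 : G) * (x * (q.2 : G) * x⁻¹) ∈ X := by
    rintro ⟨⟨i, hi⟩, ⟨j, hj⟩⟩
    exact X.mul_mem hi.1 (hxX j hj.1)
  have hC : Nat.card (dcInv X x × dcInv X y) ≤ c * Nat.card X := by
    refine dc_card_le_mul_of_fiber_le (fun q => (⟨_, hΦ q⟩ : X)) c ?_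
    rintro ⟨h, hh⟩
    obtain ⟨k, hk⟩ := dc_exists_conj_of_coset X hodd (x * y) hz hzX h hh
    refine dc_card_le_of_pointed_inj c hcz ?_
    rintro ⟨⟨⟨i₀, hi₀⟩, ⟨j₀, hj₀⟩⟩, h₀⟩
    have h₀' : i₀ * (x * j₀ * x⁻¹) = h := congrArg Subtype.val h₀
    -- each pair in the fibre gives an involution inverting `h * (x * y)`
    have hinvert : ∀ i j : G, i ∈ dcInv X x → j ∈ dcInv X y → i * (x * j * x⁻¹) = h →
        (i * x) * (h * (x * y)) * (i * x) = (h * (x * y))⁻¹ := by
      intro i j hi hj hij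
      have hg : h * (x * y) = (i * x) * (j * y) := by
        rw [← hij]; group
      rw [hg]
      exact dc_invert (dc_sq_of_mem_inv hx hi) (dc_sq_of_mem_inv hy hj)
    have key : ∀ q : {a : dcInv X x × dcInv X y // (⟨_, hΦ a⟩ : X) = ⟨h, hh⟩},
        k⁻¹ * ((i₀ * x)⁻¹ * (((q : dcInv X x × dcInv X y).1 : G) * x)) * k
          ∈ Subgroup.centralizer ({x * y} : Set G) := by
      rintro ⟨⟨⟨i, hi⟩, ⟨j, hj⟩⟩, hq⟩
      have hq' : i * (x * j * x⁻¹) = h := congrArg Subtype.val hq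
      rw [Subgroup.mem_centralizer_singleton_iff]
      exact hk _ (dc_commute_of_invert (dc_sq_of_mem_inv hx hi) (dc_sq_of_mem_inv hx hi₀)
        (hinvert i j hi hj hq') (hinvert i₀ j₀ hi₀ hj₀ h₀'))
    refine ⟨fun q => ⟨_, key q⟩, ?_⟩
    rintro ⟨⟨⟨i, hi⟩, ⟨j, hj⟩⟩, hq⟩ ⟨⟨⟨i', hi'⟩, ⟨j', hj'⟩⟩, hq'⟩ hEq
    have hq1 : i * (x * j * x⁻¹) = h := congrArg Subtype.val hq
    have hq2 : i' * (x * j' * x⁻¹) = h := congrArg Subtype.val hq'
    have h1 : k⁻¹ * ((i₀ * x)⁻¹ * (i * x)) * k = k⁻¹ * ((i₀ * x)⁻¹ * (i' * x)) * k :=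
      congrArg Subtype.val hEq
    have h2 : i = i' :=
      mul_right_cancel (mul_left_cancel (mul_left_cancel (mul_right_cancel h1)))
    subst h2
    have h3 : j = j' := by
      have h4 : x * j * x⁻¹ = x * j' * x⁻¹ := mul_left_cancel (hq1.trans hq2.symm)
      exact mul_left_cancel (mul_right_cancel h4)
    subst h3
    rfl
  have hX0 : 0 < Nat.card X := Nat.card_pos
  rw [Nat.card_prod] at hC
  have h1 : Nat.card X * Nat.card X ≤ c ^ 3 * Nat.card X := by
    calc Nat.card X * Nat.card X ≤ (c * Nat.card (dcInv X x)) * (c * Nat.card (dcInv X y)) :=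
          Nat.mul_le_mul hA hB
      _ = c * c * (Nat.card (dcInv X x) * Nat.card (dcInv X y)) := by ring
      _ ≤ c * c * (c * Nat.card X) := Nat.mul_le_mul_left _ hC
      _ = c ^ 3 * Nat.card X := by ring
  exact Nat.le_of_mul_le_mul_right h1 hX0

end Cfsg.Agent.Lib.helper81
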