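import Mathlib
import Cfsg.Prelude.Def_Blocks
import Cfsg.Agent.Lib.helper81.PrincipalInfl
import Cfsg.Agent.Lib.helper81.CharOrtho
import Cfsg.Agent.Lib.helper58.Q8BlockA
import Cfsg.Agent.Lib.helper78.KLCount
import Cfsg.Agent.Lib.helper80.InducedBr
import Cfsg.Agent.Lib.helper80.DefectGroup
import Cfsg.Agent.Lib.helper79.DefectDeg
import Cfsg.Agent.S0936

/-!
# Blocks of `C_G(z) / ⟨z⟩` for an involution `z` (helper81)

* `dc_defect_le_of_induced`: a block of the centralizer of a `p`-element has defect at most the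
  defect of the block of `G` it induces.
* `dc_principal_of_infl`: if the inflation of `ψ` from the quotient by a central involution lies
  in the principal `2`-block, so does `ψ`.
* `dc_block_step`: if all non-principal `2`-blocks of `G` have defect `< r`, then all non-principal
  `2`-blocks of `C_G(z) / ⟨z⟩` have defect `< r - 1`.
-/

set_option autoImplicit false

namespace Cfsg.Agent.Lib.helper81

open Cfsg Cfsg.Agent.Lib.helper20

universe u

section

variable {G : Type u} [Group G] [Finite G]

/-- A block of the centralizer of a `p`-element has defect at most the defect of the block it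
induces. -/
theorem dc_defect_le_of_induced {p : ℕ} [Fact p.Prime] {M : Ideal AlgInt} (hM : IsPModular p M)
    (x : G) (hx : ∃ k : ℕ, orderOf x = p ^ k)
    {b : Set (IrrCharacter (Subgroup.centralizer ({x} : Set G)))}
    {B : Set (IrrCharacter G)}
    (hind : IsInducedBlock M (Subgroup.centralizer ({x} : Set G)) b B) :
    blockDefect p b ≤ blockDefect p B := by
  classical
  have hp : p.Prime := Fact.out
  have hMp := isPrime_of_isPModular hM
  have : Fintype G := Fintype.ofFinite G
  have : Fintype (Subgroup.centralizer ({x} : Set G)) := Fintype.ofFinite _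
  have hb := hind.1
  have hB := hind.2.1
  have hCeq : Subgroup.centralizer ((Subgroup.zpowers x : Subgroup G) : Set G)
      = Subgroup.centralizer ({x} : Set G) := by
    rw [Subgroup.zpowers_eq_closure, Subgroup.centralizer_closure]
  have hxC : x ∈ Subgroup.centralizer ({x} : Set G) :=
    Subgroup.mem_centralizer_singleton_iff.mpr rfl
  have hP : IsPGroup p (Subgroup.zpowers x) := by
    obtain ⟨k, hk⟩ := hx
    exact IsPGroup.of_card (by rw [Nat.card_zpowers, hk])
  have hHN : Subgroup.centralizer ({x} : Set G)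
      ≤ Subgroup.normalizer ((Subgroup.zpowers x : Subgroup G) : Set G) := by
    rw [← hCeq]; exact Subgroup.centralizer_le_normalizer _
  have hbr := (helper80.isInducedBlock_iff_brInd hM (Subgroup.zpowers x)
    (Subgroup.centralizer ({x} : Set G)) hP (Subgroup.zpowers_le.mpr hxC) hCeq.le hHN hb hB).mp hind
  obtain ⟨ξ, hξ⟩ := isPBlock_nonempty hMp hb
  obtain ⟨χ, hχ⟩ := isPBlock_nonempty hMp hB
  obtain ⟨Db, hDb⟩ := helper80.exists_isDefectGroup p hMp hb
  obtain ⟨D, hD⟩ := helper80.exists_isDefectGroup p hMp hB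
  obtain ⟨w, hw⟩ := helper80.BrInd.defect_le hM hHN (hbr ξ hξ χ hχ) hb hξ hDb hχ hD
  have hcard : Nat.card Db ≤ Nat.card D := by
    refine Nat.card_le_card_of_injective
      (fun d : Db => (⟨w⁻¹ * ((d : Subgroup.centralizer ({x} : Set G)) : G) * w,
        hw d d.2⟩ : D)) ?_
    intro d₁ d₂ h
    have h0 := congrArg Subtype.val h
    simp only at h0
    have h1 : ((d₁ : Subgroup.centralizer ({x} : Set G)) : G)
        = ((d₂ : Subgroup.centralizer ({x} : Set G)) : G) :=
      mul_left_cancel (mul_right_cancel h0)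
    exact Subtype.ext (Subtype.ext h1)
  rw [helper79.card_eq_of_isDefectGroup hM hb hDb, helper79.card_eq_of_isDefectGroup hM hB hD]
    at hcard
  exact (Nat.pow_le_pow_iff_right hp.one_lt).mp hcard

/-- If the inflation of `ψ` from the quotient by a central involution lies in the principal
`2`-block, so does `ψ`. -/
theorem dc_principal_of_infl {M : Ideal AlgInt} (hM : IsPModular 2 M)
    (t : G) (ht : t * t = 1) (ht1 : t ≠ 1) (htc : ∀ g : G, g * t = t * g)
    [(Subgroup.zpowers t).Normal] (ψ : IrrCharacter (G ⧸ Subgroup.zpowers t))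
    (h : infl (Subgroup.zpowers t) ψ ∈ principalBlock M G) :
    ψ ∈ principalBlock M (G ⧸ Subgroup.zpowers t) := by
  classical
  have : Fintype G := Fintype.ofFinite G
  have : Fintype (G ⧸ Subgroup.zpowers t) := Fintype.ofFinite _
  haveI : Fact (Nat.Prime 2) := ⟨Nat.prime_two⟩
  by_contra hnot
  have h0 := sum_pRegular_irr_eq_zero hM ψ hnot
  have h1 := helper58.sum_pRegular_quotient t ht ht1 htc (ψ : G ⧸ Subgroup.zpowers t → ℂ)
  have h2 := helper58.sum_pRegular_ne_zero hM (infl (Subgroup.zpowers t) ψ) h
  apply h2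
  have h3 : ∑ x : G, (if ¬ 2 ∣ orderOf x then (infl (Subgroup.zpowers t) ψ : G → ℂ) x else 0)
      = ∑ y : G, (if ¬ 2 ∣ orderOf y then
          (ψ : G ⧸ Subgroup.zpowers t → ℂ) (y : G ⧸ Subgroup.zpowers t) else 0) := rfl
  rw [h3, h1]
  convert h0 using 2

/-- If all non-principal `2`-blocks of `G` have defect `< r`, then all non-principal `2`-blocks
of `C_G(z) / ⟨z⟩`, `z` an involution, have defect `< r - 1`. -/
theorem dc_block_step {M : Ideal AlgInt} (hM : IsPModular 2 M) (r : ℕ)
    (hG : ∀ B : Set (IrrCharacter G), IsPBlock M B → B ≠ principalBlock M G →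
      blockDefect 2 B < r)
    (z : G) (hz : z * z = 1) (hz1 : z ≠ 1)
    (t : Subgroup.centralizer ({z} : Set G)) (htz : (t : G) = z)
    [(Subgroup.zpowers t).Normal]
    (B : Set (IrrCharacter (Subgroup.centralizer ({z} : Set G) ⧸ Subgroup.zpowers t)))
    (hB : IsPBlock M B)
    (hne : B ≠ principalBlock M (Subgroup.centralizer ({z} : Set G) ⧸ Subgroup.zpowers t)) :
    blockDefect 2 B + 1 < r := by
  classical
  haveI : Fact (Nat.Prime 2) := ⟨Nat.prime_two⟩
  have hMp := isPrime_of_isPModular hM
  have : Fintype (Subgroup.centralizer ({z} : Set G)) := Fintype.ofFinite _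
  have : Fintype (Subgroup.centralizer ({z} : Set G) ⧸ Subgroup.zpowers t) := Fintype.ofFinite _
  have ht : t * t = 1 := by
    apply Subtype.ext
    rw [Subgroup.coe_mul, htz, hz]
    rfl
  have ht1 : t ≠ 1 := by
    intro h
    apply hz1
    rw [← htz, h]
    rfl
  have htc : ∀ g : Subgroup.centralizer ({z} : Set G), g * t = t * g := by
    intro g
    apply Subtype.ext
    rw [Subgroup.coe_mul, Subgroup.coe_mul, htz]
    exact Subgroup.mem_centralizer_singleton_iff.mp g.2
  -- a member of `B` of minimal degree valuation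
  obtain ⟨ψ₀, hψ₀⟩ := isPBlock_nonempty hMp hB
  have hSne : ((fun χ : IrrCharacter (Subgroup.centralizer ({z} : Set G) ⧸ Subgroup.zpowers t) =>
      (charDegree (χ : Subgroup.centralizer ({z} : Set G) ⧸ Subgroup.zpowers t → ℂ)).factorization
        2) '' B).Nonempty := ⟨_, ψ₀, hψ₀, rfl⟩
  obtain ⟨ψ, hψB, hψmin⟩ := Nat.sInf_mem hSne
  -- its inflation and the block of the inflation
  obtain ⟨χ, hχdef⟩ : ∃ χ : IrrCharacter (Subgroup.centralizer ({z} : Set G)),
      χ = infl (Subgroup.zpowers t) ψ := ⟨_, rfl⟩
  have hχb : χ ∈ blockOf M (χ : Subgroup.centralizer ({z} : Set G) → ℂ) := mem_blockOf_self hMp χ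
  have hb : IsPBlock M (blockOf M (χ : Subgroup.centralizer ({z} : Set G) → ℂ)) :=
    isPBlock_blockOf χ
  have hbne : blockOf M (χ : Subgroup.centralizer ({z} : Set G) → ℂ)
      ≠ principalBlock M (Subgroup.centralizer ({z} : Set G)) := by
    intro heq
    have h1 : infl (Subgroup.zpowers t) ψ ∈ principalBlock M (Subgroup.centralizer ({z} : Set G)) := by
      rw [← hχdef, ← heq]; exact hχb
    have h2 := dc_principal_of_infl hM t ht ht1 htc ψ h1
    exact hne (isPBlock_eq_of_mem hMp hB isPBlock_principalBlock hψB h2)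
  have hzo : ∃ k : ℕ, orderOf z = 2 ^ k :=
    ⟨1, by rw [pow_one]; exact orderOf_eq_prime (by rw [pow_two]; exact hz) hz1⟩
  obtain ⟨B', hB'⟩ := helper78.exists_induced_centralizer hM z hzo _ hb
  have hB'ne : B' ≠ principalBlock M G := by
    intro h
    rw [h] at hB'
    exact hbne ((Cfsg.Agent.S0936.result 2 M hM (Subgroup.centralizer ({z} : Set G)) _
      ⟨_, hB'⟩).mp hB')
  have h1 : blockDefect 2 B' < r := hG B' hB'.2.1 hB'ne
  have h2 : blockDefect 2 (blockOf M (χ : Subgroup.centralizer ({z} : Set G) → ℂ))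
      ≤ blockDefect 2 B' := dc_defect_le_of_induced hM z hzo hB'
  have h3 : blockDefect 2 B + 1
      ≤ blockDefect 2 (blockOf M (χ : Subgroup.centralizer ({z} : Set G) → ℂ)) := by
    unfold blockDefect
    have hcard : Nat.card (Subgroup.centralizer ({z} : Set G))
        = 2 * Nat.card (Subgroup.centralizer ({z} : Set G) ⧸ Subgroup.zpowers t) := by
      rw [Subgroup.card_eq_card_quotient_mul_card_subgroup (Subgroup.zpowers t), Nat.card_zpowers,
        orderOf_eq_prime (by rw [pow_two]; exact ht) ht1, mul_comm]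
    have hQpos : Nat.card (Subgroup.centralizer ({z} : Set G) ⧸ Subgroup.zpowers t) ≠ 0 :=
      Nat.card_pos.ne'
    have hfac : (Nat.card (Subgroup.centralizer ({z} : Set G))).factorization 2
        = (Nat.card (Subgroup.centralizer ({z} : Set G) ⧸ Subgroup.zpowers t)).factorization 2
          + 1 := by
      rw [hcard, Nat.factorization_mul (by norm_num) hQpos, Finsupp.add_apply,
        Nat.prime_two.factorization_self, add_comm]
    have hle1 : sInf ((fun χ : IrrCharacter (Subgroup.centralizer ({z} : Set G)) =>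
        (charDegree (χ : Subgroup.centralizer ({z} : Set G) → ℂ)).factorization 2) ''
          blockOf M (χ : Subgroup.centralizer ({z} : Set G) → ℂ))
        ≤ (charDegree (ψ : Subgroup.centralizer ({z} : Set G) ⧸ Subgroup.zpowers t → ℂ)).factorization
          2 := by
      apply Nat.sInf_le
      refine ⟨χ, hχb, ?_⟩
      show (charDegree (χ : Subgroup.centralizer ({z} : Set G) → ℂ)).factorization 2
        = (charDegree (ψ : Subgroup.centralizer ({z} : Set G) ⧸ Subgroup.zpowers t → ℂ)).factorization
          2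
      rw [hχdef]
      rfl
    have hle2 : (charDegree (ψ : Subgroup.centralizer ({z} : Set G) ⧸ Subgroup.zpowers t → ℂ)).factorization 2
        ≤ (Nat.card (Subgroup.centralizer ({z} : Set G) ⧸ Subgroup.zpowers t)).factorization 2 :=
      (Nat.factorization_le_iff_dvd (irr_charDegree_pos ψ).ne' hQpos).mpr
        (irr_degree_dvd_card ψ) 2
    have hψmin' : (charDegree
        (ψ : Subgroup.centralizer ({z} : Set G) ⧸ Subgroup.zpowers t → ℂ)).factorization 2
        = sInf ((fun χ : IrrCharacter (Subgroup.centralizer ({z} : Set G) ⧸ Subgroup.zpowers t) =>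
          (charDegree (χ : Subgroup.centralizer ({z} : Set G) ⧸ Subgroup.zpowers t →
            ℂ)).factorization 2) '' B) := hψmin
    rw [hfac, ← hψmin']
    omega
  omega

end

end Cfsg.Agent.Lib.helper81
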