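import Mathlib
import Cfsg.Prelude.Def_Local
import Cfsg.Agent.Lib.helper27.Basic
import Cfsg.Agent.Lib.helper81.DcBW

/-!
# Quasisimple groups with an involutory automorphism having few fixed points

A Brauer–Fowler type count: a finite quasisimple group `L` with an endomorphism `φ`, `φ ∘ φ = id`,
fixing at most `c` elements has order at most `|Z(L)| * (2 c ^ 2)!`.
-/

set_option autoImplicit false

namespace Cfsg.Agent.Lib.helper81

open Subgroup

theorem dc_card_le_of_pointed {S : Type*} (c : ℕ) (h : S → Nat.card S ≤ c) : Nat.card S ≤ c := by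
  rcases isEmpty_or_nonempty S with hS | hS
  · rw [Nat.card_of_isEmpty]; exact Nat.zero_le _
  · obtain ⟨s₀⟩ := hS
    exact h s₀

theorem dc_quasisimple_card_le {L : Type*} [Group L] [Finite L] (hL : Cfsg.IsQuasisimple L)
    (φ : L →* L) (hφ : ∀ k, φ (φ k) = k) (c : ℕ) (hc1 : 1 ≤ c)
    (hc : Nat.card {k : L // φ k = k} ≤ c) :
    Nat.card L ≤ Nat.card (Subgroup.center L) * (2 * c ^ 2).factorial := by
  classical
  have hmem : ∀ g : L, φ (g⁻¹ * φ g) = (g⁻¹ * φ g)⁻¹ := by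
    intro g
    rw [map_mul, map_inv, hφ, mul_inv_rev, inv_inv]
  have hA : Nat.card L ≤ c * Nat.card {i : L // φ i = i⁻¹} := by
    refine dc_card_le_mul_of_fiber_le (fun g : L => (⟨_, hmem g⟩ : {i : L // φ i = i⁻¹})) c ?_
    intro b
    refine dc_card_le_of_pointed_inj c hc ?_
    rintro ⟨g₀, hg₀⟩
    have key : ∀ g : {a : L // (⟨_, hmem a⟩ : {i : L // φ i = i⁻¹}) = b},
        φ ((g : L) * g₀⁻¹) = (g : L) * g₀⁻¹ := by
      rintro ⟨g, hg⟩
      have h1 : g⁻¹ * φ g = g₀⁻¹ * φ g₀ := congrArg Subtype.val (hg.trans hg₀.symm)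
      have h2 : φ g = g * (g₀⁻¹ * φ g₀) := by rw [← h1]; group
      rw [map_mul, map_inv, h2]
      group
    refine ⟨fun g => ⟨_, key g⟩, ?_⟩
    rintro ⟨g, hg⟩ ⟨g', hg'⟩ h
    have h1 : g * g₀⁻¹ = g' * g₀⁻¹ := congrArg Subtype.val h
    exact Subtype.ext (mul_right_cancel h1)
  have hD : 0 < 2 * c ^ 2 := by positivity
  by_cases hH : ∀ g : L, g ∉ Subgroup.center L →
      Nat.card (Subgroup.centralizer ({g} : Set L)) * (2 * c ^ 2) ≤ Nat.card L
  · -- the counting case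
    obtain ⟨n, hn⟩ : ∃ n : ℕ, n = Nat.card L := ⟨_, rfl⟩
    obtain ⟨z, hz⟩ : ∃ z : ℕ, z = Nat.card (Subgroup.center L) := ⟨_, rfl⟩
    obtain ⟨ι, hι⟩ : ∃ ι : ℕ, ι = Nat.card {i : L // φ i = i⁻¹} := ⟨_, rfl⟩
    rw [← hn, ← hι] at hA
    rw [← hn, ← hz]
    have hι0 : 0 < ι := by
      rw [hι]
      have : Nonempty {i : L // φ i = i⁻¹} := ⟨⟨1, by rw [map_one, inv_one]⟩⟩
      exact Nat.card_pos
    -- central pairs
    have hP1 : Nat.card {q : {i : L // φ i = i⁻¹} × {i : L // φ i = i⁻¹} //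
        (q.1 : L) * (q.2 : L)⁻¹ ∈ Subgroup.center L} ≤ z * ι := by
      rw [hz, hι, ← Nat.card_prod]
      refine Nat.card_le_card_of_injective
        (fun q : {q : {i : L // φ i = i⁻¹} × {i : L // φ i = i⁻¹} //
          (q.1 : L) * (q.2 : L)⁻¹ ∈ Subgroup.center L} =>
            ((⟨_, q.2⟩ : Subgroup.center L), q.1.2)) ?_
      rintro ⟨⟨⟨i, hi⟩, ⟨j, hj⟩⟩, hq⟩ ⟨⟨⟨i', hi'⟩, ⟨j', hj'⟩⟩, hq'⟩ h
      have h1 : i * j⁻¹ = i' * j'⁻¹ := congrArg (fun a => ((a.1 : Subgroup.center L) : L)) h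
      have h2 : j = j' := congrArg (fun a => ((a.2 : {i : L // φ i = i⁻¹}) : L)) h
      subst h2
      have h3 : i = i' := mul_right_cancel h1
      subst h3
      rfl
    -- non-central pairs
    have hP2 : Nat.card {q : {i : L // φ i = i⁻¹} × {i : L // φ i = i⁻¹} //
        ¬ (q.1 : L) * (q.2 : L)⁻¹ ∈ Subgroup.center L} ≤ (n / (2 * c ^ 2)) * n := by
      rw [hn]
      refine dc_card_le_mul_of_fiber_le
        (fun q : {q : {i : L // φ i = i⁻¹} × {i : L // φ i = i⁻¹} //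
          ¬ (q.1 : L) * (q.2 : L)⁻¹ ∈ Subgroup.center L} => (q.1.1 : L) * (q.1.2 : L)⁻¹) _ ?_
      intro g
      refine dc_card_le_of_pointed _ ?_
      rintro ⟨⟨⟨⟨i₀, hi₀⟩, ⟨j₀, hj₀⟩⟩, hq₀⟩, hg₀⟩
      have hg₀' : i₀ * j₀⁻¹ = g := hg₀
      have hgc : g ∉ Subgroup.center L := by rw [← hg₀']; exact hq₀
      have hbound : Nat.card (Subgroup.centralizer ({g} : Set L)) ≤ Nat.card L / (2 * c ^ 2) :=
        (Nat.le_div_iff_mul_le hD).mpr (hH g hgc)
      refine le_trans ?_ hbound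
      have key : ∀ q : {q : {q : {i : L // φ i = i⁻¹} × {i : L // φ i = i⁻¹} //
          ¬ (q.1 : L) * (q.2 : L)⁻¹ ∈ Subgroup.center L} //
            (q.1.1 : L) * (q.1.2 : L)⁻¹ = g},
          i₀ * (q.1.1.1 : L)⁻¹ ∈ Subgroup.centralizer ({g} : Set L) := by
        rintro ⟨⟨⟨⟨i, hi⟩, ⟨j, hj⟩⟩, hq⟩, hg⟩
        have hg' : i * j⁻¹ = g := hg
        rw [Subgroup.mem_centralizer_singleton_iff]
        -- `φ g = i⁻¹ * j = i₀⁻¹ * j₀`
        have e1 : i⁻¹ * j = i₀⁻¹ * j₀ := by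
          have h1 : φ g = i⁻¹ * j := by
            rw [← hg', map_mul, map_inv, hi, hj, inv_inv]
          have h2 : φ g = i₀⁻¹ * j₀ := by
            rw [← hg₀', map_mul, map_inv, hi₀, hj₀, inv_inv]
          rw [← h1, h2]
        show i₀ * i⁻¹ * g = g * (i₀ * i⁻¹)
        have e2 : j⁻¹ * i = j₀⁻¹ * i₀ := by
          have := congrArg (fun a => a⁻¹) e1
          simpa [mul_inv_rev] using this
        calc i₀ * i⁻¹ * g = i₀ * i⁻¹ * (i * j⁻¹) := by rw [hg']
          _ = i₀ * (j⁻¹ * i) * i⁻¹ := by group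
          _ = i₀ * (j₀⁻¹ * i₀) * i⁻¹ := by rw [e2]
          _ = (i₀ * j₀⁻¹) * (i₀ * i⁻¹) := by group
          _ = g * (i₀ * i⁻¹) := by rw [hg₀']
      refine Nat.card_le_card_of_injective (fun q => ⟨_, key q⟩) ?_
      rintro ⟨⟨⟨⟨i, hi⟩, ⟨j, hj⟩⟩, hq⟩, hg⟩ ⟨⟨⟨⟨i', hi'⟩, ⟨j', hj'⟩⟩, hq'⟩, hg'⟩ h
      have h1 : i₀ * i⁻¹ = i₀ * i'⁻¹ := congrArg Subtype.val h
      have h2 : i = i' := inv_injective (mul_left_cancel h1)
      subst h2
      have hg1 : i * j⁻¹ = g := hg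
      have hg2 : i * j'⁻¹ = g := hg'
      have h3 : j = j' := inv_injective (mul_left_cancel (hg1.trans hg2.symm))
      subst h3
      rfl
    have hsum : ι * ι ≤ z * ι + (n / (2 * c ^ 2)) * n := by
      have h1 : Nat.card ({i : L // φ i = i⁻¹} × {i : L // φ i = i⁻¹}) = ι * ι := by
        rw [Nat.card_prod, ← hι]
      rw [← h1, ← Nat.card_congr (Equiv.sumCompl (fun q : {i : L // φ i = i⁻¹} ×
        {i : L // φ i = i⁻¹} => (q.1 : L) * (q.2 : L)⁻¹ ∈ Subgroup.center L)), Nat.card_sum]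
      exact Nat.add_le_add hP1 hP2
    have hdiv : (n / (2 * c ^ 2)) * (2 * c ^ 2) ≤ n := Nat.div_mul_le_self _ _
    have h3 : (2 * c ^ 2) * (ι * ι) ≤ (2 * c ^ 2) * (z * ι) + n * n := by
      calc (2 * c ^ 2) * (ι * ι) ≤ (2 * c ^ 2) * (z * ι + (n / (2 * c ^ 2)) * n) :=
            Nat.mul_le_mul_left _ hsum
        _ = (2 * c ^ 2) * (z * ι) + ((n / (2 * c ^ 2)) * (2 * c ^ 2)) * n := by ring
        _ ≤ (2 * c ^ 2) * (z * ι) + n * n :=
            Nat.add_le_add_left (Nat.mul_le_mul_right _ hdiv) _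
    have h4 : n * n ≤ (c * ι) * (c * ι) := Nat.mul_le_mul hA hA
    have h5 : c ^ 2 * ι * ι ≤ c ^ 2 * ι * (2 * z) := by nlinarith
    have h6 : ι ≤ 2 * z := Nat.le_of_mul_le_mul_left h5 (by positivity)
    have h7 : 2 * c ≤ (2 * c ^ 2).factorial := by
      have : 2 * c ≤ 2 * c ^ 2 := by nlinarith
      exact this.trans (Nat.self_le_factorial _)
    have h8 : n ≤ z * (2 * c) := by
      calc n ≤ c * ι := hA
        _ ≤ c * (2 * z) := Nat.mul_le_mul_left _ h6
        _ = z * (2 * c) := by ring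
    exact h8.trans (Nat.mul_le_mul_left _ h7)
  · -- a noncentral element with a large centralizer
    push Not at hH
    obtain ⟨g, hg, hlt⟩ := hH
    obtain ⟨H, hHdef⟩ : ∃ H : Subgroup L, H = Subgroup.centralizer ({g} : Set L) := ⟨_, rfl⟩
    rw [← hHdef] at hlt
    have hidx : H.index ≤ 2 * c ^ 2 := by
      have h1 := H.card_mul_index
      rw [← h1] at hlt
      exact (Nat.lt_of_mul_lt_mul_left hlt).le
    have hHtop : H ≠ ⊤ := by
      intro h
      apply hg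
      rw [Subgroup.mem_center_iff]
      intro k
      have : k ∈ H := by rw [h]; trivial
      rw [hHdef] at this
      exact (Subgroup.mem_centralizer_singleton_iff.mp this)
    obtain ⟨N, hNdef⟩ : ∃ N : Subgroup L, N = (MulAction.toPermHom L (L ⧸ H)).ker := ⟨_, rfl⟩
    have hNn : N.Normal := by rw [hNdef]; infer_instance
    have hNH : N ≤ H := by
      rw [hNdef, ← Subgroup.normalCore_eq_ker]
      exact H.normalCore_le
    have hNc : N ≤ Subgroup.center L := by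
      rcases Cfsg.Agent.Lib.helper27.quasisimple_subnormal hL N hNn.isSubnormal with h | h
      · exact absurd (top_le_iff.mp (h ▸ hNH)) hHtop
      · exact h
    have h1 : Nat.card N * N.index = Nat.card L := N.card_mul_index
    have h2 : N.index ≤ (2 * c ^ 2).factorial := by
      rw [hNdef, Subgroup.index_ker]
      have h3 : Nat.card (MulAction.toPermHom L (L ⧸ H)).range
          ≤ Nat.card (Equiv.Perm (L ⧸ H)) :=
        Nat.card_le_card_of_injective _ Subtype.val_injective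
      rw [Nat.card_perm] at h3
      have h4 : Nat.card (L ⧸ H) = H.index := rfl
      rw [h4] at h3
      exact h3.trans (Nat.factorial_le hidx)
    rw [← h1]
    exact Nat.mul_le_mul (Subgroup.card_le_of_le hNc) h2

end Cfsg.Agent.Lib.helper81
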