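import Mathlib
import Cfsg.Prelude.Def_Local
import Cfsg.Agent.Lib.helper27.FStar
import Cfsg.Agent.Lib.helper28.BenderMax
import Cfsg.Agent.Lib.helper81.DcQS

/-!
# Bounding a finite group by the centralizers of two commuting involutions

If `x`, `y` are commuting elements of square one of a finite group `G` such that the centralizers
of `x`, `y`, `x * y` have order at most `c`, and a Sylow 2-subgroup of `G` has order `2 ^ a`, then
`|G|` is bounded in terms of `a` and `c`.  The proof bounds `F*(G)`: the Fitting subgroup by the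
Brauer–Wielandt count, every component by a Brauer–Fowler count, and the number of components
through a chain of abelian subgroups.
-/

set_option autoImplicit false

namespace Cfsg.Agent.Lib.helper81

open Subgroup

universe u

variable {G : Type u} [Group G] [Finite G]

theorem dc_card_le_of_isPGroup {a : ℕ} (P : Sylow 2 G) (hP : Nat.card P = 2 ^ a)
    (Q : Subgroup G) (hQ : IsPGroup 2 Q) : Nat.card Q ≤ 2 ^ a := by
  obtain ⟨P', hle⟩ := hQ.exists_le_sylow
  have h1 := Subgroup.card_le_of_le hle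
  have h2 : Nat.card P' = Nat.card P := by
    rw [Sylow.card_eq_multiplicity, Sylow.card_eq_multiplicity]
  rw [← hP, ← h2]
  exact h1

theorem dc_odd_of_coprime_two {n : ℕ} (h : n.Coprime 2) : Odd n := by
  have h1 : ¬ 2 ∣ n := (Nat.Prime.coprime_iff_not_dvd Nat.prime_two).mp h.symm
  exact Nat.odd_iff.mpr (by omega)

theorem dc_card_pPrimeCore_le (x y : G) (hx : x * x = 1) (hy : y * y = 1) (hxy : x * y = y * x)
    (c : ℕ) (hcx : Nat.card (Subgroup.centralizer ({x} : Set G)) ≤ c)
    (hcy : Nat.card (Subgroup.centralizer ({y} : Set G)) ≤ c)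
    (hcz : Nat.card (Subgroup.centralizer ({x * y} : Set G)) ≤ c) :
    Nat.card (Cfsg.pPrimeCore 2 G) ≤ c ^ 3 := by
  have hn : (Cfsg.pPrimeCore 2 G).Normal := Subgroup.sSup_normal _ (fun _ h => h.1)
  exact dc_bw_card_le _ (dc_odd_of_coprime_two (Cfsg.Agent.Lib.helper27.pPrimeCore_coprime 2))
    x y hx hy hxy (fun g hg => hn.conj_mem g hg x) (fun g hg => hn.conj_mem g hg y) c hcx hcy hcz

theorem dc_card_fitting_le {a : ℕ} (P : Sylow 2 G) (hP : Nat.card P = 2 ^ a)
    (x y : G) (hx : x * x = 1) (hy : y * y = 1) (hxy : x * y = y * x)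
    (c : ℕ) (hcx : Nat.card (Subgroup.centralizer ({x} : Set G)) ≤ c)
    (hcy : Nat.card (Subgroup.centralizer ({y} : Set G)) ≤ c)
    (hcz : Nat.card (Subgroup.centralizer ({x * y} : Set G)) ≤ c) :
    Nat.card (Cfsg.fittingSubgroup G) ≤ 2 ^ a * c ^ 3 := by
  have hnil := Cfsg.Agent.Lib.helper28.fittingSubgroup_isNilpotent G
  obtain ⟨S, S', hSc, hS'c, hSp, hS'p, hsup, -⟩ :=
    Cfsg.Agent.Lib.helper28.exists_sylow_hall_of_isNilpotent (Cfsg.fittingSubgroup G) 2
  have hFn : (Cfsg.fittingSubgroup G).Normal := Cfsg.Agent.Lib.helper27.fittingSubgroup_normal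
  have h1 : Nat.card (S.map (Cfsg.fittingSubgroup G).subtype) ≤ 2 ^ a :=
    dc_card_le_of_isPGroup P hP _ (hSp.map _)
  have hnorm : ∀ t : G, ∀ g ∈ S'.map (Cfsg.fittingSubgroup G).subtype,
      t * g * t⁻¹ ∈ S'.map (Cfsg.fittingSubgroup G).subtype := by
    intro t g hg
    have ht : t ∈ normalizer ((S'.map (Cfsg.fittingSubgroup G).subtype : Subgroup G) : Set G) :=
      Cfsg.Agent.Lib.helper27.normalizer_le_normalizer_map_subtype_of_characteristic _ S'
        (by rw [Subgroup.normalizer_eq_top_iff.mpr hFn]; trivial)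
    exact (Subgroup.mem_normalizer_iff.mp ht g).mp hg
  have hodd : Odd (Nat.card (S'.map (Cfsg.fittingSubgroup G).subtype)) := by
    rw [Cfsg.Agent.Lib.helper27.card_map_subtype]
    exact dc_odd_of_coprime_two hS'p
  have h2 : Nat.card (S'.map (Cfsg.fittingSubgroup G).subtype) ≤ c ^ 3 :=
    dc_bw_card_le _ hodd x y hx hy hxy (hnorm x) (hnorm y) c hcx hcy hcz
  rw [Cfsg.Agent.Lib.helper27.card_map_subtype] at h1 h2
  have hS'n : S'.Normal := Subgroup.normal_of_characteristic S'
  have h3 := Cfsg.Agent.Lib.helper27.card_sup_dvd_mul S S'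
  rw [hsup, Subgroup.card_top] at h3
  have h4 : 0 < Nat.card S * Nat.card S' := Nat.mul_pos Nat.card_pos Nat.card_pos
  exact (Nat.le_of_dvd h4 h3).trans (Nat.mul_le_mul h1 h2)

theorem dc_center_card_le {K : Subgroup G} (hK : Cfsg.IsComponent K) :
    Nat.card (Subgroup.center K) ≤ Nat.card (Cfsg.fittingSubgroup G) := by
  have hsub : ((Subgroup.center K).map K.subtype).IsSubnormal :=
    (inferInstance : (Subgroup.center K).Normal).isSubnormal.trans' hK.1
  have hnil : Group.IsNilpotent ((Subgroup.center K).map K.subtype) :=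
    ⟨⟨1, Subgroup.upperCentralSeries_one_eq_top_iff.mpr inferInstance⟩⟩
  have h := Cfsg.Agent.Lib.helper27.subnormal_nilpotent_le_fittingSubgroup _ hsub hnil
  rw [← Cfsg.Agent.Lib.helper27.card_map_subtype K (Subgroup.center K)]
  exact Subgroup.card_le_of_le h

theorem dc_component_card_le_of_moved {K : Subgroup G} (hK : Cfsg.IsComponent K) (x : G)
    (hx : x * x = 1) (k₀ : G) (hk₀ : k₀ ∈ K) (hmoved : x * k₀ * x⁻¹ ∉ K) (c : ℕ)
    (hc : Nat.card (Subgroup.centralizer ({x} : Set G)) ≤ c) :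
    Nat.card K ≤ Nat.card (Subgroup.center K) * c := by
  have hK' := Cfsg.Agent.Lib.helper27.isComponent_map_conj x hK
  have hne : K ≠ K.map (MulAut.conj x).toMonoidHom := by
    intro h
    apply hmoved
    rw [h]
    exact ⟨k₀, hk₀, by simp⟩
  have hcomm := Cfsg.Agent.Lib.helper27.components_commute hK hK' hne
  rw [Subgroup.commutator_eq_bot_iff_le_centralizer] at hcomm
  have hcm : ∀ a ∈ K, ∀ b ∈ K, a * (x * b * x⁻¹) = (x * b * x⁻¹) * a := by
    intro a ha b hb
    have h1 := hcomm ha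
    rw [Subgroup.mem_centralizer_iff] at h1
    exact (h1 (x * b * x⁻¹) ⟨b, hb, by simp⟩).symm
  have hmem : ∀ k : K, (k : G) * (x * (k : G) * x⁻¹) ∈ Subgroup.centralizer ({x} : Set G) := by
    intro k
    rw [Subgroup.mem_centralizer_singleton_iff]
    calc (k : G) * (x * (k : G) * x⁻¹) * x = (k : G) * x * (k : G) := by group
      _ = (x * x) * (k : G) * x⁻¹ * (k : G) := by rw [hx, one_mul, dc_inv_eq_self hx]
      _ = x * ((x * (k : G) * x⁻¹) * (k : G)) := by group
      _ = x * ((k : G) * (x * (k : G) * x⁻¹)) := by rw [hcm k k.2 k k.2]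
  refine (dc_card_le_mul_of_fiber_le
    (fun k : K => (⟨_, hmem k⟩ : Subgroup.centralizer ({x} : Set G)))
    (Nat.card (Subgroup.center K)) ?_).trans (Nat.mul_le_mul_left _ hc)
  intro b
  refine dc_card_le_of_pointed_inj _ le_rfl ?_
  rintro ⟨k', hk'⟩
  have key : ∀ k : {k : K // (⟨_, hmem k⟩ : Subgroup.centralizer ({x} : Set G)) = b},
      (k' : K)⁻¹ * (k : K) ∈ Subgroup.center K := by
    rintro ⟨k, hk⟩
    have h1 : (k : G) * (x * (k : G) * x⁻¹) = (k' : G) * (x * (k' : G) * x⁻¹) :=
      congrArg Subtype.val (hk.trans hk'.symm)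
    have h2 : (k' : G)⁻¹ * (k : G) = x * ((k' : G) * (k : G)⁻¹) * x⁻¹ := by
      calc (k' : G)⁻¹ * (k : G)
          = (k' : G)⁻¹ * ((k : G) * (x * (k : G) * x⁻¹)) * (x * (k : G) * x⁻¹)⁻¹ := by group
        _ = (k' : G)⁻¹ * ((k' : G) * (x * (k' : G) * x⁻¹)) * (x * (k : G) * x⁻¹)⁻¹ := by rw [h1]
        _ = x * ((k' : G) * (k : G)⁻¹) * x⁻¹ := by group
    rw [Subgroup.mem_center_iff]
    intro a
    apply Subtype.ext
    show (a : G) * ((k' : G)⁻¹ * (k : G)) = ((k' : G)⁻¹ * (k : G)) * (a : G)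
    rw [h2]
    exact hcm a a.2 _ (K.mul_mem k'.2 (K.inv_mem k.2))
  refine ⟨fun k => ⟨_, key k⟩, ?_⟩
  rintro ⟨k, hk⟩ ⟨k₂, hk₂⟩ h
  have h1 : (k' : K)⁻¹ * k = (k' : K)⁻¹ * k₂ := congrArg Subtype.val h
  exact Subtype.ext (mul_left_cancel h1)

theorem dc_component_card_le {K : Subgroup G} (hK : Cfsg.IsComponent K) (x : G)
    (hx : x * x = 1) (c : ℕ) (hc : Nat.card (Subgroup.centralizer ({x} : Set G)) ≤ c) :
    Nat.card K ≤ Nat.card (Cfsg.fittingSubgroup G) * (2 * c ^ 2).factorial := by
  have hc1 : 1 ≤ c := le_trans Nat.card_pos hc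
  have hz := dc_center_card_le hK
  have hfac : c ≤ (2 * c ^ 2).factorial := by
    have : c ≤ 2 * c ^ 2 := by nlinarith
    exact this.trans (Nat.self_le_factorial _)
  by_cases hn : ∀ k ∈ K, x * k * x⁻¹ ∈ K
  · obtain ⟨φ, hφdef⟩ : ∃ φ : K →* K, ∀ k : K, ((φ k : K) : G) = x * (k : G) * x⁻¹ :=
      ⟨{ toFun := fun k => ⟨x * (k : G) * x⁻¹, hn k k.2⟩
         map_one' := by apply Subtype.ext; simp
         map_mul' := by intro a b; apply Subtype.ext; simp }, fun k => rfl⟩
    have hφ : ∀ k, φ (φ k) = k := by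
      intro k
      apply Subtype.ext
      rw [hφdef, hφdef]
      calc x * (x * (k : G) * x⁻¹) * x⁻¹ = (x * x) * (k : G) * (x * x)⁻¹ := by group
        _ = (k : G) := by rw [hx, one_mul, inv_one, mul_one]
    have hfix : Nat.card {k : K // φ k = k} ≤ c := by
      have hm : ∀ k : {k : K // φ k = k}, ((k : K) : G) ∈ Subgroup.centralizer ({x} : Set G) := by
        rintro ⟨k, hk⟩
        rw [Subgroup.mem_centralizer_singleton_iff]
        have h1 : x * (k : G) * x⁻¹ = (k : G) := by rw [← hφdef, hk]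
        calc (k : G) * x = (x * (k : G) * x⁻¹) * x := by rw [h1]
          _ = x * (k : G) := by group
      refine le_trans (Nat.card_le_card_of_injective
        (fun k => (⟨_, hm k⟩ : Subgroup.centralizer ({x} : Set G))) ?_) hc
      rintro ⟨k, hk⟩ ⟨k₂, hk₂⟩ h
      have h0 := congrArg Subtype.val h
      simp only at h0
      exact Subtype.ext (Subtype.ext h0)
    exact (dc_quasisimple_card_le hK.2 φ hφ c hc1 hfix).trans (Nat.mul_le_mul_right _ hz)
  · push Not at hn
    obtain ⟨k₀, hk₀, hmoved⟩ := hn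
    exact (dc_component_card_le_of_moved hK x hx k₀ hk₀ hmoved c hc).trans
      (Nat.mul_le_mul hz hfac)

omit [Finite G] in
/-- A chain of strictly increasing subgroups generated by non-central elements of pairwise
commuting subgroups. -/
theorem dc_two_pow_card_le_closure [Finite G] (S : Finset (Subgroup G)) (t : Subgroup G → G)
    (hnc : ∀ K ∈ S, ∃ k ∈ K, k * t K ≠ t K * k)
    (hcomm : ∀ K ∈ S, ∀ K' ∈ S, K ≠ K' → ∀ k ∈ K, k * t K' = t K' * k) :
    2 ^ S.card ≤ Nat.card (Subgroup.closure (t '' (S : Set (Subgroup G)))) := by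
  classical
  induction S using Finset.induction_on with
  | empty =>
    rw [Finset.card_empty, pow_zero]
    exact Nat.card_pos
  | insert K S hKS ih =>
    have ih' := ih (fun K' h => hnc K' (Finset.mem_insert_of_mem h))
      (fun K₁ h₁ K₂ h₂ => hcomm K₁ (Finset.mem_insert_of_mem h₁) K₂ (Finset.mem_insert_of_mem h₂))
    rw [Finset.card_insert_of_notMem hKS, pow_succ]
    have hAB : Subgroup.closure (t '' (S : Set (Subgroup G)))
        ≤ Subgroup.closure (t '' ((insert K S : Finset (Subgroup G)) : Set (Subgroup G))) := by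
      apply Subgroup.closure_mono
      apply Set.image_mono
      intro K' hK'
      exact Finset.mem_coe.mpr (Finset.mem_insert_of_mem (Finset.mem_coe.mp hK'))
    have hnot : t K ∉ Subgroup.closure (t '' (S : Set (Subgroup G))) := by
      intro hmem
      obtain ⟨k, hk, hne⟩ := hnc K (Finset.mem_insert_self _ _)
      apply hne
      have hle : Subgroup.closure (t '' (S : Set (Subgroup G)))
          ≤ Subgroup.centralizer ({k} : Set G) := by
        rw [Subgroup.closure_le]
        rintro _ ⟨K', hK', rfl⟩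
        rw [SetLike.mem_coe, Subgroup.mem_centralizer_singleton_iff]
        have hne' : K ≠ K' := by
          rintro rfl
          exact hKS (Finset.mem_coe.mp hK')
        exact (hcomm K (Finset.mem_insert_self _ _) K'
          (Finset.mem_insert_of_mem (Finset.mem_coe.mp hK')) hne' k hk).symm
      have := hle hmem
      rw [Subgroup.mem_centralizer_singleton_iff] at this
      exact this.symm
    have hKmem : t K ∈ Subgroup.closure
        (t '' ((insert K S : Finset (Subgroup G)) : Set (Subgroup G))) :=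
      Subgroup.subset_closure ⟨K, Finset.mem_coe.mpr (Finset.mem_insert_self _ _), rfl⟩
    obtain ⟨m, hm⟩ := Subgroup.card_dvd_of_le hAB
    have hBpos : 0 < Nat.card (Subgroup.closure
        (t '' ((insert K S : Finset (Subgroup G)) : Set (Subgroup G)))) := Nat.card_pos
    have hm2 : 2 ≤ m := by
      rcases m with _ | _ | m
      · rw [hm, mul_zero] at hBpos; exact absurd hBpos (lt_irrefl _)
      · exfalso
        rw [zero_add, mul_one] at hm
        have heq := Subgroup.eq_of_le_of_card_ge hAB hm.le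
        exact hnot (heq ▸ hKmem)
      · omega
    calc 2 ^ S.card * 2 ≤ Nat.card (Subgroup.closure (t '' (S : Set (Subgroup G)))) * m :=
          Nat.mul_le_mul ih' hm2
      _ = _ := hm.symm

omit [Finite G] in
theorem dc_isPGroup_closure (s : Set G) (hc : ∀ a ∈ s, ∀ b ∈ s, a * b = b * a)
    (h2 : ∀ a ∈ s, ∃ j : ℕ, a ^ 2 ^ j = 1) : IsPGroup 2 (Subgroup.closure s) := by
  have key : ∀ g ∈ Subgroup.closure s, (∀ b ∈ s, g * b = b * g) ∧ ∃ j : ℕ, g ^ 2 ^ j = 1 := by
    intro g hg
    induction hg using Subgroup.closure_induction with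
    | mem a ha => exact ⟨fun b hb => hc a ha b hb, h2 a ha⟩
    | one => exact ⟨fun b _ => by rw [one_mul, mul_one], 0, by simp⟩
    | mul a b ha hb iha ihb =>
      obtain ⟨ca, j, hj⟩ := iha
      obtain ⟨cb, l, hl⟩ := ihb
      have hab : Commute a b := by
        have hle : Subgroup.closure s ≤ Subgroup.centralizer ({a} : Set G) := by
          rw [Subgroup.closure_le]
          intro b' hb'
          rw [SetLike.mem_coe, Subgroup.mem_centralizer_singleton_iff]
          exact (ca b' hb').symm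
        have := hle hb
        rw [Subgroup.mem_centralizer_singleton_iff] at this
        exact this.symm
      refine ⟨fun b' hb' => ?_, j + l, ?_⟩
      · rw [mul_assoc, cb b' hb', ← mul_assoc, ca b' hb', mul_assoc]
      · rw [hab.mul_pow, pow_add, pow_mul, hj, one_pow, mul_comm (2 ^ j) (2 ^ l), pow_mul, hl,
          one_pow, one_mul]
    | inv a ha iha =>
      obtain ⟨ca, j, hj⟩ := iha
      refine ⟨fun b' hb' => ?_, j, by rw [inv_pow, hj, inv_one]⟩
      have h := ca b' hb'
      calc a⁻¹ * b' = a⁻¹ * (b' * a) * a⁻¹ := by group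
        _ = a⁻¹ * (a * b') * a⁻¹ := by rw [h]
        _ = b' * a⁻¹ := by group
  rintro ⟨g, hg⟩
  obtain ⟨j, hj⟩ := (key g hg).2
  exact ⟨j, Subtype.ext hj⟩

/-- A component all of whose 2-elements are central has odd order, so lies in `O(G)`. -/
theorem dc_component_le_core {K : Subgroup G} (hK : Cfsg.IsComponent K)
    (h2c : ∀ t ∈ K, (∃ j : ℕ, t ^ 2 ^ j = 1) → ∀ k ∈ K, k * t = t * k) :
    K ≤ Cfsg.pPrimeCore 2 G := by
  apply Cfsg.Agent.Lib.helper27.subnormal_coprime_le_pPrimeCore 2 K hK.1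
  obtain ⟨Q⟩ : Nonempty (Sylow 2 K) := inferInstance
  have hQc : (Q : Subgroup K) ≤ Subgroup.center K := by
    intro q hq
    rw [Subgroup.mem_center_iff]
    intro k
    obtain ⟨j, hj⟩ := Q.isPGroup' ⟨q, hq⟩
    have hj' : (q : G) ^ 2 ^ j = 1 := by
      have h1 : q ^ 2 ^ j = 1 := congrArg Subtype.val hj
      have h2 := congrArg Subtype.val h1
      simpa using h2
    exact Subtype.ext (h2c q q.2 ⟨j, hj'⟩ k k.2)
  have hNC : Subgroup.normalizer ((Q : Subgroup K) : Set K) ≤
      Subgroup.centralizer ((Q : Subgroup K) : Set K) := by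
    intro g _
    rw [Subgroup.mem_centralizer_iff]
    intro q hq
    have := hQc hq
    rw [Subgroup.mem_center_iff] at this
    exact (this g).symm
  have hcomp := MonoidHom.ker_transferSylow_isComplement' Q hNC
  obtain ⟨N, hNdef⟩ : ∃ N : Subgroup K, N = (MonoidHom.transferSylow Q hNC).ker := ⟨_, rfl⟩
  rw [← hNdef] at hcomp
  have hNn : N.Normal := by rw [hNdef]; infer_instance
  rcases Cfsg.Agent.Lib.helper27.quasisimple_subnormal hK.2 N hNn.isSubnormal with h | h
  · have hcard := hcomp.card_mul_card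
    rw [h, Subgroup.card_top] at hcard
    have hKpos : 0 < Nat.card K := Nat.card_pos
    have hQ1 : Nat.card (Q : Subgroup K) = 1 := by
      have : Nat.card K * Nat.card (Q : Subgroup K) = Nat.card K * 1 := by rw [mul_one]; exact hcard
      exact Nat.eq_of_mul_eq_mul_left hKpos this
    by_contra hcop
    have h2 : 2 ∣ Nat.card K := by
      by_contra h2
      exact hcop ((Nat.Prime.coprime_iff_not_dvd Nat.prime_two).mpr h2).symm
    exact Q.ne_bot_of_dvd_card h2 (Subgroup.card_eq_one.mp hQ1)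
  · exfalso
    apply Cfsg.Agent.Lib.helper27.IsQuasisimple.center_ne_top hK.2
    rw [eq_top_iff]
    intro k _
    obtain ⟨⟨n, q⟩, hnq⟩ := hcomp.2 k
    have hnq' : (n : K) * (q : K) = k := hnq
    rw [← hnq']
    exact (Subgroup.center K).mul_mem (h n.2) (hQc q.2)

theorem dc_card_components_le {a : ℕ} (P : Sylow 2 G) (hP : Nat.card P = 2 ^ a)
    (x y : G) (hx : x * x = 1) (hy : y * y = 1) (hxy : x * y = y * x)
    (c : ℕ) (hcx : Nat.card (Subgroup.centralizer ({x} : Set G)) ≤ c)
    (hcy : Nat.card (Subgroup.centralizer ({y} : Set G)) ≤ c)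
    (hcz : Nat.card (Subgroup.centralizer ({x * y} : Set G)) ≤ c)
    (S : Finset (Subgroup G)) (hS : ∀ K ∈ S, Cfsg.IsComponent K) : S.card ≤ a + c ^ 3 := by
  classical
  obtain ⟨C1, hC1⟩ : ∃ C1 : Subgroup G → Prop, ∀ K, C1 K ↔
      ∃ t ∈ K, (∃ j : ℕ, t ^ 2 ^ j = 1) ∧ ∃ k ∈ K, k * t ≠ t * k := ⟨_, fun _ => Iff.rfl⟩
  have hsplit : (S.filter C1).card + (S.filter (fun K => ¬ C1 K)).card = S.card :=
    Finset.card_filter_add_card_filter_not C1
  -- distinct components commute
  have hcommK : ∀ K ∈ S, ∀ K' ∈ S, K ≠ K' → ∀ k ∈ K, ∀ k' ∈ K', k * k' = k' * k := by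
    intro K hK K' hK' hne k hk k' hk'
    have h := Cfsg.Agent.Lib.helper27.components_commute (hS K hK) (hS K' hK') hne
    rw [Subgroup.commutator_eq_bot_iff_le_centralizer] at h
    have h1 := h hk
    rw [Subgroup.mem_centralizer_iff] at h1
    exact (h1 k' hk').symm
  have h1 : (S.filter C1).card ≤ a := by
    have hex : ∀ K : Subgroup G, ∃ t : G, K ∈ S.filter C1 →
        (t ∈ K ∧ (∃ j : ℕ, t ^ 2 ^ j = 1) ∧ ∃ k ∈ K, k * t ≠ t * k) := by
      intro K
      by_cases h : K ∈ S.filter C1
      · obtain ⟨t, ht⟩ := (hC1 K).mp (Finset.mem_filter.mp h).2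
        exact ⟨t, fun _ => ht⟩
      · exact ⟨1, fun h' => absurd h' h⟩
    choose t ht using hex
    have hchain := dc_two_pow_card_le_closure (S.filter C1) t (fun K hK => (ht K hK).2.2)
      (fun K hK K' hK' hne k hk => hcommK K (Finset.mem_filter.mp hK).1 K'
        (Finset.mem_filter.mp hK').1 hne k hk (t K') (ht K' hK').1)
    have hpg : IsPGroup 2 (Subgroup.closure (t '' ((S.filter C1 : Finset (Subgroup G)) :
        Set (Subgroup G)))) := by
      apply dc_isPGroup_closure
      · rintro _ ⟨K, hK, rfl⟩ _ ⟨K', hK', rfl⟩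
        by_cases hne : K = K'
        · rw [hne]
        · exact hcommK K (Finset.mem_filter.mp (Finset.mem_coe.mp hK)).1 K'
            (Finset.mem_filter.mp (Finset.mem_coe.mp hK')).1 hne (t K)
            (ht K (Finset.mem_coe.mp hK)).1 (t K') (ht K' (Finset.mem_coe.mp hK')).1
      · rintro _ ⟨K, hK, rfl⟩
        exact (ht K (Finset.mem_coe.mp hK)).2.1
    have hle := dc_card_le_of_isPGroup P hP _ hpg
    exact (Nat.pow_le_pow_iff_right (by norm_num : 1 < 2)).mp (hchain.trans hle)
  have h2 : (S.filter (fun K => ¬ C1 K)).card ≤ c ^ 3 := by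
    have hex : ∀ K : Subgroup G, ∃ t : G, K ∈ S.filter (fun K => ¬ C1 K) →
        (t ∈ K ∧ ∃ k ∈ K, k * t ≠ t * k) := by
      intro K
      by_cases h : K ∈ S.filter (fun K => ¬ C1 K)
      · have hKc := hS K (Finset.mem_filter.mp h).1
        have hna := Cfsg.Agent.Lib.helper27.IsQuasisimple.not_isMulCommutative hKc.2
        have hex2 : ∃ u v : K, u * v ≠ v * u := by
          by_contra hcon
          push Not at hcon
          exact hna ⟨⟨fun u v => hcon u v⟩⟩
        obtain ⟨u, v, huv⟩ := hex2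
        exact ⟨(v : G), fun _ => ⟨v.2, (u : G), u.2, fun h' => huv (Subtype.ext h')⟩⟩
      · exact ⟨1, fun h' => absurd h' h⟩
    choose t ht using hex
    have hchain := dc_two_pow_card_le_closure (S.filter (fun K => ¬ C1 K)) t
      (fun K hK => (ht K hK).2)
      (fun K hK K' hK' hne k hk => hcommK K (Finset.mem_filter.mp hK).1 K'
        (Finset.mem_filter.mp hK').1 hne k hk (t K') (ht K' hK').1)
    have hle : Subgroup.closure (t '' ((S.filter (fun K => ¬ C1 K) : Finset (Subgroup G)) :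
        Set (Subgroup G))) ≤ Cfsg.pPrimeCore 2 G := by
      rw [Subgroup.closure_le]
      rintro _ ⟨K, hK, rfl⟩
      have hKm := Finset.mem_filter.mp (Finset.mem_coe.mp hK)
      refine dc_component_le_core (hS K hKm.1) ?_ (ht K (Finset.mem_coe.mp hK)).1
      intro t' ht' h2' k hk
      by_contra hne
      exact hKm.2 ((hC1 K).mpr ⟨t', ht', h2', k, hk, hne⟩)
    have hcore := dc_card_pPrimeCore_le x y hx hy hxy c hcx hcy hcz
    have h3 := hchain.trans ((Subgroup.card_le_of_le hle).trans hcore)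
    exact (Nat.lt_two_pow_self).le.trans h3
  omega

theorem dc_card_sup_le (S : Finset (Subgroup G)) (κ : ℕ) (hκ : ∀ K ∈ S, Nat.card K ≤ κ)
    (hnorm : ∀ K ∈ S, ∀ K' ∈ S, K' ≤ normalizer (K : Set G)) :
    Nat.card (S.sup id : Subgroup G) ≤ κ ^ S.card := by
  classical
  induction S using Finset.induction_on with
  | empty =>
    rw [Finset.sup_empty, Finset.card_empty, pow_zero, Subgroup.card_bot]
  | insert K S hKS ih =>
    have ih' := ih (fun K' h => hκ K' (Finset.mem_insert_of_mem h))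
      (fun K₁ h₁ K₂ h₂ => hnorm K₁ (Finset.mem_insert_of_mem h₁) K₂ (Finset.mem_insert_of_mem h₂))
    rw [Finset.sup_insert, Finset.card_insert_of_notMem hKS, pow_succ, id]
    have hle : S.sup id ≤ normalizer (K : Set G) :=
      Finset.sup_le (fun K' hK' => hnorm K (Finset.mem_insert_self _ _) K'
        (Finset.mem_insert_of_mem hK'))
    have hdvd := Cfsg.Agent.Lib.helper27.card_sup_dvd_mul_of_le_normalizer (S.sup id) K hle
    rw [sup_comm] at hdvd
    have hpos : 0 < Nat.card (S.sup id : Subgroup G) * Nat.card K :=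
      Nat.mul_pos Nat.card_pos Nat.card_pos
    exact (Nat.le_of_dvd hpos hdvd).trans
      (Nat.mul_le_mul ih' (hκ K (Finset.mem_insert_self _ _)))

/-- The bound: a finite group with a Sylow 2-subgroup of order `2 ^ a` and two commuting elements
`x`, `y` of square one such that `x`, `y`, `x * y` have centralizers of order at most `c` has
order bounded in terms of `a` and `c`. -/
theorem dc_card_le_of_involutions (a c : ℕ) : ∃ N : ℕ, ∀ (G : Type u) [Group G] [Finite G]
    (P : Sylow 2 G) (x y : G), Nat.card P = 2 ^ a → x * x = 1 → y * y = 1 → x * y = y * x →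
    Nat.card (Subgroup.centralizer ({x} : Set G)) ≤ c →
    Nat.card (Subgroup.centralizer ({y} : Set G)) ≤ c →
    Nat.card (Subgroup.centralizer ({x * y} : Set G)) ≤ c → Nat.card G ≤ N := by
  obtain ⟨κ, hκdef⟩ : ∃ κ : ℕ, κ = (2 ^ a * c ^ 3) * (2 * c ^ 2).factorial := ⟨_, rfl⟩
  obtain ⟨B, hBdef⟩ : ∃ B : ℕ, B = κ ^ (a + c ^ 3) * (2 ^ a * c ^ 3) := ⟨_, rfl⟩
  refine ⟨B * B.factorial, ?_⟩
  intro G _ _ P x y hP hx hy hxy hcx hcy hcz
  classical
  have hc1 : 1 ≤ c := le_trans Nat.card_pos hcx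
  have hF := dc_card_fitting_le P hP x y hx hy hxy c hcx hcy hcz
  have hκpos : 0 < κ := by
    rw [hκdef]
    have : 0 < c ^ 3 := by positivity
    positivity
  have hfin : ({K : Subgroup G | Cfsg.IsComponent K} : Set (Subgroup G)).Finite :=
    Set.toFinite _
  obtain ⟨S, hSdef⟩ : ∃ S : Finset (Subgroup G), S = hfin.toFinset := ⟨_, rfl⟩
  have hSc : ∀ K ∈ S, Cfsg.IsComponent K := by
    intro K hK
    rw [hSdef] at hK
    exact hfin.mem_toFinset.mp hK
  have hκ : ∀ K ∈ S, Nat.card K ≤ κ := by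
    intro K hK
    rw [hκdef]
    exact (dc_component_card_le (hSc K hK) x hx c hcx).trans (Nat.mul_le_mul_right _ hF)
  have hnum := dc_card_components_le P hP x y hx hy hxy c hcx hcy hcz S hSc
  have hE : Nat.card (Cfsg.layer G) ≤ κ ^ (a + c ^ 3) := by
    rw [Cfsg.Agent.Lib.helper27.layer_eq_finset_sup, ← hSdef]
    exact (dc_card_sup_le S κ hκ (fun K hK K' hK' =>
      Cfsg.Agent.Lib.helper27.component_le_normalizer_component (hSc K' hK') (hSc K hK))).trans
      (Nat.pow_le_pow_right hκpos hnum)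
  have hFn : (Cfsg.fittingSubgroup G).Normal := Cfsg.Agent.Lib.helper27.fittingSubgroup_normal
  have hFs : Nat.card (Cfsg.generalizedFittingSubgroup G) ≤ B := by
    rw [hBdef]
    unfold Cfsg.generalizedFittingSubgroup
    have hdvd := Cfsg.Agent.Lib.helper27.card_sup_dvd_mul (Cfsg.layer G) (Cfsg.fittingSubgroup G)
    have hpos : 0 < Nat.card (Cfsg.layer G) * Nat.card (Cfsg.fittingSubgroup G) :=
      Nat.mul_pos Nat.card_pos Nat.card_pos
    exact (Nat.le_of_dvd hpos hdvd).trans (Nat.mul_le_mul hE hF)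
  -- `G` acts on `F*(G)` with kernel inside `F*(G)`
  have hFsn : (Cfsg.generalizedFittingSubgroup G).Normal :=
    Cfsg.Agent.Lib.helper27.generalizedFittingSubgroup_normal
  obtain ⟨f, hfdef⟩ : ∃ f : G →* MulAut (Cfsg.generalizedFittingSubgroup G),
      f = MulAut.conjNormal := ⟨_, rfl⟩
  have hker : f.ker ≤ Cfsg.generalizedFittingSubgroup G := by
    refine le_trans ?_ Cfsg.Agent.Lib.helper27.centralizer_generalizedFittingSubgroup_le
    intro g hg
    rw [MonoidHom.mem_ker] at hg
    rw [Subgroup.mem_centralizer_iff]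
    intro h hh
    have h1 : f g ⟨h, hh⟩ = ⟨h, hh⟩ := by rw [hg]; rfl
    have h2 : g * h * g⁻¹ = h := by
      have := congrArg Subtype.val h1
      rw [hfdef] at this
      simpa using this
    calc h * g = (g * h * g⁻¹) * g := by rw [h2]
      _ = g * h := by group
  have h1 : Nat.card f.ker * f.ker.index = Nat.card G := f.ker.card_mul_index
  have h2 : f.ker.index ≤ (Nat.card (Cfsg.generalizedFittingSubgroup G)).factorial := by
    rw [Subgroup.index_ker]
    have h3 : Nat.card f.range ≤ Nat.card (MulAut (Cfsg.generalizedFittingSubgroup G)) :=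
      Nat.card_le_card_of_injective _ Subtype.val_injective
    have h4 : Nat.card (MulAut (Cfsg.generalizedFittingSubgroup G))
        ≤ Nat.card (Equiv.Perm (Cfsg.generalizedFittingSubgroup G)) :=
      Nat.card_le_card_of_injective (fun e => e.toEquiv) MulEquiv.toEquiv_injective
    rw [Nat.card_perm] at h4
    exact h3.trans h4
  rw [← h1]
  exact Nat.mul_le_mul ((Subgroup.card_le_of_le hker).trans hFs)
    (h2.trans (Nat.factorial_le hFs))

end Cfsg.Agent.Lib.helper81
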