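import Mathlib
import Cfsg.Prelude.Def_Blocks
import Cfsg.Agent.Lib.helper81.DcBlock

/-!
# The inductive step for the bound on groups of small `2`-deficiency class (helper81)

`dc_cent_le`: if all non-principal `2`-blocks of `G` have defect `< r` (`r ≥ 1`), `E` is an
elementary abelian `2`-subgroup of order `2 ^ (r + 1)`, and groups with smaller Sylow `2`-subgroups
satisfying the analogous hypotheses are bounded by `f`, then the centralizers of the involutions
of `E` are bounded.
-/

set_option autoImplicit false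

namespace Cfsg.Agent.Lib.helper81

open Cfsg Cfsg.Agent.Lib.helper20

universe u

theorem dc_cent_le {G : Type u} [Group G] [Finite G] {M : Ideal AlgInt} (hM : IsPModular 2 M)
    {a : ℕ} (P : Sylow 2 G) (hP : Nat.card P = 2 ^ a) (r : ℕ) (hr : 0 < r)
    (hG : ∀ B : Set (IrrCharacter G), IsPBlock M B → B ≠ principalBlock M G →
      blockDefect 2 B < r)
    (E : Subgroup G) (hEP : E ≤ (P : Subgroup G))
    (hEc : ∀ x ∈ E, ∀ y ∈ E, x * y = y * x) (hEe : ∀ x ∈ E, x * x = 1)
    (hEcard : Nat.card E = 2 ^ (r + 1))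
    (f : ℕ → ℕ)
    (hf : ∀ m < a, ∀ (Q : Type u) [Group Q] [Finite Q] (M : Ideal AlgInt) (r : ℕ)
      (P : Sylow 2 Q), IsPModular 2 M → Nat.card P = 2 ^ m →
      (∀ B : Set (IrrCharacter Q), IsPBlock M B → B ≠ principalBlock M Q →
        blockDefect 2 B < r) →
      (∃ E : Subgroup Q, E ≤ (P : Subgroup Q) ∧ IsMulCommutative E ∧ (∀ x ∈ E, x * x = 1) ∧
        Nat.card E = 2 ^ (r + 1)) → Nat.card Q ≤ f m)
    (z : G) (hzE : z ∈ E) (hz1 : z ≠ 1) :
    ∃ m < a, Nat.card (Subgroup.centralizer ({z} : Set G)) ≤ 2 * f m := by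
  classical
  have hF2 : Fact (Nat.Prime 2) := ⟨Nat.prime_two⟩
  have hz : z * z = 1 := hEe z hzE
  have hzC : z ∈ Subgroup.centralizer ({z} : Set G) :=
    Subgroup.mem_centralizer_singleton_iff.mpr rfl
  obtain ⟨t, ht⟩ : ∃ t : Subgroup.centralizer ({z} : Set G), (t : G) = z := ⟨⟨z, hzC⟩, rfl⟩
  have htt : t * t = 1 := by
    apply Subtype.ext
    rw [Subgroup.coe_mul, ht, hz]
    rfl
  have ht1 : t ≠ 1 := by
    intro h
    apply hz1
    rw [← ht, h]
    rfl
  have htc : ∀ g : Subgroup.centralizer ({z} : Set G), g * t = t * g := by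
    intro g
    apply Subtype.ext
    rw [Subgroup.coe_mul, Subgroup.coe_mul, ht]
    exact Subgroup.mem_centralizer_singleton_iff.mp g.2
  have hN : (Subgroup.zpowers t).Normal := helper58.zpowers_normal_of_central htc
  have hcard : Nat.card (Subgroup.centralizer ({z} : Set G))
      = 2 * Nat.card (Subgroup.centralizer ({z} : Set G) ⧸ Subgroup.zpowers t) := by
    rw [Subgroup.card_eq_card_quotient_mul_card_subgroup (Subgroup.zpowers t), Nat.card_zpowers,
      orderOf_eq_prime (by rw [pow_two]; exact htt) ht1, mul_comm]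
  have hQpos : Nat.card (Subgroup.centralizer ({z} : Set G) ⧸ Subgroup.zpowers t) ≠ 0 :=
    Nat.card_pos.ne'
  obtain ⟨m, hm⟩ : ∃ m : ℕ, m
      = (Nat.card (Subgroup.centralizer ({z} : Set G) ⧸ Subgroup.zpowers t)).factorization 2 :=
    ⟨_, rfl⟩
  have hma : m < a := by
    have h1 : (Nat.card (Subgroup.centralizer ({z} : Set G))).factorization 2 = m + 1 := by
      rw [hcard, Nat.factorization_mul (by norm_num) hQpos, Finsupp.add_apply,
        Nat.prime_two.factorization_self, add_comm, hm]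
    have h2 : (Nat.card (Subgroup.centralizer ({z} : Set G))).factorization 2
        ≤ (Nat.card G).factorization 2 :=
      (Nat.factorization_le_iff_dvd Nat.card_pos.ne' Nat.card_pos.ne').mpr
        (Subgroup.card_subgroup_dvd_card _) 2
    have h3 : (Nat.card G).factorization 2 = a := by
      have h4 := P.card_eq_multiplicity
      rw [hP] at h4
      exact (Nat.pow_right_injective (le_refl 2) h4).symm
    omega
  refine ⟨m, hma, ?_⟩
  rw [hcard]
  apply Nat.mul_le_mul_left
  have hEH : E ≤ Subgroup.centralizer ({z} : Set G) := fun e he =>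
    Subgroup.mem_centralizer_singleton_iff.mpr (hEc e he z hzE)
  obtain ⟨E', hE'⟩ : ∃ E' : Subgroup (Subgroup.centralizer ({z} : Set G)),
      E' = E.subgroupOf (Subgroup.centralizer ({z} : Set G)) := ⟨_, rfl⟩
  obtain ⟨Eb, hEb⟩ : ∃ Eb : Subgroup (Subgroup.centralizer ({z} : Set G) ⧸ Subgroup.zpowers t),
      Eb = E'.map (QuotientGroup.mk' (Subgroup.zpowers t)) := ⟨_, rfl⟩
  have hmemE' : ∀ e : Subgroup.centralizer ({z} : Set G), e ∈ E' ↔ (e : G) ∈ E := by
    intro e
    rw [hE', Subgroup.mem_subgroupOf]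
  have hZE' : Subgroup.zpowers t ≤ E' := by
    rw [Subgroup.zpowers_le, hmemE', ht]
    exact hzE
  have hE'card : Nat.card E' = 2 ^ (r + 1) := by
    rw [hE', ← hEcard]
    exact Nat.card_congr (Subgroup.subgroupOfEquivOfLe hEH).toEquiv
  have hEbcard : Nat.card Eb = 2 ^ r := by
    have hcomap : Eb.comap (QuotientGroup.mk' (Subgroup.zpowers t)) = E' := by
      rw [hEb, Subgroup.comap_map_eq, QuotientGroup.ker_mk', sup_eq_left.mpr hZE']
    have hidx : Eb.index = E'.index := by
      rw [← hcomap, Subgroup.index_comap_of_surjective _ (QuotientGroup.mk'_surjective _)]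
    have h1 := Subgroup.card_mul_index Eb
    have h2 := Subgroup.card_mul_index E'
    rw [hcard, ← h1, hidx, hE'card] at h2
    have hpos : 0 < E'.index := Nat.pos_of_ne_zero Subgroup.index_ne_zero_of_finite
    have h3 : 2 ^ (r + 1) = 2 * Nat.card Eb := by
      apply Nat.eq_of_mul_eq_mul_right hpos
      rw [h2]
      ring
    rw [pow_succ] at h3
    omega
  have hEbp : IsPGroup 2 Eb := by
    rw [hEb]
    apply IsPGroup.map
    rw [hE']
    exact (P.isPGroup'.to_le hEP).comap_subtype
  obtain ⟨Pb, hPb⟩ := hEbp.exists_le_sylow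
  have hPbcard : Nat.card Pb = 2 ^ m := by
    rw [hm]
    exact Pb.card_eq_multiplicity
  have hblocks : ∀ B : Set (IrrCharacter
      (Subgroup.centralizer ({z} : Set G) ⧸ Subgroup.zpowers t)), IsPBlock M B →
      B ≠ principalBlock M (Subgroup.centralizer ({z} : Set G) ⧸ Subgroup.zpowers t) →
      blockDefect 2 B < r - 1 := by
    intro B hB hne
    have := dc_block_step hM r hG z hz hz1 t ht B hB hne
    omega
  refine hf m hma (Subgroup.centralizer ({z} : Set G) ⧸ Subgroup.zpowers t) M (r - 1) Pb hM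
    hPbcard hblocks ⟨Eb, hPb, ?_, ?_, ?_⟩
  · refine ⟨⟨?_⟩⟩
    rintro ⟨x, hx⟩ ⟨y, hy⟩
    apply Subtype.ext
    rw [hEb] at hx hy
    obtain ⟨x', hx', rfl⟩ := hx
    obtain ⟨y', hy', rfl⟩ := hy
    show QuotientGroup.mk' (Subgroup.zpowers t) x' * QuotientGroup.mk' (Subgroup.zpowers t) y'
      = QuotientGroup.mk' (Subgroup.zpowers t) y' * QuotientGroup.mk' (Subgroup.zpowers t) x'
    rw [← map_mul, ← map_mul]
    congr 1
    apply Subtype.ext
    exact hEc _ ((hmemE' x').mp hx') _ ((hmemE' y').mp hy')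
  · intro x hx
    rw [hEb] at hx
    obtain ⟨x', hx', rfl⟩ := hx
    rw [← map_mul]
    have h1 : x' * x' = 1 := Subtype.ext (hEe _ ((hmemE' x').mp hx'))
    rw [h1, map_one]
  · rw [hEbcard]
    congr 1
    omega

end Cfsg.Agent.Lib.helper81
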