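import Mathlib
import Cfsg.Agent.Lib.helper26.Basic

/-!
# Groups with a cyclic Sylow 2-subgroup: the transfer character (helper81)

`dih_cyclic_sylow`: if `s` has order `2 ^ m` and `2 ^ m` is the `2`-part of `|K|`, then there is
a linear character `lam` of `K` with `lam s = ζ` (a prescribed primitive `2 ^ m`-th root of
unity), trivial on the elements of odd order, together with the normal `2`-complement `W`.
-/

set_option autoImplicit false

namespace Cfsg.Agent.Lib.helper81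

theorem dih_cyclic_sylow {K : Type*} [Group K] [Finite K] (s : K) (m : ℕ) (hm : 1 ≤ m)
    (hs : orderOf s = 2 ^ m) (hK : (Nat.card K).factorization 2 = m) (ζ : ℂ)
    (hζ : IsPrimitiveRoot ζ (2 ^ m)) :
    ∃ (lam : K →* ℂˣ) (W : Subgroup K), ((lam s : ℂˣ) : ℂ) = ζ ∧ (∀ k, lam k ^ (2 ^ m) = 1) ∧
      (∀ k, Odd (orderOf k) → lam k = 1) ∧ Odd (Nat.card W) ∧ (∀ k : K, k ^ (2 ^ m) ∈ W) ∧
      (∀ k, Odd (orderOf k) → k ∈ W) ∧
      (∀ f : K →* ℂˣ, f s = 1 → (∀ k, f k ^ (2 ^ m) = 1) → f = 1) ∧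
      (∀ u : K, (∃ j : ℕ, orderOf u = 2 ^ j) → ∃ c : K, ∃ l : ℕ, u = c * s ^ l * c⁻¹) := by
  classical
  have : Fact (Nat.Prime 2) := ⟨Nat.prime_two⟩
  have hpg : IsPGroup 2 (Subgroup.zpowers s) :=
    IsPGroup.of_card (n := m) (by rw [Nat.card_zpowers, hs])
  obtain ⟨Q, hQ⟩ := hpg.exists_le_sylow
  have hQcard : Nat.card (Q : Subgroup K) = 2 ^ m := by rw [Q.card_eq_multiplicity, hK]
  have hQeq : Subgroup.zpowers s = (Q : Subgroup K) := by
    apply Subgroup.eq_of_le_of_card_ge hQ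
    rw [hQcard, Nat.card_zpowers, hs]
  have hsQ : s ∈ (Q : Subgroup K) := hQ (Subgroup.mem_zpowers s)
  have hgen : ∀ q : ↥(Q : Subgroup K), q ∈ Subgroup.zpowers (⟨s, hsQ⟩ : ↥(Q : Subgroup K)) := by
    intro q
    have h1 : (q : K) ∈ Subgroup.zpowers s := by rw [hQeq]; exact q.2
    obtain ⟨i, hi⟩ := Subgroup.mem_zpowers_iff.mp h1
    exact Subgroup.mem_zpowers_iff.mpr ⟨i, Subtype.ext (by simpa using hi)⟩
  have hcyc : IsCyclic ↥(Q : Subgroup K) := ⟨⟨⟨s, hsQ⟩, hgen⟩⟩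
  have hdvd2 : 2 ∣ Nat.card K := by
    have h1 : 2 ^ m ∣ Nat.card K := hQcard ▸ Subgroup.card_subgroup_dvd_card _
    exact dvd_trans (dvd_pow_self 2 (by omega)) h1
  have hmin : (Nat.card K).minFac = 2 := (Nat.minFac_eq_two_iff _).mpr hdvd2
  have hNC := IsCyclic.normalizer_le_centralizer hmin hcyc
  obtain ⟨t, ht⟩ : ∃ t : K →* ↥(Q : Subgroup K), t = MonoidHom.transferSylow Q hNC := ⟨_, rfl⟩
  have hts : t s = ⟨s, hsQ⟩ ^ (Q : Subgroup K).index := by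
    rw [ht, MonoidHom.transferSylow_eq_pow Q hNC s hsQ]
    apply Subtype.ext
    simp
  have hidxodd : Odd (Q : Subgroup K).index := by
    have h1 := Q.not_dvd_index
    exact Nat.odd_iff.mpr (Nat.two_dvd_ne_zero.mp h1)
  have htpow : ∀ k : K, (t k) ^ (2 ^ m) = 1 := by
    intro k
    rw [← hQcard]
    exact pow_card_eq_one'
  have hcop : ∀ a : ℕ, Odd a → Nat.Coprime a (2 ^ m) := fun a ha =>
    Nat.Coprime.pow_right m (Nat.coprime_two_right.mpr ha)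
  have hkill : ∀ {A : Type} [Group A] (x : A) (a : ℕ), Odd a → x ^ a = 1 → x ^ (2 ^ m) = 1 →
      x = 1 := by
    intro A _ x a ha h1 h2
    have h3 := pow_gcd_eq_one.mpr ⟨h1, h2⟩
    rw [Nat.Coprime.gcd_eq_one (hcop a ha), pow_one] at h3
    exact h3
  have hkillQ : ∀ (x : ↥(Q : Subgroup K)) (a : ℕ), Odd a → x ^ a = 1 → x = 1 := by
    intro x a ha h1
    have h3 := pow_gcd_eq_one.mpr ⟨h1, (by rw [← hQcard]; exact pow_card_eq_one' : x ^ (2 ^ m) = 1)⟩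
    rw [Nat.Coprime.gcd_eq_one (hcop a ha), pow_one] at h3
    exact h3
  have hkillC : ∀ (x : ℂˣ) (a : ℕ), Odd a → x ^ a = 1 → x ^ (2 ^ m) = 1 → x = 1 := by
    intro x a ha h1 h2
    have h3 := pow_gcd_eq_one.mpr ⟨h1, h2⟩
    rw [Nat.Coprime.gcd_eq_one (hcop a ha), pow_one] at h3
    exact h3
  -- the character of `Q`
  have hζ0 : ζ ≠ 0 := hζ.ne_zero (by positivity)
  obtain ⟨ζu, hζu⟩ : ∃ ζu : ℂˣ, (ζu : ℂ) = ζ := ⟨Units.mk0 ζ hζ0, rfl⟩
  have hζuo : orderOf ζu = 2 ^ m := by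
    rw [← orderOf_units, hζu]
    exact hζ.eq_orderOf.symm
  have hq0 : orderOf (⟨s, hsQ⟩ : ↥(Q : Subgroup K)) = 2 ^ m := by
    rw [Subgroup.orderOf_mk, hs]
  obtain ⟨μ₀, hμ₀⟩ : ∃ μ₀ : ↥(Q : Subgroup K) →* ℂˣ, μ₀ ⟨s, hsQ⟩ = ζu :=
    ⟨monoidHomOfForallMemZpowers hgen (g' := ζu) (by rw [hζuo, hq0]),
      monoidHomOfForallMemZpowers_apply_gen hgen _⟩
  obtain ⟨e, -, he⟩ := Nat.exists_mul_mod_eq_one_of_coprime
    (hcop _ hidxodd) (Nat.one_lt_two_pow (by omega))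
  refine ⟨(μ₀.comp t) ^ e, t.ker, ?_, ?_, ?_, ?_, ?_, ?_, ?_, ?_⟩
  · rw [MonoidHom.pow_apply, MonoidHom.comp_apply, hts, map_pow, hμ₀, ← pow_mul,
      ← pow_mod_orderOf, hζuo, he, pow_one, hζu]
  · intro k
    rw [MonoidHom.pow_apply, MonoidHom.comp_apply, ← pow_mul, mul_comm, pow_mul, ← map_pow,
      htpow, map_one, one_pow]
  · intro k hk
    have h1 : t k = 1 := by
      apply hkillQ (t k) (orderOf k) hk
      rw [← map_pow, pow_orderOf_eq_one, map_one]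
    rw [MonoidHom.pow_apply, MonoidHom.comp_apply, h1, map_one, one_pow]
  · have h1 := MonoidHom.not_dvd_card_ker_transferSylow Q hNC
    rw [← ht] at h1
    exact Nat.odd_iff.mpr (Nat.two_dvd_ne_zero.mp h1)
  · intro k
    rw [MonoidHom.mem_ker, map_pow, htpow]
  · intro k hk
    rw [MonoidHom.mem_ker]
    apply hkillQ (t k) (orderOf k) hk
    rw [← map_pow, pow_orderOf_eq_one, map_one]
  · intro f hfs hfpow
    have hle : (Q : Subgroup K) ≤ f.ker := by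
      rw [← hQeq, Subgroup.zpowers_le, MonoidHom.mem_ker]
      exact hfs
    have hdvd : f.ker.index ∣ (Q : Subgroup K).index := Subgroup.index_dvd_of_le hle
    have hodd : Odd f.ker.index := by
      rcases hdvd with ⟨c, hc⟩
      rw [hc] at hidxodd
      exact (Nat.odd_mul.mp hidxodd).1
    ext k
    have h1 : k ^ f.ker.index ∈ f.ker := Subgroup.pow_index_mem _ k
    rw [MonoidHom.mem_ker, map_pow] at h1
    have h2 := hkillC (f k) _ hodd h1 (hfpow k)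
    rw [h2]
    rfl
  · rintro u ⟨j, hj⟩
    obtain ⟨g, hg⟩ := Cfsg.Agent.Lib.helper26.exists_conj_mem_sylow Q u
      ⟨j, by rw [← hj]; exact pow_orderOf_eq_one u⟩
    rw [← hQeq] at hg
    have hfin : IsOfFinOrder s := by
      rw [← orderOf_pos_iff, hs]
      positivity
    rw [← hfin.mem_powers_iff_mem_zpowers] at hg
    obtain ⟨l, hl⟩ := hg
    have hl' : s ^ l = g * u * g⁻¹ := hl
    refine ⟨g⁻¹, l, ?_⟩
    rw [hl']
    group

end Cfsg.Agent.Lib.helper81
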