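import Mathlib
import Cfsg.Prelude.Def_Solvable
import Cfsg.Agent.Lib.helper40.Cores
import Cfsg.Agent.Lib.helper81.BlGroup

/-!
# Group-theoretic lemmas for groups with dihedral Sylow 2-subgroups (helper81)

* `dih_sign_fpf`: a fixed-point-free involutory permutation of `2 m` points, `m` odd, is odd.
* `dih_pPrimeCore_index`: a subgroup `D` normalizing an odd-order subgroup `W` with
  `d ^ 2 ^ N ∈ W` for all `d ∈ D` has a normal `2`-complement.
* `dih_unique_invol`: the unique involution of a cyclic group of order `2 ^ (n - 1)`.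
* `dih_card_conj`: size of the `C_G(z)`-class of `t`.
-/

set_option autoImplicit false

namespace Cfsg.Agent.Lib.helper81

open Cfsg

universe u

/-- A fixed-point-free involutory permutation of `2 m` points with `m` odd has sign `-1`. -/
theorem dih_sign_fpf {X : Type*} [Fintype X] [DecidableEq X] (π : Equiv.Perm X)
    (hπ : π * π = 1) (hfix : ∀ x, π x ≠ x) (m : ℕ) (hm : Fintype.card X = 2 * m)
    (hodd : Odd m) : Equiv.Perm.sign π = -1 := by
  have hne : π ≠ 1 := by
    intro h
    have hpos : 0 < Fintype.card X := by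
      rw [hm]
      rcases hodd with ⟨k, rfl⟩
      omega
    obtain ⟨x⟩ := Fintype.card_pos_iff.mp hpos
    exact hfix x (by rw [h]; rfl)
  have hord : orderOf π = 2 := orderOf_eq_prime (by rw [pow_two]; exact hπ) hne
  obtain ⟨k, hk⟩ := Equiv.Perm.cycleType_prime_order (σ := π) (by rw [hord]; exact Nat.prime_two)
  rw [hord] at hk
  have hsupp : π.support = Finset.univ := by
    ext x
    simp only [Equiv.Perm.mem_support, Finset.mem_univ, iff_true]
    exact hfix x
  have hsum := Equiv.Perm.sum_cycleType π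
  rw [hsupp, Finset.card_univ, hm, hk, Multiset.sum_replicate, smul_eq_mul] at hsum
  have hkm : k + 1 = m := by omega
  rw [Equiv.Perm.sign_of_cycleType, hk, Multiset.sum_replicate, Multiset.card_replicate,
    smul_eq_mul, hkm]
  have h1 : m * 2 + m = 2 * m + m := by ring
  rw [h1, pow_add, pow_mul]
  simp [hodd.neg_one_pow]

variable {G : Type u} [Group G]

/-- If `D` normalizes the odd-order subgroup `W` and `d ^ 2 ^ N ∈ W` for all `d ∈ D`, then `D`
has a normal `2`-complement. -/
theorem dih_pPrimeCore_index [Finite G] (W D : Subgroup G) (hWodd : Odd (Nat.card W))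
    (hnorm : ∀ d ∈ D, ∀ w ∈ W, d * w * d⁻¹ ∈ W) (N : ℕ) (hexp : ∀ d ∈ D, d ^ (2 ^ N) ∈ W) :
    ∃ k : ℕ, (pPrimeCore 2 ↥D).index = 2 ^ k := by
  have : Fact (Nat.Prime 2) := ⟨Nat.prime_two⟩
  obtain ⟨K, hK⟩ : ∃ K : Subgroup ↥D, K = W.subgroupOf D := ⟨_, rfl⟩
  have hmem : ∀ d : ↥D, d ∈ K ↔ (d : G) ∈ W := by
    intro d
    rw [hK, Subgroup.mem_subgroupOf]
  have hKn : K.Normal := by
    constructor
    intro w hw d
    rw [hmem] at hw ⊢
    exact hnorm d d.2 w hw
  have hcop : (Nat.card K).Coprime 2 := by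
    have h1 : Nat.card K ∣ Nat.card W := by
      have hle : K.map D.subtype ≤ W := by
        rintro x ⟨d, hd, rfl⟩
        exact (hmem d).mp hd
      have h0 := Subgroup.card_dvd_of_le hle
      rwa [Subgroup.card_map_of_injective D.subtype_injective] at h0
    have h2 : Odd (Nat.card K) := by
      rcases h1 with ⟨c, hc⟩
      rw [hc] at hWodd
      exact (Nat.odd_mul.mp hWodd).1
    exact Nat.Coprime.symm (Nat.coprime_two_left.mpr h2)
  have hle := Cfsg.Agent.Lib.helper40.le_pPrimeCore K hKn hcop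
  have hidx : (pPrimeCore 2 ↥D).index ∣ K.index := Subgroup.index_dvd_of_le hle
  have hpg : IsPGroup 2 (↥D ⧸ K) := by
    intro q
    refine ⟨N, ?_⟩
    induction q using QuotientGroup.induction_on with
    | H d =>
      rw [← QuotientGroup.mk_pow, QuotientGroup.eq_one_iff, hmem]
      exact hexp d d.2
  obtain ⟨k, hk⟩ := IsPGroup.iff_card.mp hpg
  have hidx' : (pPrimeCore 2 ↥D).index ∣ 2 ^ k := by
    rw [← hk]
    exact hidx
  obtain ⟨j, -, hj⟩ := (Nat.dvd_prime_pow Nat.prime_two).mp hidx'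
  exact ⟨j, hj⟩

/-- The unique involution of the cyclic group generated by an element of order `2 ^ (n - 1)`. -/
theorem dih_unique_invol (σ : G) (n : ℕ) (hn : 2 ≤ n) (hσo : orderOf σ = 2 ^ (n - 1)) (x : G)
    (hx : x ∈ Subgroup.zpowers σ) (hx2 : x * x = 1) (hx1 : x ≠ 1) : x = σ ^ (2 ^ (n - 2)) := by
  have hfin : IsOfFinOrder σ := by
    rw [← orderOf_pos_iff, hσo]
    positivity
  rw [← hfin.mem_powers_iff_mem_zpowers] at hx
  obtain ⟨k, hk⟩ := hx
  have hk' : σ ^ k = x := hk
  subst hk'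
  have h1 : σ ^ (2 * k) = 1 := by
    rw [two_mul, pow_add]
    exact hx2
  have h2 : 2 ^ (n - 1) ∣ 2 * k := by
    rw [← hσo]
    exact orderOf_dvd_of_pow_eq_one h1
  have h3 : 2 ^ (n - 1) = 2 * 2 ^ (n - 2) := by
    rw [← pow_succ']
    congr 1
    omega
  rw [h3] at h2
  have h4 : 2 ^ (n - 2) ∣ k := (Nat.mul_dvd_mul_iff_left (by norm_num)).mp h2
  obtain ⟨m, rfl⟩ := h4
  rcases Nat.even_or_odd m with hm | hm
  · exfalso
    apply hx1
    obtain ⟨j, rfl⟩ := hm
    have : 2 ^ (n - 2) * (j + j) = 2 ^ (n - 1) * j := by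
      rw [h3]; ring
    rw [this, pow_mul, ← hσo, pow_orderOf_eq_one, one_pow]
  · obtain ⟨j, rfl⟩ := hm
    have : 2 ^ (n - 2) * (2 * j + 1) = 2 ^ (n - 1) * j + 2 ^ (n - 2) := by
      rw [h3]; ring
    rw [this, pow_add, pow_mul, ← hσo, pow_orderOf_eq_one, one_pow, one_mul]

/-- The size of the `C_G(z)`-conjugacy class of `t`. -/
theorem dih_card_conj [Finite G] (z t : G) :
    Nat.card {a : G // ∃ c ∈ Subgroup.centralizer ({z} : Set G), a = c * t * c⁻¹} *
      Nat.card (Subgroup.centralizer ({z, t} : Set G)) =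
    Nat.card (Subgroup.centralizer ({z} : Set G)) := by
  classical
  obtain ⟨f, hf⟩ : ∃ f : Subgroup.centralizer ({z} : Set G) →
      {a : G // ∃ c ∈ Subgroup.centralizer ({z} : Set G), a = c * t * c⁻¹},
      ∀ c, ((f c : {a : G // ∃ c ∈ Subgroup.centralizer ({z} : Set G), a = c * t * c⁻¹}) : G)
        = (c : G) * t * (c : G)⁻¹ :=
    ⟨fun c => ⟨(c : G) * t * (c : G)⁻¹, c, c.2, rfl⟩, fun _ => rfl⟩
  have hfib : ∀ b, Nat.card {a // f a = b} = Nat.card (Subgroup.centralizer ({z, t} : Set G)) := by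
    intro b
    obtain ⟨c₀, hc₀, hb⟩ := b.2
    have hmemZT : ∀ d : G, d ∈ Subgroup.centralizer ({z, t} : Set G) ↔
        (d ∈ Subgroup.centralizer ({z} : Set G) ∧ d * t = t * d) := by
      intro d
      rw [Subgroup.mem_centralizer_iff, Subgroup.mem_centralizer_iff]
      constructor
      · intro h
        refine ⟨?_, ?_⟩
        · intro y hy
          rw [Set.mem_singleton_iff] at hy
          subst hy
          exact h y (by simp)
        · exact (h t (by simp)).symm
      · rintro ⟨h1, h2⟩ y hy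
        rcases hy with rfl | hy
        · exact h1 y (by simp)
        · rw [Set.mem_singleton_iff] at hy
          subst hy
          exact h2.symm
    refine Nat.card_congr
      { toFun := fun a => ⟨c₀⁻¹ * ((a : Subgroup.centralizer ({z} : Set G)) : G), ?_⟩
        invFun := fun d => ⟨⟨c₀ * (d : G), ?_⟩, ?_⟩
        left_inv := ?_
        right_inv := ?_ }
    · rw [hmemZT]
      refine ⟨Subgroup.mul_mem _ (Subgroup.inv_mem _ hc₀) a.1.2, ?_⟩
      have h1 : (((f a.1 : {a : G // ∃ c ∈ Subgroup.centralizer ({z} : Set G), a = c * t * c⁻¹}))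
          : G) = (b : G) := by rw [a.2]
      rw [hf, hb] at h1
      have h2 : c₀⁻¹ * (((a : Subgroup.centralizer ({z} : Set G)) : G) * t *
          ((a : Subgroup.centralizer ({z} : Set G)) : G)⁻¹) *
          ((a : Subgroup.centralizer ({z} : Set G)) : G) = c₀⁻¹ * (c₀ * t * c₀⁻¹) *
          ((a : Subgroup.centralizer ({z} : Set G)) : G) := by rw [h1]
      have h3 : c₀⁻¹ * (((a : Subgroup.centralizer ({z} : Set G)) : G) * t *
          ((a : Subgroup.centralizer ({z} : Set G)) : G)⁻¹) *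
          ((a : Subgroup.centralizer ({z} : Set G)) : G) =
          c₀⁻¹ * ((a : Subgroup.centralizer ({z} : Set G)) : G) * t := by group
      have h4 : c₀⁻¹ * (c₀ * t * c₀⁻¹) * ((a : Subgroup.centralizer ({z} : Set G)) : G) =
          t * (c₀⁻¹ * ((a : Subgroup.centralizer ({z} : Set G)) : G)) := by group
      rw [← h3, h2, h4]
    · exact Subgroup.mul_mem _ hc₀ ((hmemZT _).mp d.2).1
    · apply Subtype.ext
      rw [hf, hb]
      have h1 := ((hmemZT _).mp d.2).2
      show c₀ * (d : G) * t * (c₀ * (d : G))⁻¹ = c₀ * t * c₀⁻¹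
      rw [mul_assoc c₀, h1]
      group
    · intro a
      apply Subtype.ext
      apply Subtype.ext
      show c₀ * (c₀⁻¹ * ((a : Subgroup.centralizer ({z} : Set G)) : G)) = _
      group
    · intro d
      apply Subtype.ext
      show c₀⁻¹ * (c₀ * (d : G)) = _
      group
  rw [bl_card_eq_mul_of_fiber f _ hfib, mul_comm]

end Cfsg.Agent.Lib.helper81
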