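import Mathlib
import Cfsg.Prelude.Def_Solvable
import Cfsg.Agent.Lib.helper26.Basic
import Cfsg.Agent.Lib.helper81.DihGroup
import Cfsg.Agent.Lib.helper81.DihCyc

/-!
# Local structure of a group with dihedral Sylow 2-subgroups (helper81)

`P = ⟨σ, τ⟩` dihedral of order `2 ^ n`, `z = σ ^ 2 ^ (n - 2)` its central involution,
`C = C_G(z)`.  By Thompson's transfer lemma `C` has a subgroup `H` of index `2` with cyclic Sylow
`2`-subgroup `⟨σ⟩`, and `H` has a linear character `lam` with `lam σ = ζ`.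
-/

set_option autoImplicit false

namespace Cfsg.Agent.Lib.helper81

open Cfsg

universe u

variable {G : Type u} [Group G]

/-- The local data attached to a dihedral Sylow `2`-subgroup `⟨σ, τ⟩`. -/
structure DihLocal (σ τ : G) (n : ℕ) (ζ : ℂ) (H : Subgroup G) (lam : ↥H →* ℂˣ) : Prop where
  hn : 3 ≤ n
  hζ : IsPrimitiveRoot ζ (2 ^ (n - 1))
  hσo : orderOf σ = 2 ^ (n - 1)
  hHC : H ≤ Subgroup.centralizer ({σ ^ (2 ^ (n - 2))} : Set G)
  hσH : σ ∈ H
  hτC : τ ∈ Subgroup.centralizer ({σ ^ (2 ^ (n - 2))} : Set G)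
  hτH : τ ∉ H
  hidx : ∀ c ∈ Subgroup.centralizer ({σ ^ (2 ^ (n - 2))} : Set G), c ∈ H ∨ τ * c ∈ H
  hτsq : τ * τ = 1
  hrel : τ * σ * τ⁻¹ = σ⁻¹
  hnorm : ∀ c ∈ Subgroup.centralizer ({σ ^ (2 ^ (n - 2))} : Set G), ∀ h ∈ H, c * h * c⁻¹ ∈ H
  hz : orderOf (σ ^ (2 ^ (n - 2))) = 2
  hlamσ : ∀ hσ : σ ∈ H, ((lam ⟨σ, hσ⟩ : ℂˣ) : ℂ) = ζ
  hlampow : ∀ h : ↥H, lam h ^ (2 ^ (n - 1)) = 1
  hlaminv : ∀ h h' : ↥H, (h' : G) = τ * (h : G) * τ⁻¹ → lam h' = (lam h)⁻¹
  hlamodd : ∀ h : ↥H, Odd (orderOf (h : G)) → lam h = 1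
  hinvol : ∀ h ∈ H, orderOf h = 2 → h = σ ^ (2 ^ (n - 2))
  hnilp : ∀ u ∈ H, u ≠ 1 → (∃ k : ℕ, orderOf u = 2 ^ k) →
    ∃ k : ℕ, (pPrimeCore 2 ↥(Subgroup.centralizer ({u} : Set G))).index = 2 ^ k
  hconjσ : ∀ u ∈ H, (∃ k : ℕ, orderOf u = 2 ^ k) → ∃ c ∈ H, ∃ l : ℕ, u = c * σ ^ l * c⁻¹
  hJ : ∀ a ∈ Subgroup.centralizer ({σ ^ (2 ^ (n - 2))} : Set G), a ∉ H → a * a = 1 →
    (∃ c ∈ Subgroup.centralizer ({σ ^ (2 ^ (n - 2))} : Set G), a = c * τ * c⁻¹) ∨
    (∃ c ∈ Subgroup.centralizer ({σ ^ (2 ^ (n - 2))} : Set G), a = c * (σ * τ) * c⁻¹)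
  hdisj : ∀ c ∈ Subgroup.centralizer ({σ ^ (2 ^ (n - 2))} : Set G), c * τ * c⁻¹ ≠ σ * τ
  hcardH : 2 * Nat.card H = Nat.card (Subgroup.centralizer ({σ ^ (2 ^ (n - 2))} : Set G))

/-- Basic facts on a dihedral Sylow `2`-subgroup given by generators. -/
theorem dih_basic [Finite G] (P : Sylow 2 G) (σ τ : G) (n : ℕ) (hn : 3 ≤ n)
    (hσ : σ ∈ (P : Subgroup G)) (hτ : τ ∈ (P : Subgroup G)) (hσo : orderOf σ = 2 ^ (n - 1))
    (hτo : orderOf τ = 2) (hrel : τ * σ * τ⁻¹ = σ⁻¹)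
    (hP : ∀ x ∈ (P : Subgroup G), x ∈ Subgroup.zpowers σ ∨ τ * x ∈ Subgroup.zpowers σ) :
    τ * τ = 1 ∧ τ ∉ Subgroup.zpowers σ ∧ orderOf (σ ^ (2 ^ (n - 2))) = 2 ∧
      τ ∈ Subgroup.centralizer ({σ ^ (2 ^ (n - 2))} : Set G) ∧
      (P : Subgroup G) ≤ Subgroup.centralizer ({σ ^ (2 ^ (n - 2))} : Set G) ∧
      Nat.card (P : Subgroup G) = 2 ^ n ∧ (Nat.card G).factorization 2 = n := by
  have : Fact (Nat.Prime 2) := ⟨Nat.prime_two⟩
  have hτ2 : τ * τ = 1 := by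
    have := pow_orderOf_eq_one τ
    rwa [hτo, pow_two] at this
  have hτinv : τ⁻¹ = τ := inv_eq_of_mul_eq_one_left hτ2
  have h3 : 2 ^ (n - 1) = 2 * 2 ^ (n - 2) := by
    rw [← pow_succ']
    congr 1
    omega
  have hτσ : τ ∉ Subgroup.zpowers σ := by
    intro h
    obtain ⟨i, hi⟩ := Subgroup.mem_zpowers_iff.mp h
    have h1 : τ * σ * τ⁻¹ = σ := by
      rw [← hi]
      have : σ ^ i * σ = σ * σ ^ i := by
        rw [← zpow_add_one, ← zpow_one_add, add_comm]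
      rw [this]
      group
    rw [hrel] at h1
    have h2 : σ ^ 2 = 1 := by
      rw [pow_two]
      nth_rw 1 [← h1]
      exact inv_mul_cancel σ
    have h4 := orderOf_dvd_of_pow_eq_one h2
    rw [hσo] at h4
    have h5 := Nat.le_of_dvd (by norm_num) h4
    have h6 : 2 ^ 2 ≤ 2 ^ (n - 1) := Nat.pow_le_pow_right (by norm_num) (by omega)
    omega
  have hz2 : (σ ^ (2 ^ (n - 2))) ^ 2 = 1 := by
    rw [← pow_mul, mul_comm, ← h3, ← hσo, pow_orderOf_eq_one]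
  have hz1 : σ ^ (2 ^ (n - 2)) ≠ 1 := by
    apply pow_ne_one_of_lt_orderOf (by positivity)
    rw [hσo, h3]
    have : 0 < 2 ^ (n - 2) := by positivity
    omega
  have hzo : orderOf (σ ^ (2 ^ (n - 2))) = 2 := orderOf_eq_prime hz2 hz1
  have hzinv : (σ ^ (2 ^ (n - 2)))⁻¹ = σ ^ (2 ^ (n - 2)) := by
    apply inv_eq_of_mul_eq_one_left
    rw [← pow_two]
    exact hz2
  have hτC : τ ∈ Subgroup.centralizer ({σ ^ (2 ^ (n - 2))} : Set G) := by
    rw [Subgroup.mem_centralizer_singleton_iff]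
    have h1 : τ * σ ^ (2 ^ (n - 2)) * τ⁻¹ = σ ^ (2 ^ (n - 2)) := by
      rw [← conj_pow, hrel, inv_pow, hzinv]
    calc τ * σ ^ (2 ^ (n - 2)) = τ * σ ^ (2 ^ (n - 2)) * τ⁻¹ * τ := by group
      _ = σ ^ (2 ^ (n - 2)) * τ := by rw [h1]
  have hσC : Subgroup.zpowers σ ≤ Subgroup.centralizer ({σ ^ (2 ^ (n - 2))} : Set G) := by
    rw [Subgroup.zpowers_le, Subgroup.mem_centralizer_singleton_iff, ← pow_succ, ← pow_succ']
  have hPC : (P : Subgroup G) ≤ Subgroup.centralizer ({σ ^ (2 ^ (n - 2))} : Set G) := by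
    intro x hx
    rcases hP x hx with h | h
    · exact hσC h
    · have h1 := Subgroup.mul_mem _ (Subgroup.inv_mem _ hτC) (hσC h)
      rwa [inv_mul_cancel_left] at h1
  have hcardP : Nat.card (P : Subgroup G) = 2 ^ n := by
    have hle : Subgroup.zpowers σ ≤ (P : Subgroup G) := by
      rw [Subgroup.zpowers_le]; exact hσ
    obtain ⟨K, hK⟩ : ∃ K : Subgroup ↥(P : Subgroup G),
        K = (Subgroup.zpowers σ).subgroupOf (P : Subgroup G) := ⟨_, rfl⟩
    have hmemK : ∀ b : ↥(P : Subgroup G), b ∈ K ↔ (b : G) ∈ Subgroup.zpowers σ := by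
      intro b
      rw [hK, Subgroup.mem_subgroupOf]
    have hidx : K.index = 2 := by
      rw [Subgroup.index_eq_two_iff']
      refine ⟨⟨τ, hτ⟩, fun b => ?_⟩
      rw [hmemK, hmemK]
      rcases hP b b.2 with h | h
      · refine Or.inr ⟨h, ?_⟩
        intro h'
        apply hτσ
        have := Subgroup.mul_mem _ h' (Subgroup.inv_mem _ h)
        simpa using this
      · refine Or.inl ⟨h, ?_⟩
        intro h'
        apply hτσ
        have := Subgroup.mul_mem _ h (Subgroup.inv_mem _ h')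
        simpa using this
    have hcardK : Nat.card K = 2 ^ (n - 1) := by
      rw [hK, Nat.card_congr (Subgroup.subgroupOfEquivOfLe hle).toEquiv, Nat.card_zpowers, hσo]
    have := Subgroup.card_mul_index K
    rw [hidx, hcardK] at this
    rw [← this, mul_comm, ← pow_succ']
    congr 1
    omega
  refine ⟨hτ2, hτσ, hzo, hτC, hPC, hcardP, ?_⟩
  have h1 := P.card_eq_multiplicity
  rw [hcardP] at h1
  exact (Nat.pow_right_injective (le_refl 2) h1).symm

/-- Thompson's transfer lemma in `C_G(z)`: the sign of the action on the cosets of `⟨σ⟩` is `-1`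
at every involution other than `z`. -/
theorem dih_sign_hom [Finite G] (σ : G) (n : ℕ) (hn : 2 ≤ n) (hσo : orderOf σ = 2 ^ (n - 1))
    (m' : ℕ) (hm' : Odd m')
    (hC : Nat.card (Subgroup.centralizer ({σ ^ (2 ^ (n - 2))} : Set G)) = 2 ^ n * m') :
    ∃ s : ↥(Subgroup.centralizer ({σ ^ (2 ^ (n - 2))} : Set G)) →* ℤˣ,
      ∀ c : ↥(Subgroup.centralizer ({σ ^ (2 ^ (n - 2))} : Set G)),
        (c : G) * c = 1 → (c : G) ≠ 1 → (c : G) ≠ σ ^ (2 ^ (n - 2)) → s c = -1 := by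
  classical
  have hσC : Subgroup.zpowers σ ≤ Subgroup.centralizer ({σ ^ (2 ^ (n - 2))} : Set G) := by
    rw [Subgroup.zpowers_le, Subgroup.mem_centralizer_singleton_iff, ← pow_succ, ← pow_succ']
  obtain ⟨S₀, hS₀⟩ : ∃ S₀ : Subgroup ↥(Subgroup.centralizer ({σ ^ (2 ^ (n - 2))} : Set G)),
      S₀ = (Subgroup.zpowers σ).subgroupOf (Subgroup.centralizer ({σ ^ (2 ^ (n - 2))} : Set G)) :=
    ⟨_, rfl⟩
  have hmemS : ∀ b : ↥(Subgroup.centralizer ({σ ^ (2 ^ (n - 2))} : Set G)),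
      b ∈ S₀ ↔ (b : G) ∈ Subgroup.zpowers σ := by
    intro b
    rw [hS₀, Subgroup.mem_subgroupOf]
  have : Fintype (↥(Subgroup.centralizer ({σ ^ (2 ^ (n - 2))} : Set G)) ⧸ S₀) :=
    Fintype.ofFinite _
  have hcardS : Nat.card S₀ = 2 ^ (n - 1) := by
    rw [hS₀, Nat.card_congr (Subgroup.subgroupOfEquivOfLe hσC).toEquiv, Nat.card_zpowers, hσo]
  have hcardX : Fintype.card (↥(Subgroup.centralizer ({σ ^ (2 ^ (n - 2))} : Set G)) ⧸ S₀)
      = 2 * m' := by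
    have h1 := Subgroup.card_mul_index S₀
    rw [hcardS, hC] at h1
    have h2 : 2 ^ n = 2 ^ (n - 1) * 2 := by
      rw [← pow_succ]
      congr 1
      omega
    rw [h2, mul_assoc] at h1
    have h3 := Nat.eq_of_mul_eq_mul_left (by positivity) h1
    rw [← Nat.card_eq_fintype_card]
    exact h3
  refine ⟨(Equiv.Perm.sign).comp
    (MulAction.toPermHom ↥(Subgroup.centralizer ({σ ^ (2 ^ (n - 2))} : Set G))
      (↥(Subgroup.centralizer ({σ ^ (2 ^ (n - 2))} : Set G)) ⧸ S₀)), ?_⟩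
  intro c hc2 hc1 hcz
  rw [MonoidHom.comp_apply]
  have hcc : c * c = 1 := Subtype.ext hc2
  apply dih_sign_fpf _ ?_ ?_ m' hcardX hm'
  · rw [← map_mul, hcc, map_one]
  · intro q
    induction q using QuotientGroup.induction_on with
    | H a =>
      intro hfix
      have h1 : ((c * a : ↥(Subgroup.centralizer ({σ ^ (2 ^ (n - 2))} : Set G))) :
          ↥(Subgroup.centralizer ({σ ^ (2 ^ (n - 2))} : Set G)) ⧸ S₀) = a := hfix
      rw [QuotientGroup.eq, hmemS] at h1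
      have h2 : (((c * a)⁻¹ * a : ↥(Subgroup.centralizer ({σ ^ (2 ^ (n - 2))} : Set G))) : G)
          = (a : G)⁻¹ * (c : G)⁻¹ * (a : G) := by
        simp [mul_assoc]
      rw [h2] at h1
      have hcinv : (c : G)⁻¹ = c := inv_eq_of_mul_eq_one_left hc2
      rw [hcinv] at h1
      have h3 : (a : G)⁻¹ * (c : G) * (a : G) = σ ^ (2 ^ (n - 2)) := by
        apply dih_unique_invol σ n hn hσo _ h1
        · have : (a : G)⁻¹ * (c : G) * (a : G) * ((a : G)⁻¹ * (c : G) * (a : G))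
              = (a : G)⁻¹ * ((c : G) * (c : G)) * (a : G) := by group
          rw [this, hc2]
          group
        · intro h
          apply hc1
          have : (c : G) = (a : G) * ((a : G)⁻¹ * (c : G) * (a : G)) * (a : G)⁻¹ := by group
          rw [this, h]
          group
      apply hcz
      have h4 : (c : G) = (a : G) * ((a : G)⁻¹ * (c : G) * (a : G)) * (a : G)⁻¹ := by group
      rw [h4, h3]
      have h5 := Subgroup.mem_centralizer_singleton_iff.mp a.2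
      rw [h5]
      group

/-- The subgroup of index `2` in `C_G(z)` given by Thompson's transfer lemma. -/
theorem dih_index_two [Finite G] (σ τ : G) (n : ℕ)
    (hτ2 : τ * τ = 1) (hτσ : τ ∉ Subgroup.zpowers σ)
    (hτC : τ ∈ Subgroup.centralizer ({σ ^ (2 ^ (n - 2))} : Set G))
    (hrel : τ * σ * τ⁻¹ = σ⁻¹)
    (s : ↥(Subgroup.centralizer ({σ ^ (2 ^ (n - 2))} : Set G)) →* ℤˣ)
    (hs : ∀ c : ↥(Subgroup.centralizer ({σ ^ (2 ^ (n - 2))} : Set G)),
        (c : G) * c = 1 → (c : G) ≠ 1 → (c : G) ≠ σ ^ (2 ^ (n - 2)) → s c = -1) :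
    ∃ H : Subgroup G, H ≤ Subgroup.centralizer ({σ ^ (2 ^ (n - 2))} : Set G) ∧ σ ∈ H ∧ τ ∉ H ∧
      (∀ c ∈ Subgroup.centralizer ({σ ^ (2 ^ (n - 2))} : Set G), c ∈ H ∨ τ * c ∈ H) ∧
      (∀ c ∈ Subgroup.centralizer ({σ ^ (2 ^ (n - 2))} : Set G), ∀ h ∈ H, c * h * c⁻¹ ∈ H) ∧
      (∀ h ∈ H, orderOf h = 2 → h = σ ^ (2 ^ (n - 2))) ∧
      2 * Nat.card H = Nat.card (Subgroup.centralizer ({σ ^ (2 ^ (n - 2))} : Set G)) := by
  classical
  have hσC : σ ∈ Subgroup.centralizer ({σ ^ (2 ^ (n - 2))} : Set G) := by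
    rw [Subgroup.mem_centralizer_singleton_iff, ← pow_succ, ← pow_succ']
  have hzσ : σ ^ (2 ^ (n - 2)) ∈ Subgroup.zpowers σ := Subgroup.pow_mem _ (Subgroup.mem_zpowers σ) _
  have hneg : (-1 : ℤˣ) ≠ 1 := by decide
  have hsτ : s ⟨τ, hτC⟩ = -1 := by
    apply hs
    · exact hτ2
    · intro h
      have h' : τ = 1 := h
      apply hτσ
      rw [h']
      exact Subgroup.one_mem _
    · intro h
      have h' : τ = σ ^ (2 ^ (n - 2)) := h
      apply hτσ
      rw [h']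
      exact hzσ
  have hστC : σ * τ ∈ Subgroup.centralizer ({σ ^ (2 ^ (n - 2))} : Set G) :=
    Subgroup.mul_mem _ hσC hτC
  have hsστ : s ⟨σ * τ, hστC⟩ = -1 := by
    apply hs
    · show σ * τ * (σ * τ) = 1
      have : σ * τ * (σ * τ) = σ * (τ * σ * τ⁻¹) * (τ * τ) := by group
      rw [this, hrel, hτ2]
      group
    · intro h
      have h' : σ * τ = 1 := h
      apply hτσ
      have : τ = σ⁻¹ * (σ * τ) := by group
      rw [this, h', mul_one]
      exact Subgroup.inv_mem _ (Subgroup.mem_zpowers σ)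
    · intro h
      have h' : σ * τ = σ ^ (2 ^ (n - 2)) := h
      apply hτσ
      have : τ = σ⁻¹ * (σ * τ) := by group
      rw [this, h']
      exact Subgroup.mul_mem _ (Subgroup.inv_mem _ (Subgroup.mem_zpowers σ)) hzσ
  have hsσ : s ⟨σ, hσC⟩ = 1 := by
    have h1 : (⟨σ * τ, hστC⟩ : ↥(Subgroup.centralizer ({σ ^ (2 ^ (n - 2))} : Set G)))
        = ⟨σ, hσC⟩ * ⟨τ, hτC⟩ := rfl
    rw [h1, map_mul, hsτ] at hsστ
    have h2 : s ⟨σ, hσC⟩ = s ⟨σ, hσC⟩ * -1 * -1 := by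
      rw [mul_assoc]; simp
    rw [h2, hsστ]
    simp
  obtain ⟨H, hH⟩ : ∃ H : Subgroup G,
      H = s.ker.map (Subgroup.centralizer ({σ ^ (2 ^ (n - 2))} : Set G)).subtype := ⟨_, rfl⟩
  have hmem : ∀ g : G, g ∈ H ↔
      ∃ hg : g ∈ Subgroup.centralizer ({σ ^ (2 ^ (n - 2))} : Set G), s ⟨g, hg⟩ = 1 := by
    intro g
    rw [hH, Subgroup.mem_map]
    constructor
    · rintro ⟨x, hx, rfl⟩
      exact ⟨x.2, MonoidHom.mem_ker.mp hx⟩
    · rintro ⟨hg, h⟩
      exact ⟨⟨g, hg⟩, MonoidHom.mem_ker.mpr h, rfl⟩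
  refine ⟨H, ?_, ?_, ?_, ?_, ?_, ?_, ?_⟩
  · intro g hg
    exact ((hmem g).mp hg).1
  · exact (hmem σ).mpr ⟨hσC, hsσ⟩
  · intro h
    obtain ⟨_, h1⟩ := (hmem τ).mp h
    rw [hsτ] at h1
    exact hneg h1
  · intro c hc
    rcases Int.units_eq_one_or (s ⟨c, hc⟩) with h | h
    · exact Or.inl ((hmem c).mpr ⟨hc, h⟩)
    · refine Or.inr ((hmem _).mpr ⟨Subgroup.mul_mem _ hτC hc, ?_⟩)
      have h1 : (⟨τ * c, Subgroup.mul_mem _ hτC hc⟩ :
          ↥(Subgroup.centralizer ({σ ^ (2 ^ (n - 2))} : Set G))) = ⟨τ, hτC⟩ * ⟨c, hc⟩ := rfl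
      rw [h1, map_mul, hsτ, h]
      simp
  · intro c hc h hh
    obtain ⟨hhC, hh1⟩ := (hmem h).mp hh
    refine (hmem _).mpr ⟨Subgroup.mul_mem _ (Subgroup.mul_mem _ hc hhC) (Subgroup.inv_mem _ hc), ?_⟩
    have h1 : (⟨c * h * c⁻¹, Subgroup.mul_mem _ (Subgroup.mul_mem _ hc hhC)
        (Subgroup.inv_mem _ hc)⟩ : ↥(Subgroup.centralizer ({σ ^ (2 ^ (n - 2))} : Set G)))
        = ⟨c, hc⟩ * ⟨h, hhC⟩ * ⟨c, hc⟩⁻¹ := rfl
    rw [h1, map_mul, map_mul, map_inv, hh1, mul_one, mul_inv_cancel]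
  · intro h hh ho
    by_contra hne
    obtain ⟨hhC, hh1⟩ := (hmem h).mp hh
    have h2 : s ⟨h, hhC⟩ = -1 := by
      apply hs
      · show h * h = 1
        have := pow_orderOf_eq_one h
        rwa [ho, pow_two] at this
      · intro h1
        have h1' : h = 1 := h1
        rw [h1', orderOf_one] at ho
        omega
      · exact hne
    rw [hh1] at h2
    exact hneg h2.symm
  · have hidx : s.ker.index = 2 := by
      rw [Subgroup.index_eq_two_iff']
      refine ⟨⟨τ, hτC⟩, fun b => ?_⟩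
      rw [MonoidHom.mem_ker, MonoidHom.mem_ker, map_mul, hsτ]
      rcases Int.units_eq_one_or (s b) with h | h
      · refine Or.inr ⟨h, ?_⟩
        rw [h]
        simp
      · refine Or.inl ⟨?_, ?_⟩
        · rw [h]; simp
        · rw [h]; exact hneg
    have h1 := Subgroup.card_mul_index s.ker
    rw [hidx] at h1
    rw [hH, Subgroup.card_map_of_injective (Subgroup.subtype_injective _), mul_comm]
    exact h1

/-- Existence of the local data. -/
theorem dih_local_exists [Finite G] (P : Sylow 2 G) (σ τ : G) (n : ℕ) (hn : 3 ≤ n)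
    (hσ : σ ∈ (P : Subgroup G)) (hτ : τ ∈ (P : Subgroup G)) (hσo : orderOf σ = 2 ^ (n - 1))
    (hτo : orderOf τ = 2) (hrel : τ * σ * τ⁻¹ = σ⁻¹)
    (hP : ∀ x ∈ (P : Subgroup G), x ∈ Subgroup.zpowers σ ∨ τ * x ∈ Subgroup.zpowers σ)
    (ζ : ℂ) (hζ : IsPrimitiveRoot ζ (2 ^ (n - 1))) :
    ∃ (H : Subgroup G) (lam : ↥H →* ℂˣ), DihLocal σ τ n ζ H lam := by
  classical
  have : Fact (Nat.Prime 2) := ⟨Nat.prime_two⟩
  obtain ⟨hτ2, hτσ, hzo, hτC, hPC, hcardP, hfac⟩ := dih_basic P σ τ n hn hσ hτ hσo hτo hrel hP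
  have hτinv : τ⁻¹ = τ := inv_eq_of_mul_eq_one_left hτ2
  have hσC : σ ∈ Subgroup.centralizer ({σ ^ (2 ^ (n - 2))} : Set G) := by
    rw [Subgroup.mem_centralizer_singleton_iff, ← pow_succ, ← pow_succ']
  obtain ⟨m', hm'⟩ : 2 ^ n ∣ Nat.card (Subgroup.centralizer ({σ ^ (2 ^ (n - 2))} : Set G)) :=
    hcardP ▸ Subgroup.card_dvd_of_le hPC
  have hm'odd : Odd m' := by
    by_contra hcon
    rw [Nat.not_odd_iff_even] at hcon
    obtain ⟨j, hj⟩ := hcon
    have h1 : 2 ^ (n + 1) ∣ Nat.card G := by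
      have h2 : 2 ^ (n + 1) ∣ Nat.card (Subgroup.centralizer ({σ ^ (2 ^ (n - 2))} : Set G)) :=
        ⟨j, by rw [hm', hj]; ring⟩
      exact h2.trans (Subgroup.card_subgroup_dvd_card _)
    rw [← hfac] at h1
    exact Nat.pow_succ_factorization_not_dvd Nat.card_pos.ne' Nat.prime_two h1
  obtain ⟨s, hs⟩ := dih_sign_hom σ n (by omega) hσo m' hm'odd hm'
  obtain ⟨H, hHC, hσH, hτH, hidx, hnorm, hinvol, hcardH⟩ :=
    dih_index_two σ τ n hτ2 hτσ hτC hrel s hs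
  have hcardH' : Nat.card H = 2 ^ (n - 1) * m' := by
    have h2 : 2 ^ n = 2 * 2 ^ (n - 1) := by
      rw [← pow_succ']
      congr 1
      omega
    rw [hm', h2, mul_assoc] at hcardH
    exact Nat.eq_of_mul_eq_mul_left (by norm_num) hcardH
  have hm'0 : m' ≠ 0 := by
    rintro rfl
    simp at hm'odd
  have hfacH : (Nat.card H).factorization 2 = n - 1 := by
    rw [hcardH', Nat.factorization_mul (by positivity) hm'0, Nat.factorization_pow]
    simp [Nat.factorization_eq_zero_of_not_dvd hm'odd.not_two_dvd_nat,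
      Nat.prime_two.factorization_self]
  obtain ⟨lam, W, hlamσ, hlampow, hlamodd, hWodd, hWexp, hWmem, hkey, hconj⟩ :=
    dih_cyclic_sylow (⟨σ, hσH⟩ : ↥H) (n - 1) (by omega) (by rw [Subgroup.orderOf_mk, hσo])
      hfacH ζ hζ
  obtain ⟨κ, hκ⟩ : ∃ κ : ↥H →* ↥H, ∀ h : ↥H, ((κ h : ↥H) : G) = τ * (h : G) * τ⁻¹ :=
    ⟨{ toFun := fun h => ⟨τ * (h : G) * τ⁻¹, hnorm τ hτC h h.2⟩
       map_one' := by apply Subtype.ext; simp
       map_mul' := fun a b => by apply Subtype.ext; simp [mul_assoc] }, fun _ => rfl⟩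
  have hlaminv : ∀ h h' : ↥H, (h' : G) = τ * (h : G) * τ⁻¹ → lam h' = (lam h)⁻¹ := by
    intro h h' hh'
    have hf := hkey ((lam.comp κ) * lam) (by
      rw [MonoidHom.mul_apply, MonoidHom.comp_apply]
      have h2 : κ ⟨σ, hσH⟩ = (⟨σ, hσH⟩ : ↥H)⁻¹ := Subtype.ext (by rw [hκ]; exact hrel)
      rw [h2, map_inv, inv_mul_cancel]) (by
      intro k
      rw [MonoidHom.mul_apply, MonoidHom.comp_apply, mul_pow, hlampow, hlampow, one_mul])
    have h1 := DFunLike.congr_fun hf h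
    rw [MonoidHom.mul_apply, MonoidHom.comp_apply, MonoidHom.one_apply] at h1
    have h2 : κ h = h' := Subtype.ext (by rw [hκ, hh'])
    rw [h2] at h1
    exact eq_inv_of_mul_eq_one_left h1
  have hzpow : ∀ u ∈ H, u ≠ 1 → (∃ k : ℕ, orderOf u = 2 ^ k) →
      ∃ j : ℕ, u ^ j = σ ^ (2 ^ (n - 2)) := by
    rintro u hu hu1 ⟨k, hk⟩
    have hk0 : k ≠ 0 := by
      rintro rfl
      rw [pow_zero, orderOf_eq_one_iff] at hk
      exact hu1 hk
    obtain ⟨k', rfl⟩ := Nat.exists_eq_succ_of_ne_zero hk0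
    refine ⟨2 ^ k', hinvol _ (Subgroup.pow_mem _ hu _) ?_⟩
    apply orderOf_eq_prime
    · rw [← pow_mul, ← pow_succ, ← hk, pow_orderOf_eq_one]
    · apply pow_ne_one_of_lt_orderOf (by positivity)
      rw [hk]
      exact Nat.pow_lt_pow_right (by norm_num) (by omega)
  have hnilp : ∀ u ∈ H, u ≠ 1 → (∃ k : ℕ, orderOf u = 2 ^ k) →
      ∃ k : ℕ, (pPrimeCore 2 ↥(Subgroup.centralizer ({u} : Set G))).index = 2 ^ k := by
    intro u hu hu1 hu2
    obtain ⟨j, hj⟩ := hzpow u hu hu1 hu2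
    have hDC : Subgroup.centralizer ({u} : Set G)
        ≤ Subgroup.centralizer ({σ ^ (2 ^ (n - 2))} : Set G) := by
      intro d hd
      rw [Subgroup.mem_centralizer_singleton_iff] at hd ⊢
      rw [← hj]
      exact (Commute.pow_right (show Commute d u from hd) j).eq
    apply dih_pPrimeCore_index (W.map H.subtype) _ ?_ ?_ n ?_
    · rw [Subgroup.card_map_of_injective H.subtype_injective]
      exact hWodd
    · rintro d hd w ⟨w', hw', rfl⟩
      have hdC := hDC hd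
      have hmemH : d * (w' : G) * d⁻¹ ∈ H := hnorm d hdC _ w'.2
      refine ⟨⟨_, hmemH⟩, hWmem _ ?_, rfl⟩
      rw [Subgroup.orderOf_mk]
      have h1 : orderOf (⟨w', hw'⟩ : ↥W) ∣ Nat.card W := orderOf_dvd_natCard _
      rw [Subgroup.orderOf_mk] at h1
      have h2 : Odd (orderOf w') := by
        rcases h1 with ⟨c, hc⟩
        rw [hc] at hWodd
        exact (Nat.odd_mul.mp hWodd).1
      have h3 : orderOf (d * (w' : G) * d⁻¹) ∣ orderOf w' := by
        apply orderOf_dvd_of_pow_eq_one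
        rw [conj_pow, ← Subgroup.orderOf_coe, pow_orderOf_eq_one]
        group
      rcases h3 with ⟨c, hc⟩
      rw [hc] at h2
      exact (Nat.odd_mul.mp h2).1
    · intro d hd
      have hdC := hDC hd
      have hd2 : d * d ∈ H := by
        rcases hidx d hdC with h | h
        · exact H.mul_mem h h
        · have h1 := hnorm τ hτC _ h
          have h2 := H.mul_mem h1 h
          have e : τ * (τ * d) * τ⁻¹ * (τ * d) = (τ * τ) * d * d := by group
          rw [e, hτ2, one_mul] at h2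
          exact h2
      have h3 := hWexp ⟨d * d, hd2⟩
      refine ⟨_, h3, ?_⟩
      show ((⟨d * d, hd2⟩ : ↥H) ^ 2 ^ (n - 1) : ↥H).1 = d ^ 2 ^ n
      rw [Subgroup.coe_pow]
      show (d * d) ^ 2 ^ (n - 1) = d ^ 2 ^ n
      rw [← pow_two, ← pow_mul, ← pow_succ']
      congr 2
      omega
  have hconjσ : ∀ u ∈ H, (∃ k : ℕ, orderOf u = 2 ^ k) →
      ∃ c ∈ H, ∃ l : ℕ, u = c * σ ^ l * c⁻¹ := by
    rintro u hu ⟨k, hk⟩
    obtain ⟨c, l, hcl⟩ := hconj ⟨u, hu⟩ ⟨k, by rw [Subgroup.orderOf_mk, hk]⟩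
    refine ⟨c, c.2, l, ?_⟩
    have := congrArg (fun x : ↥H => (x : G)) hcl
    simpa using this
  have hτσi : ∀ i : ℤ, τ * σ ^ i = σ ^ (-i) * τ := by
    intro i
    have h1 : τ * σ ^ i * τ⁻¹ = σ ^ (-i) := by rw [← conj_zpow, hrel, inv_zpow']
    rw [← h1]
    group
  have hJ : ∀ a ∈ Subgroup.centralizer ({σ ^ (2 ^ (n - 2))} : Set G), a ∉ H → a * a = 1 →
      (∃ c ∈ Subgroup.centralizer ({σ ^ (2 ^ (n - 2))} : Set G), a = c * τ * c⁻¹) ∨
      (∃ c ∈ Subgroup.centralizer ({σ ^ (2 ^ (n - 2))} : Set G), a = c * (σ * τ) * c⁻¹) := by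
    intro a haC haH ha2
    obtain ⟨m, hmC, hm⟩ := Cfsg.Agent.Lib.helper26.exists_conj_mem_sylow_of_le P _ hPC a haC
      ⟨1, by rw [pow_one, pow_two]; exact ha2⟩
    have hbH : m * a * m⁻¹ ∉ H := by
      intro hb
      apply haH
      have h1 := hnorm m⁻¹ (Subgroup.inv_mem _ hmC) _ hb
      have e : m⁻¹ * (m * a * m⁻¹) * m⁻¹⁻¹ = a := by group
      rwa [e] at h1
    have hσle : Subgroup.zpowers σ ≤ H := by
      rw [Subgroup.zpowers_le]
      exact hσH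
    rcases hP _ hm with h | h
    · exact absurd (hσle h) hbH
    · obtain ⟨i, hi⟩ := Subgroup.mem_zpowers_iff.mp h
      have hb : m * a * m⁻¹ = τ * σ ^ i := by
        rw [hi, ← mul_assoc, hτ2, one_mul]
      have ha : a = m⁻¹ * (τ * σ ^ i) * m := by
        rw [← hb]
        group
      rcases Int.even_or_odd' i with ⟨k, hk | hk⟩
      · left
        refine ⟨m⁻¹ * σ ^ (-k), Subgroup.mul_mem _ (Subgroup.inv_mem _ hmC)
          (Subgroup.zpow_mem _ hσC _), ?_⟩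
        have h1 : τ * σ ^ (2 * k) = σ ^ (-k) * τ * σ ^ k := by
          rw [← hτσi k, mul_assoc, ← zpow_add]
          congr 2
          ring
        rw [ha, hk, h1]
        group
      · right
        refine ⟨m⁻¹ * σ ^ (-k - 1), Subgroup.mul_mem _ (Subgroup.inv_mem _ hmC)
          (Subgroup.zpow_mem _ hσC _), ?_⟩
        have h1 : τ * σ ^ (2 * k + 1) = σ ^ (-k - 1) * (σ * τ) * σ ^ (k + 1) := by
          have h2 : σ ^ (-k - 1) * (σ * τ) = σ ^ (-k) * τ := by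
            rw [← mul_assoc, ← zpow_add_one]
            congr 2
            ring
          rw [h2, ← hτσi k, mul_assoc, ← zpow_add]
          congr 2
          ring
        rw [ha, hk, h1]
        group
  have hζne : (lam ⟨σ, hσH⟩ : ℂˣ) ^ (2 ^ (n - 2)) ≠ 1 := by
    intro h
    have h1 : ((lam ⟨σ, hσH⟩ : ℂˣ) : ℂ) ^ (2 ^ (n - 2)) = 1 := by
      rw [← Units.val_pow_eq_pow_val, h]
      rfl
    rw [hlamσ] at h1
    exact hζ.pow_ne_one_of_pos_of_lt (by positivity)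
      (Nat.pow_lt_pow_right (by norm_num) (by omega)) h1
  have h3 : 2 ^ (n - 1) = 2 * 2 ^ (n - 2) := by
    rw [← pow_succ']
    congr 1
    omega
  have hdisj : ∀ c ∈ Subgroup.centralizer ({σ ^ (2 ^ (n - 2))} : Set G),
      c * τ * c⁻¹ ≠ σ * τ := by
    intro c hc heq
    have hsq : ∀ (h : ↥H) (e : ↥H), (h : G) * τ * (h : G)⁻¹ * τ⁻¹ = (e : G) →
        lam h * lam h = lam e := by
      intro h e he
      have h1 : e = h * κ h⁻¹ := by
        apply Subtype.ext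
        rw [Subgroup.coe_mul, hκ, ← he]
        simp [mul_assoc]
      rw [h1, map_mul, hlaminv h⁻¹ (κ h⁻¹) (hκ _), map_inv, inv_inv]
    rcases hidx c hc with h | h
    · have h1 := hsq ⟨c, h⟩ ⟨σ, hσH⟩ (by
        show c * τ * c⁻¹ * τ⁻¹ = σ
        rw [heq]
        group)
      apply hζne
      rw [← h1, ← pow_two, ← pow_mul, ← h3, hlampow]
    · have h1 := hsq ⟨τ * c, h⟩ (⟨σ, hσH⟩ : ↥H)⁻¹ (by
        show τ * c * τ * (τ * c)⁻¹ * τ⁻¹ = σ⁻¹
        have e : τ * c * τ * (τ * c)⁻¹ * τ⁻¹ = τ * (c * τ * c⁻¹) * τ⁻¹ * τ⁻¹ := by group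
        rw [e, heq, ← hrel]
        group)
      apply hζne
      rw [map_inv] at h1
      have h2 : lam ⟨σ, hσH⟩ = (lam ⟨τ * c, h⟩ * lam ⟨τ * c, h⟩)⁻¹ := by
        rw [h1, inv_inv]
      rw [h2, inv_pow, ← pow_two, ← pow_mul, ← h3, hlampow, inv_one]
  exact ⟨H, lam,
    { hn := hn
      hζ := hζ
      hσo := hσo
      hHC := hHC
      hσH := hσH
      hτC := hτC
      hτH := hτH
      hidx := hidx
      hτsq := hτ2
      hrel := hrel
      hnorm := hnorm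
      hz := hzo
      hlamσ := fun _ => hlamσ
      hlampow := hlampow
      hlaminv := hlaminv
      hlamodd := fun h ho => hlamodd h (by rwa [Subgroup.orderOf_coe] at ho)
      hinvol := hinvol
      hnilp := hnilp
      hconjσ := hconjσ
      hJ := hJ
      hdisj := hdisj
      hcardH := hcardH }⟩

end Cfsg.Agent.Lib.helper81
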