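import Mathlib
import Cfsg.Agent.Lib.helper81.DihLocal
import Cfsg.Agent.Lib.helper84.Frobenius
import Cfsg.Agent.Lib.helper19.CycNorm
import Cfsg.Agent.Lib.helper4.KleinChar

/-!
# Characters induced from the index-two subgroup of `C_G(z)` (helper81)

For a linear character `μ` of `H` inverted by `τ` and trivial on elements of odd order,
`Ind_H^G (1 - μ)` restricts to `H` as `2 - μ - μ⁻¹` and vanishes on elements of odd order.
-/

set_option autoImplicit false

namespace Cfsg.Agent.Lib.helper81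

open Cfsg Cfsg.Agent.Lib.helper83 Cfsg.Agent.Lib.helper84 Cfsg.Agent.Lib.helper19
open scoped ComplexConjugate

universe u

variable {G : Type u} [Group G] {σ τ : G} {n : ℕ} {ζ : ℂ} {H : Subgroup G} {lam : ↥H →* ℂˣ}

theorem dih_orderOf_conj (x g : G) : orderOf (x⁻¹ * g * x) = orderOf g := by
  have h := orderOf_injective (MulAut.conj x⁻¹).toMonoidHom (MulAut.conj x⁻¹).injective g
  simpa using h

/-- An element of even order of `H` has `z` as a power. -/
theorem DihLocal.even_pow [Finite G] (D : DihLocal σ τ n ζ H lam) {h : G} (hh : h ∈ H)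
    (he : Even (orderOf h)) : h ^ (orderOf h / 2) = σ ^ (2 ^ (n - 2)) := by
  apply D.hinvol _ (H.pow_mem hh _)
  have hpos := orderOf_pos h
  obtain ⟨k, hk⟩ := he
  have hk2 : orderOf h / 2 = k := by omega
  rw [hk2]
  apply orderOf_eq_prime
  · rw [← pow_mul, show k * 2 = orderOf h by omega, pow_orderOf_eq_one]
  · apply pow_ne_one_of_lt_orderOf <;> omega

/-- The "TI" property: an element of even order of `H` is conjugate into `H` only by elements
of `C_G(z)`. -/
theorem DihLocal.TI [Finite G] (D : DihLocal σ τ n ζ H lam) {h : G} (hh : h ∈ H)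
    (he : Even (orderOf h)) (x : G) (hx : x⁻¹ * h * x ∈ H) :
    x ∈ Subgroup.centralizer ({σ ^ (2 ^ (n - 2))} : Set G) := by
  have ho := dih_orderOf_conj x h
  have h1 := D.even_pow hh he
  have h2 := D.even_pow hx (by rw [ho]; exact he)
  rw [ho] at h2
  have h3 : (x⁻¹ * h * x) ^ (orderOf h / 2) = x⁻¹ * h ^ (orderOf h / 2) * x := by
    have := conj_pow (a := x⁻¹) (b := h) (i := orderOf h / 2)
    simpa using this
  rw [h3, h1] at h2
  rw [Subgroup.mem_centralizer_singleton_iff]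
  calc x * σ ^ (2 ^ (n - 2)) = x * (x⁻¹ * σ ^ (2 ^ (n - 2)) * x) := by rw [h2]
    _ = σ ^ (2 ^ (n - 2)) * x := by group

/-- The restriction to `H` of `Ind_H^G (1 - μ)`. -/
theorem DihLocal.ind_restrict [Fintype G] (D : DihLocal σ τ n ζ H lam) (μ : ↥H →* ℂˣ)
    (hμinv : ∀ h h' : ↥H, (h' : G) = τ * (h : G) * τ⁻¹ → μ h' = (μ h)⁻¹)
    (hμodd : ∀ h : ↥H, Odd (orderOf (h : G)) → μ h = 1) (h : ↥H) :
    indFun H (fun x : ↥H => 1 - (μ x : ℂ)) (h : G) = 2 - (μ h : ℂ) - (((μ h)⁻¹ : ℂˣ) : ℂ) := by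
  classical
  have hH0 : (Nat.card H : ℂ) ≠ 0 := by exact_mod_cast Nat.card_pos.ne'
  rw [indFun_apply]
  have hterm : ∀ x : G, extendByZero H (fun x : ↥H => 1 - (μ x : ℂ)) (x⁻¹ * (h : G) * x) =
      (if x ∈ H then 1 - (μ h : ℂ) else 0) +
        (if τ * x ∈ H then 1 - (((μ h)⁻¹ : ℂˣ) : ℂ) else 0) := by
    intro x
    by_cases hx : x ∈ H
    · have hτx : τ * x ∉ H := by
        intro h'
        apply D.hτH
        have := H.mul_mem h' (H.inv_mem hx)
        simpa using this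
      rw [if_pos hx, if_neg hτx, add_zero]
      have hmem : x⁻¹ * (h : G) * x ∈ H := H.mul_mem (H.mul_mem (H.inv_mem hx) h.2) hx
      have e : (⟨x⁻¹ * (h : G) * x, hmem⟩ : ↥H) = (⟨x, hx⟩ : ↥H)⁻¹ * h * ⟨x, hx⟩ := rfl
      rw [show x⁻¹ * (h : G) * x = ((⟨x⁻¹ * (h : G) * x, hmem⟩ : ↥H) : G) from rfl,
        extendByZero_coe, e, map_mul, map_mul, map_inv, mul_comm ((μ ⟨x, hx⟩)⁻¹), mul_assoc,
        inv_mul_cancel, mul_one]
    · rw [if_neg hx, zero_add]
      by_cases hτx : τ * x ∈ H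
      · rw [if_pos hτx]
        have hκ : τ * (h : G) * τ⁻¹ ∈ H := D.hnorm τ D.hτC _ h.2
        have hmem : x⁻¹ * (h : G) * x ∈ H := by
          have h1 := H.mul_mem (H.mul_mem (H.inv_mem hτx) hκ) hτx
          have e : (τ * x)⁻¹ * (τ * (h : G) * τ⁻¹) * (τ * x) = x⁻¹ * (h : G) * x := by group
          rwa [e] at h1
        have e2 : (⟨x⁻¹ * (h : G) * x, hmem⟩ : ↥H) =
            (⟨τ * x, hτx⟩ : ↥H)⁻¹ * ⟨τ * (h : G) * τ⁻¹, hκ⟩ * ⟨τ * x, hτx⟩ := by
          apply Subtype.ext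
          show x⁻¹ * (h : G) * x = (τ * x)⁻¹ * (τ * (h : G) * τ⁻¹) * (τ * x)
          group
        rw [show x⁻¹ * (h : G) * x = ((⟨x⁻¹ * (h : G) * x, hmem⟩ : ↥H) : G) from rfl,
          extendByZero_coe, e2, map_mul, map_mul, map_inv, hμinv h ⟨_, hκ⟩ rfl,
          mul_comm ((μ ⟨τ * x, hτx⟩)⁻¹), mul_assoc, inv_mul_cancel, mul_one]
      · rw [if_neg hτx]
        by_cases hmem : x⁻¹ * (h : G) * x ∈ H
        · have hxC : x ∉ Subgroup.centralizer ({σ ^ (2 ^ (n - 2))} : Set G) := by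
            intro hc
            rcases D.hidx x hc with h' | h'
            · exact hx h'
            · exact hτx h'
          have hodd : Odd (orderOf (x⁻¹ * (h : G) * x)) := by
            by_contra hne
            rw [Nat.not_odd_iff_even, dih_orderOf_conj] at hne
            exact hxC (D.TI h.2 hne x hmem)
          rw [show x⁻¹ * (h : G) * x = ((⟨x⁻¹ * (h : G) * x, hmem⟩ : ↥H) : G) from rfl,
            extendByZero_coe, hμodd ⟨_, hmem⟩ hodd]
          simp
        · exact extendByZero_of_not_mem H _ _ hmem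
  simp_rw [hterm]
  rw [Finset.sum_add_distrib]
  have hcard : ((Finset.univ : Finset G).filter (· ∈ H)).card = Nat.card H := by
    rw [Nat.card_eq_fintype_card, Fintype.card_subtype]
  have hs1 : ∀ c : ℂ, ∑ x : G, (if x ∈ H then c else 0) = (Nat.card H : ℂ) * c := by
    intro c
    rw [← Finset.sum_filter, Finset.sum_const, hcard, nsmul_eq_mul]
  have hs2 : ∀ c : ℂ, ∑ x : G, (if τ * x ∈ H then c else 0) = (Nat.card H : ℂ) * c := by
    intro c
    rw [← hs1 c]
    exact Fintype.sum_bijective (fun x => τ * x) (Group.mulLeft_bijective τ) _ _ (fun x => rfl)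
  rw [hs1, hs2]
  field_simp
  ring

/-- `Ind_H^G (1 - μ)` vanishes on the elements of odd order. -/
theorem dih_ind_odd [Fintype G] (μ : ↥H →* ℂˣ)
    (hμodd : ∀ h : ↥H, Odd (orderOf (h : G)) → μ h = 1) (g : G) (hg : Odd (orderOf g)) :
    indFun H (fun x : ↥H => 1 - (μ x : ℂ)) g = 0 := by
  rw [indFun_apply]
  have h0 : ∀ x : G, extendByZero H (fun x : ↥H => 1 - (μ x : ℂ)) (x⁻¹ * g * x) = 0 := by
    intro x
    by_cases hmem : x⁻¹ * g * x ∈ H
    · rw [show x⁻¹ * g * x = ((⟨x⁻¹ * g * x, hmem⟩ : ↥H) : G) from rfl, extendByZero_coe,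
        hμodd ⟨_, hmem⟩ (by rw [dih_orderOf_conj]; exact hg)]
      simp
    · exact extendByZero_of_not_mem H _ _ hmem
  simp [h0]

/-- The sum of a linear character over a finite group. -/
theorem dih_sum_hom {S : Type*} [Group S] [Fintype S] (φ : S →* ℂˣ) :
    ∑ x : S, (φ x : ℂ) = if φ = 1 then (Nat.card S : ℂ) else 0 := by
  split_ifs with h
  · subst h
    simp [Nat.card_eq_fintype_card]
  · exact sum_hom_eq_zero φ h

/-- `⟨Ind (1 - μ), ψ⟩` by Frobenius reciprocity. -/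
theorem dih_inner_ind [Fintype G] [Fintype ↥H] (μ : ↥H →* ℂˣ) (ψ : G → ℂ)
    (hψ : IsClassFunction G ψ) :
    classInner (indFun H (fun x : ↥H => 1 - (μ x : ℂ))) ψ =
      (Nat.card H : ℂ)⁻¹ * ∑ h : ↥H, (1 - (μ h : ℂ)) * conj (ψ h) := by
  rw [frobenius_reciprocity H _ ψ hψ, classInner_def]

/-- `⟨Ind (1 - μ), 1⟩ = 1`. -/
theorem dih_inner_ind_one [Fintype G] (μ : ↥H →* ℂˣ) (hμ : μ ≠ 1) :
    classInner (indFun H (fun x : ↥H => 1 - (μ x : ℂ))) (fun _ => (1 : ℂ)) = 1 := by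
  classical
  have hH0 : (Nat.card H : ℂ) ≠ 0 := by exact_mod_cast Nat.card_pos.ne'
  rw [dih_inner_ind μ (fun _ => (1 : ℂ)) (fun _ _ => rfl)]
  simp only [map_one, mul_one, Finset.sum_sub_distrib, Finset.sum_const, Finset.card_univ,
    nsmul_eq_mul]
  rw [dih_sum_hom μ, if_neg hμ, ← Nat.card_eq_fintype_card, sub_zero, inv_mul_cancel₀ hH0]

/-- The multiplicities of the irreducible characters in `Ind (1 - μ)` are integers. -/
theorem dih_inner_ind_int [Fintype G] (μ : ↥H →* ℂˣ) (χ : IrrCharacter G) :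
    ∃ m : ℤ, classInner (indFun H (fun x : ↥H => 1 - (μ x : ℂ))) (χ : G → ℂ) = m := by
  classical
  rw [frobenius_reciprocity H _ _ (isClassFunction_irr χ)]
  have h1 := classInner_sub_left (fun _ : ↥H => (1 : ℂ)) (fun x : ↥H => (μ x : ℂ))
    (fun h : ↥H => (χ : G → ℂ) h)
  rw [h1]
  have hres : IsCharacter ↥H (fun h : ↥H => (χ : G → ℂ) h) :=
    isCharacter_restrict H (isCharacter_of_irr χ.2)
  obtain ⟨a, ha⟩ := classInner_isCharacter_nat (isCharacter_of_irr (isIrrCharacter_one (G := ↥H)))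
    hres
  obtain ⟨b, hb⟩ := classInner_isCharacter_nat (isCharacter_of_hom μ) hres
  exact ⟨(a : ℤ) - b, by rw [ha, hb]; push_cast; ring⟩

open Classical in
/-- `⟨Ind (1 - μ), Ind (1 - μ')⟩ = 2 + [μ = μ'] + [μ = μ'⁻¹]` for nontrivial `μ`, `μ'`. -/
theorem DihLocal.inner_ind_ind [Fintype G] (D : DihLocal σ τ n ζ H lam) (μ μ' : ↥H →* ℂˣ)
    (hμ'inv : ∀ h h' : ↥H, (h' : G) = τ * (h : G) * τ⁻¹ → μ' h' = (μ' h)⁻¹)
    (hμ'odd : ∀ h : ↥H, Odd (orderOf (h : G)) → μ' h = 1) (hμ : μ ≠ 1) (hμ' : μ' ≠ 1) :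
    classInner (indFun H (fun x : ↥H => 1 - (μ x : ℂ)))
        (indFun H (fun x : ↥H => 1 - (μ' x : ℂ))) =
      2 + (if μ = μ' then 1 else 0) + (if μ = μ'⁻¹ then 1 else 0) := by
  classical
  have hH0 : (Nat.card H : ℂ) ≠ 0 := by exact_mod_cast Nat.card_pos.ne'
  rw [dih_inner_ind μ _ (indFun_isClassFunction H _)]
  have hterm : ∀ h : ↥H, (1 - (μ h : ℂ)) *
      conj (indFun H (fun x : ↥H => 1 - (μ' x : ℂ)) (h : G)) =
      2 - ((μ'⁻¹ h : ℂˣ) : ℂ) - (μ' h : ℂ) - 2 * (μ h : ℂ) + (((μ * μ'⁻¹) h : ℂˣ) : ℂ)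
        + (((μ * μ') h : ℂˣ) : ℂ) := by
    intro h
    rw [D.ind_restrict μ' hμ'inv hμ'odd h]
    have c1 : conj (μ' h : ℂ) = ((μ'⁻¹ h : ℂˣ) : ℂ) := hom_conj_eq_inv μ' h
    have c2 : conj (((μ' h)⁻¹ : ℂˣ) : ℂ) = (μ' h : ℂ) := by
      rw [Units.val_inv_eq_inv_val, map_inv₀, c1, MonoidHom.inv_apply, Units.val_inv_eq_inv_val,
        inv_inv]
    rw [map_sub, map_sub, c1, c2]
    simp only [map_ofNat, MonoidHom.mul_apply, Units.val_mul]
    ring
  rw [Finset.sum_congr rfl (fun h _ => hterm h)]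
  simp only [Finset.sum_add_distrib, Finset.sum_sub_distrib, ← Finset.mul_sum, Finset.sum_const,
    Finset.card_univ, nsmul_eq_mul]
  have e0 : μ'⁻¹ ≠ 1 := by
    intro h
    apply hμ'
    ext x
    have h1 := DFunLike.congr_fun h x
    rw [MonoidHom.inv_apply, MonoidHom.one_apply, inv_eq_one] at h1
    rw [h1]
    rfl
  have e1 : (μ * μ'⁻¹ = 1) ↔ μ = μ' := by
    constructor
    · intro h
      ext x
      have h1 := DFunLike.congr_fun h x
      rw [MonoidHom.mul_apply, MonoidHom.inv_apply, MonoidHom.one_apply, mul_inv_eq_one] at h1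
      rw [h1]
    · rintro rfl
      ext x
      rw [MonoidHom.mul_apply, MonoidHom.inv_apply, MonoidHom.one_apply, mul_inv_cancel]
  have e2 : (μ * μ' = 1) ↔ μ = μ'⁻¹ := by
    constructor
    · intro h
      ext x
      have h1 := DFunLike.congr_fun h x
      rw [MonoidHom.mul_apply, MonoidHom.one_apply, mul_eq_one_iff_eq_inv] at h1
      rw [h1]
      rfl
    · intro h
      rw [h]
      ext x
      rw [MonoidHom.mul_apply, MonoidHom.inv_apply, MonoidHom.one_apply, inv_mul_cancel]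
  rw [dih_sum_hom μ, dih_sum_hom μ', dih_sum_hom μ'⁻¹, dih_sum_hom (μ * μ'⁻¹),
    dih_sum_hom (μ * μ'), if_neg hμ, if_neg hμ', if_neg e0, ← Nat.card_eq_fintype_card]
  simp only [e1, e2]
  split_ifs <;> field_simp <;> ring

/-- A class function with integral multiplicities and norm one is `±` an irreducible
character. -/
theorem dih_pm_irr [Fintype G] (f : G → ℂ) (hf : IsClassFunction G f)
    (hint : ∀ χ : IrrCharacter G, ∃ m : ℤ, classInner f (χ : G → ℂ) = m)
    (hnorm : classInner f f = 1) :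
    ∃ (χ₀ : IrrCharacter G) (e : ℂ), (e = 1 ∨ e = -1) ∧ ∀ g, f g = e * (χ₀ : G → ℂ) g := by
  classical
  have := Fintype.ofFinite (IrrCharacter G)
  choose m hm using hint
  have hexp : ∀ g, f g = ∑ χ : IrrCharacter G, (m χ : ℂ) * (χ : G → ℂ) g := by
    intro g
    rw [classFunction_expansion' f hf g]
    refine Finset.sum_congr rfl fun χ _ => ?_
    rw [hm]
  have hsumC : (∑ χ : IrrCharacter G, (m χ : ℂ) * (m χ : ℂ)) = 1 := by
    rw [← hnorm]
    have h1 : classInner f f = ∑ χ : IrrCharacter G, (m χ : ℂ) * classInner (χ : G → ℂ) f := by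
      rw [classInner_def]
      simp_rw [classInner_def]
      have : ∀ g : G, f g * conj (f g) =
          ∑ χ : IrrCharacter G, (m χ : ℂ) * ((χ : G → ℂ) g * conj (f g)) := by
        intro g
        have h := congrArg (fun z => z * conj (f g)) (hexp g)
        beta_reduce at h
        rw [h, Finset.sum_mul]
        refine Finset.sum_congr rfl fun χ _ => ?_
        ring
      simp_rw [this]
      rw [Finset.sum_comm, Finset.mul_sum]
      refine Finset.sum_congr rfl fun χ _ => ?_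
      rw [← Finset.mul_sum]
      ring
    rw [h1]
    refine Finset.sum_congr rfl fun χ _ => ?_
    rw [← classInner_conj_symm, hm]
    simp
  have hsum : (∑ χ : IrrCharacter G, m χ * m χ) = 1 := by
    have : ((∑ χ : IrrCharacter G, m χ * m χ : ℤ) : ℂ) = ((1 : ℤ) : ℂ) := by
      push_cast
      exact hsumC
    exact_mod_cast this
  obtain ⟨χ₀, hχ₀⟩ : ∃ χ₀, m χ₀ ≠ 0 := by
    by_contra hall
    simp only [not_exists, not_not] at hall
    simp [hall] at hsum
  have hothers : ∀ χ, χ ≠ χ₀ → m χ = 0 := by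
    intro χ hχ
    by_contra hne
    have h1 : 1 ≤ m χ₀ * m χ₀ := by
      have := mul_self_pos.2 hχ₀
      omega
    have h2 : 1 ≤ m χ * m χ := by
      have := mul_self_pos.2 hne
      omega
    have h3 : m χ₀ * m χ₀ + m χ * m χ ≤ ∑ χ : IrrCharacter G, m χ * m χ := by
      have hsub : ({χ₀, χ} : Finset (IrrCharacter G)) ⊆ Finset.univ := Finset.subset_univ _
      have := Finset.sum_le_sum_of_subset_of_nonneg hsub
        (f := fun χ : IrrCharacter G => m χ * m χ) (fun i _ _ => mul_self_nonneg (m i))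
      rw [Finset.sum_pair (Ne.symm hχ)] at this
      exact this
    omega
  have hn0 : m χ₀ * m χ₀ = 1 := by
    rw [← hsum]
    rw [Finset.sum_eq_single χ₀]
    · intro b _ hb
      rw [hothers b hb, mul_zero]
    · intro h; exact absurd (Finset.mem_univ _) h
  have hfexp : ∀ g, f g = (m χ₀ : ℂ) * (χ₀ : G → ℂ) g := by
    intro g
    rw [hexp g, Finset.sum_eq_single χ₀]
    · intro b _ hb
      rw [hothers b hb]; simp
    · intro h; exact absurd (Finset.mem_univ _) h
  refine ⟨χ₀, (m χ₀ : ℂ), ?_, hfexp⟩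
  rcases Int.eq_one_or_neg_one_of_mul_eq_one hn0 with h | h
  · left; rw [h]; simp
  · right; rw [h]; simp

end Cfsg.Agent.Lib.helper81
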