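import Mathlib

/-!
# Combinatorics of the Gram matrix for the dihedral principal block (helper81)
-/

set_option autoImplicit false

namespace Cfsg.Agent.Lib.helper81

section DihComb

variable {ι : Type*} [Fintype ι] [DecidableEq ι]

/-- Peel off one `±1` coefficient from a vector of small norm. -/
theorem dihc_peel (s : Finset ι) (b : ι → ℤ) (k : ℕ)
    (hk : ∑ x ∈ s, b x * b x = (k : ℤ) + 1) (hk3 : k ≤ 2) :
    ∃ x ∈ s, (b x = 1 ∨ b x = -1) ∧ ∑ y ∈ s.erase x, b y * b y = k := by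
  have hex : ∃ x ∈ s, b x ≠ 0 := by
    by_contra hcon
    have hcon' : ∀ x ∈ s, b x = 0 := by
      intro x hx
      by_contra h0
      exact hcon ⟨x, hx, h0⟩
    rw [Finset.sum_eq_zero (fun x hx => by rw [hcon' x hx, mul_zero])] at hk
    omega
  obtain ⟨x, hx, hbx⟩ := hex
  have hle : b x * b x ≤ ∑ y ∈ s, b y * b y :=
    Finset.single_le_sum (f := fun y => b y * b y) (fun y _ => mul_self_nonneg (b y)) hx
  have hk' : (k : ℤ) ≤ 2 := by exact_mod_cast hk3
  have hb1 : b x = 1 ∨ b x = -1 := by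
    have h1 : b x * b x ≤ 3 := by linarith
    have h2 : -1 ≤ b x := by nlinarith
    have h3 : b x ≤ 1 := by nlinarith
    omega
  refine ⟨x, hx, hb1, ?_⟩
  have h4 : b x * b x + ∑ y ∈ s.erase x, b y * b y = ∑ y ∈ s, b y * b y :=
    Finset.add_sum_erase s (fun y => b y * b y) hx
  have h5 : b x * b x = 1 := by rcases hb1 with h | h <;> rw [h] <;> norm_num
  rw [hk, h5] at h4
  linarith

theorem dihc_zero (s : Finset ι) (b : ι → ℤ) (h : ∑ x ∈ s, b x * b x = 0) :
    ∀ x ∈ s, b x = 0 := by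
  intro x hx
  have h1 := (Finset.sum_eq_zero_iff_of_nonneg (fun y _ => mul_self_nonneg (b y))).mp h x hx
  exact mul_self_eq_zero.mp h1

theorem dihc_sum_three (f : ι → ℤ) (u v w : ι) (huv : u ≠ v) (huw : u ≠ w) (hvw : v ≠ w) :
    ∑ x, f x = f u + f v + f w + ∑ x ∈ ((Finset.univ.erase u).erase v).erase w, f x := by
  have h1 := Finset.add_sum_erase Finset.univ f (Finset.mem_univ u)
  have h2 := Finset.add_sum_erase (Finset.univ.erase u) f
    (Finset.mem_erase.mpr ⟨huv.symm, Finset.mem_univ v⟩)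
  have h3 := Finset.add_sum_erase ((Finset.univ.erase u).erase v) f
    (Finset.mem_erase.mpr ⟨hvw.symm, Finset.mem_erase.mpr ⟨huw.symm, Finset.mem_univ w⟩⟩)
  linarith

/-- A vector of norm two with "degree" `-1` is a difference of two basis vectors. -/
theorem dihc_two (b d : ι → ℤ) (hd : ∀ x, 0 < d x) (h2 : ∑ x, b x * b x = 2)
    (hD : ∑ x, b x * d x = -1) :
    ∃ A B : ι, A ≠ B ∧ ∀ x, b x = (if x = A then 1 else 0) - (if x = B then 1 else 0) := by
  obtain ⟨x₀, -, h0, hr0⟩ := dihc_peel Finset.univ b 1 (by rw [h2]; norm_num) (by norm_num)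
  obtain ⟨x₁, hx₁, h1, hr1⟩ := dihc_peel (Finset.univ.erase x₀) b 0 (by rw [hr0]; norm_num)
    (by norm_num)
  have hne : x₁ ≠ x₀ := Finset.ne_of_mem_erase hx₁
  have hz := dihc_zero _ b (by exact_mod_cast hr1)
  have hrest : ∀ x, x ≠ x₀ → x ≠ x₁ → b x = 0 := by
    intro x hx0 hx1
    apply hz
    simp [hx0, hx1]
  have hsum : ∑ x, b x * d x = b x₀ * d x₀ + b x₁ * d x₁ := by
    apply Fintype.sum_eq_add x₀ x₁ hne.symm
    intro x hx
    rw [hrest x hx.1 hx.2, zero_mul]
  rw [hsum] at hD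
  have hd0 := hd x₀
  have hd1 := hd x₁
  rcases h0 with h0 | h0 <;> rcases h1 with h1 | h1
  · rw [h0, h1] at hD
    omega
  · refine ⟨x₀, x₁, hne.symm, ?_⟩
    intro x
    by_cases hx0 : x = x₀
    · rw [hx0, if_pos rfl, if_neg hne.symm, h0]
      norm_num
    · by_cases hx1 : x = x₁
      · rw [hx1, if_neg hne, if_pos rfl, h1]
        norm_num
      · rw [if_neg hx0, if_neg hx1, hrest x hx0 hx1]
        norm_num
  · refine ⟨x₁, x₀, hne, ?_⟩
    intro x
    by_cases hx0 : x = x₀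
    · rw [hx0, if_neg hne.symm, if_pos rfl, h0]
      norm_num
    · by_cases hx1 : x = x₁
      · rw [hx1, if_pos rfl, if_neg hne, h1]
        norm_num
      · rw [if_neg hx0, if_neg hx1, hrest x hx0 hx1]
        norm_num
  · rw [h0, h1] at hD
    omega

theorem dihc_sum_pair (b c : ι → ℤ) (A B : ι)
    (hb : ∀ x, b x = (if x = A then 1 else 0) - (if x = B then 1 else 0)) :
    ∑ x, b x * c x = c A - c B := by
  simp_rw [hb, sub_mul, ite_mul, one_mul, zero_mul]
  rw [Finset.sum_sub_distrib, Finset.sum_ite_eq', Finset.sum_ite_eq']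
  simp

/-- A norm-three vector with three equal-sign coefficients cannot have "degree" `-1`. -/
theorem dihc_three_contra (c d : ι → ℤ) (hd : ∀ x, 0 < d x) (h3 : ∑ x, c x * c x = 3)
    (hD : ∑ x, c x * d x = -1) (u v w : ι) (huv : u ≠ v) (huw : u ≠ w) (hvw : v ≠ w)
    (h : (c u = 1 ∧ c v = 1 ∧ c w = 1) ∨ (c u = -1 ∧ c v = -1 ∧ c w = -1)) : False := by
  have e1 : ∑ x, c x * c x = c u * c u + c v * c v + c w * c w +
      ∑ x ∈ ((Finset.univ.erase u).erase v).erase w, c x * c x :=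
    dihc_sum_three (fun x => c x * c x) u v w huv huw hvw
  have e2 : ∑ x, c x * d x = c u * d u + c v * d v + c w * d w +
      ∑ x ∈ ((Finset.univ.erase u).erase v).erase w, c x * d x :=
    dihc_sum_three (fun x => c x * d x) u v w huv huw hvw
  rw [h3] at e1
  rw [hD] at e2
  have hrest : ∑ x ∈ ((Finset.univ.erase u).erase v).erase w, c x * c x = 0 := by
    rcases h with ⟨h1, h2, h3⟩ | ⟨h1, h2, h3⟩ <;> rw [h1, h2, h3] at e1 <;> linarith
  have hz := dihc_zero _ c hrest
  have hrest2 : ∑ x ∈ ((Finset.univ.erase u).erase v).erase w, c x * d x = 0 :=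
    Finset.sum_eq_zero (fun x hx => by rw [hz x hx, zero_mul])
  rw [hrest2] at e2
  have hdu := hd u
  have hdv := hd v
  have hdw := hd w
  rcases h with ⟨h1, h2, h3⟩ | ⟨h1, h2, h3⟩ <;> rw [h1, h2, h3] at e2 <;> linarith

/-- The combinatorial classification of the Gram matrix `⟨Δ_j, Δ_k⟩`. -/
theorem dih_comb (m : ℕ) (hm : m = 2 ∨ 4 ≤ m) (a : ℕ → ι → ℤ) (d : ι → ℤ) (hd : ∀ x, 0 < d x)
    (hG1 : ∀ j k, 1 ≤ j → j ≤ m → 1 ≤ k → k ≤ m → j ≠ k → ∑ x, a j x * a k x = 1)
    (hG2 : ∀ j, 1 ≤ j → j < m → ∑ x, a j x * a j x = 2)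
    (hG3 : ∑ x, a m x * a m x = 3)
    (hD : ∀ j, 1 ≤ j → j ≤ m → ∑ x, a j x * d x = -1) :
    ∃ (x₁ x₂ x₃ : ι) (y : ℕ → ι) (δ₁ δ₂ δ₃ : ℤ), (δ₁ = 1 ∨ δ₁ = -1) ∧ (δ₂ = 1 ∨ δ₂ = -1) ∧
      (δ₃ = 1 ∨ δ₃ = -1) ∧ x₁ ≠ x₂ ∧ x₁ ≠ x₃ ∧ x₂ ≠ x₃ ∧
      (∀ j, 1 ≤ j → j < m → y j ≠ x₁ ∧ y j ≠ x₂ ∧ y j ≠ x₃) ∧
      (∀ j k, 1 ≤ j → j < m → 1 ≤ k → k < m → y j = y k → j = k) ∧
      (∀ j, 1 ≤ j → j < m → ∀ x,
        a j x = (if x = x₁ then δ₁ else 0) - (if x = y j then δ₁ else 0)) ∧
      (∀ x, a m x = (if x = x₁ then δ₁ else 0) + (if x = x₂ then δ₂ else 0) +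
        (if x = x₃ then δ₃ else 0)) := by
  have hAB : ∀ j, 1 ≤ j → j < m → ∃ A B : ι, A ≠ B ∧
      ∀ x, a j x = (if x = A then 1 else 0) - (if x = B then 1 else 0) :=
    fun j h1 h2 => dihc_two (a j) d hd (hG2 j h1 h2) (hD j h1 h2.le)
  have hnonempty : Nonempty ι := by
    by_contra h
    rw [not_nonempty_iff] at h
    simp at hG3
  choose! A B hABne hABf using hAB
  have hc : ∀ j, 1 ≤ j → j < m → a m (A j) - a m (B j) = 1 := by
    intro j h1 h2
    rw [← dihc_sum_pair (a j) (a m) (A j) (B j) (hABf j h1 h2)]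
    exact hG1 j m h1 h2.le (by omega) le_rfl (by omega)
  have hcb : ∀ x, -1 ≤ a m x ∧ a m x ≤ 1 := by
    intro x
    have hle : a m x * a m x ≤ ∑ y, a m y * a m y :=
      Finset.single_le_sum (f := fun y => a m y * a m y) (fun y _ => mul_self_nonneg _)
        (Finset.mem_univ x)
    rw [hG3] at hle
    constructor <;> nlinarith
  have hpair : ∀ j k, 1 ≤ j → j < m → 1 ≤ k → k < m → j ≠ k →
      (A j = A k ∧ B j ≠ B k) ∨ (A j ≠ A k ∧ B j = B k) := by
    intro j k hj1 hj2 hk1 hk2 hjk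
    have h := hG1 j k hj1 hj2.le hk1 hk2.le hjk
    rw [dihc_sum_pair (a j) (a k) (A j) (B j) (hABf j hj1 hj2), hABf k hk1 hk2,
      hABf k hk1 hk2] at h
    have hj := hABne j hj1 hj2
    have hk := hABne k hk1 hk2
    by_cases e1 : A j = A k <;> by_cases e2 : B j = B k
    · have e3 : A j ≠ B k := by
        rw [← e2]
        exact hj
      have e4 : B j ≠ A k := by
        rw [← e1]
        exact hj.symm
      rw [if_pos e1, if_neg e3, if_neg e4, if_pos e2] at h
      omega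
    · exact Or.inl ⟨e1, e2⟩
    · exact Or.inr ⟨e1, e2⟩
    · rw [if_neg e1, if_neg e2] at h
      split_ifs at h <;> omega
  -- the common constituent
  have hcase : ∃ (x₁ : ι) (δ₁ : ℤ), a m x₁ = δ₁ ∧
      ((δ₁ = 1 ∧ ∀ j, 1 ≤ j → j < m → x₁ = A j) ∨
        (δ₁ = -1 ∧ ∀ j, 1 ≤ j → j < m → x₁ = B j)) := by
    rcases hm with hm | hm
    · have h1 := hc 1 le_rfl (by omega)
      have hb1 := hcb (A 1)
      have hb2 := hcb (B 1)
      by_cases hA : a m (A 1) = 1
      · refine ⟨A 1, 1, hA, Or.inl ⟨rfl, ?_⟩⟩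
        intro j hj1 hj2
        have hj : j = 1 := by omega
        rw [hj]
      · refine ⟨B 1, -1, by omega, Or.inr ⟨rfl, ?_⟩⟩
        intro j hj1 hj2
        have hj : j = 1 := by omega
        rw [hj]
    · rcases hpair 1 2 le_rfl (by omega) (by omega) (by omega) (by omega) with
        ⟨hA12, hB12⟩ | ⟨hA12, hB12⟩
      · have hall : ∀ k, 1 ≤ k → k < m → A 1 = A k := by
          intro k hk1 hk2
          by_cases e1 : k = 1
          · rw [e1]
          by_cases e2 : k = 2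
          · rw [e2, hA12]
          rcases hpair 1 k le_rfl (by omega) hk1 hk2 (fun h => e1 h.symm) with ⟨h, -⟩ | ⟨-, h⟩
          · exact h
          · rcases hpair 2 k (by omega) (by omega) hk1 hk2 (fun h => e2 h.symm) with
              ⟨h', -⟩ | ⟨-, h'⟩
            · rw [hA12, h']
            · exact absurd (h.trans h'.symm) hB12
        by_cases hX : a m (A 1) = 1
        · exact ⟨A 1, 1, hX, Or.inl ⟨rfl, hall⟩⟩
        · exfalso
          have hBv : ∀ j, 1 ≤ j → j < m → a m (B j) = -1 := by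
            intro j hj1 hj2
            have h := hc j hj1 hj2
            rw [← hall j hj1 hj2] at h
            have hb1 := hcb (A 1)
            have hb2 := hcb (B j)
            omega
          have hBne : ∀ j k, 1 ≤ j → j < m → 1 ≤ k → k < m → j ≠ k → B j ≠ B k := by
            intro j k hj1 hj2 hk1 hk2 hjk
            rcases hpair j k hj1 hj2 hk1 hk2 hjk with ⟨-, h⟩ | ⟨h, -⟩
            · exact h
            · exact absurd ((hall j hj1 hj2).symm.trans (hall k hk1 hk2)) h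
          exact dihc_three_contra (a m) d hd hG3 (hD m (by omega) le_rfl) (B 1) (B 2) (B 3)
            (hBne 1 2 le_rfl (by omega) (by omega) (by omega) (by omega))
            (hBne 1 3 le_rfl (by omega) (by omega) (by omega) (by omega))
            (hBne 2 3 (by omega) (by omega) (by omega) (by omega) (by omega))
            (Or.inr ⟨hBv 1 le_rfl (by omega), hBv 2 (by omega) (by omega),
              hBv 3 (by omega) (by omega)⟩)
      · have hall : ∀ k, 1 ≤ k → k < m → B 1 = B k := by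
          intro k hk1 hk2
          by_cases e1 : k = 1
          · rw [e1]
          by_cases e2 : k = 2
          · rw [e2, hB12]
          rcases hpair 1 k le_rfl (by omega) hk1 hk2 (fun h => e1 h.symm) with ⟨h, -⟩ | ⟨-, h⟩
          · rcases hpair 2 k (by omega) (by omega) hk1 hk2 (fun h => e2 h.symm) with
              ⟨h', -⟩ | ⟨-, h'⟩
            · exact absurd (h.trans h'.symm) hA12
            · rw [hB12, h']
          · exact h
        by_cases hX : a m (B 1) = -1
        · exact ⟨B 1, -1, hX, Or.inr ⟨rfl, hall⟩⟩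
        · exfalso
          have hAv : ∀ j, 1 ≤ j → j < m → a m (A j) = 1 := by
            intro j hj1 hj2
            have h := hc j hj1 hj2
            rw [← hall j hj1 hj2] at h
            have hb1 := hcb (B 1)
            have hb2 := hcb (A j)
            omega
          have hAne : ∀ j k, 1 ≤ j → j < m → 1 ≤ k → k < m → j ≠ k → A j ≠ A k := by
            intro j k hj1 hj2 hk1 hk2 hjk
            rcases hpair j k hj1 hj2 hk1 hk2 hjk with ⟨-, h⟩ | ⟨h, -⟩
            · exact absurd ((hall j hj1 hj2).symm.trans (hall k hk1 hk2)) h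
            · exact h
          exact dihc_three_contra (a m) d hd hG3 (hD m (by omega) le_rfl) (A 1) (A 2) (A 3)
            (hAne 1 2 le_rfl (by omega) (by omega) (by omega) (by omega))
            (hAne 1 3 le_rfl (by omega) (by omega) (by omega) (by omega))
            (hAne 2 3 (by omega) (by omega) (by omega) (by omega) (by omega))
            (Or.inl ⟨hAv 1 le_rfl (by omega), hAv 2 (by omega) (by omega),
              hAv 3 (by omega) (by omega)⟩)
  obtain ⟨x₁, δ₁, hcx, hcase⟩ := hcase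
  have hδ₁ : δ₁ = 1 ∨ δ₁ = -1 := by
    rcases hcase with ⟨h, -⟩ | ⟨h, -⟩
    · exact Or.inl h
    · exact Or.inr h
  -- the other two constituents of the last vector
  have hsq : ∑ x ∈ Finset.univ.erase x₁, a m x * a m x = ((1 : ℕ) : ℤ) + 1 := by
    have h : a m x₁ * a m x₁ + ∑ x ∈ Finset.univ.erase x₁, a m x * a m x =
        ∑ x, a m x * a m x :=
      Finset.add_sum_erase Finset.univ (fun x => a m x * a m x) (Finset.mem_univ x₁)
    rw [hG3, hcx] at h
    have h' : δ₁ * δ₁ = 1 := by rcases hδ₁ with h | h <;> rw [h] <;> norm_num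
    push_cast
    linarith
  obtain ⟨x₂, hx₂, h2, hr2⟩ := dihc_peel _ (a m) 1 hsq (by norm_num)
  obtain ⟨x₃, hx₃, h3, hr3⟩ := dihc_peel _ (a m) 0 (by rw [hr2]; norm_num) (by norm_num)
  have hz := dihc_zero _ (a m) (by exact_mod_cast hr3)
  have h21 : x₂ ≠ x₁ := Finset.ne_of_mem_erase hx₂
  have h32 : x₃ ≠ x₂ := Finset.ne_of_mem_erase hx₃
  have h31 : x₃ ≠ x₁ := Finset.ne_of_mem_erase (Finset.mem_of_mem_erase hx₃)
  have hcf : ∀ x, a m x = (if x = x₁ then δ₁ else 0) + (if x = x₂ then a m x₂ else 0) +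
      (if x = x₃ then a m x₃ else 0) := by
    intro x
    by_cases e1 : x = x₁
    · rw [e1, if_pos rfl, if_neg h21.symm, if_neg h31.symm, hcx]
      ring
    · by_cases e2 : x = x₂
      · rw [e2, if_neg h21, if_pos rfl, if_neg h32.symm]
        ring
      · by_cases e3 : x = x₃
        · rw [e3, if_neg h31, if_neg h32, if_pos rfl]
          ring
        · rw [if_neg e1, if_neg e2, if_neg e3, hz x (by simp [e1, e2, e3])]
          ring
  have hzero_ne : ∀ w, a m w = 0 → w ≠ x₂ ∧ w ≠ x₃ := by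
    intro w hw
    constructor
    · intro h
      rw [h] at hw
      rcases h2 with h2 | h2 <;> rw [h2] at hw <;> norm_num at hw
    · intro h
      rw [h] at hw
      rcases h3 with h3 | h3 <;> rw [h3] at hw <;> norm_num at hw
  rcases hcase with ⟨hδ, hxA⟩ | ⟨hδ, hxB⟩
  · refine ⟨x₁, x₂, x₃, B, δ₁, a m x₂, a m x₃, hδ₁, h2, h3, h21.symm, h31.symm, h32.symm,
      ?_, ?_, ?_, hcf⟩
    · intro j hj1 hj2
      have hcj := hc j hj1 hj2
      rw [← hxA j hj1 hj2, hcx, hδ] at hcj
      have h0 : a m (B j) = 0 := by omega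
      refine ⟨?_, (hzero_ne _ h0).1, (hzero_ne _ h0).2⟩
      rw [hxA j hj1 hj2]
      exact (hABne j hj1 hj2).symm
    · intro j k hj1 hj2 hk1 hk2 hjk
      by_contra hne
      rcases hpair j k hj1 hj2 hk1 hk2 hne with ⟨-, h⟩ | ⟨h, -⟩
      · exact h hjk
      · exact h ((hxA j hj1 hj2).symm.trans (hxA k hk1 hk2))
    · intro j hj1 hj2 x
      rw [hABf j hj1 hj2 x, hxA j hj1 hj2, hδ]
  · refine ⟨x₁, x₂, x₃, A, δ₁, a m x₂, a m x₃, hδ₁, h2, h3, h21.symm, h31.symm, h32.symm,
      ?_, ?_, ?_, hcf⟩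
    · intro j hj1 hj2
      have hcj := hc j hj1 hj2
      rw [← hxB j hj1 hj2, hcx, hδ] at hcj
      have h0 : a m (A j) = 0 := by omega
      refine ⟨?_, (hzero_ne _ h0).1, (hzero_ne _ h0).2⟩
      rw [hxB j hj1 hj2]
      exact hABne j hj1 hj2
    · intro j k hj1 hj2 hk1 hk2 hjk
      by_contra hne
      rcases hpair j k hj1 hj2 hk1 hk2 hne with ⟨-, h⟩ | ⟨h, -⟩
      · exact h ((hxB j hj1 hj2).symm.trans (hxB k hk1 hk2))
      · exact h hjk
    · intro j hj1 hj2 x
      rw [hABf j hj1 hj2 x, hxB j hj1 hj2, hδ]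
      split_ifs <;> norm_num

end DihComb

end Cfsg.Agent.Lib.helper81
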