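import Mathlib
import Cfsg.Agent.Lib.helper81.DihChar

/-!
# Brauer's order formula for groups with dihedral Sylow 2-subgroups and one class of
involutions (helper81)
-/

set_option autoImplicit false

namespace Cfsg.Agent.Lib.helper81

open Cfsg Cfsg.Agent.Lib.helper83 Cfsg.Agent.Lib.helper84 Cfsg.Agent.Lib.helper19
  Cfsg.Agent.Lib.helper4
open scoped ComplexConjugate

universe u

variable {G : Type u} [Group G] {σ τ : G} {n : ℕ} {ζ : ℂ} {H : Subgroup G} {lam : ↥H →* ℂˣ}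

open Classical in
/-- The indicator function of the conjugacy class of `z`. -/
noncomputable def dihInd (z a : G) : ℂ := if IsConj z a then 1 else 0

theorem dihInd_pos {z a : G} (h : IsConj z a) : dihInd z a = 1 := by
  unfold dihInd
  rw [if_pos h]

theorem dihInd_neg {z a : G} (h : ¬ IsConj z a) : dihInd z a = 0 := by
  unfold dihInd
  rw [if_neg h]

theorem dihInd_conj (z a x : G) : dihInd z (x * a * x⁻¹) = dihInd z a := by
  have h : IsConj z (x * a * x⁻¹) ↔ IsConj z a := by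
    constructor
    · intro h1
      exact h1.trans (isConj_iff.mpr ⟨x⁻¹, by group⟩)
    · intro h1
      exact h1.trans (isConj_iff.mpr ⟨x, rfl⟩)
  by_cases h1 : IsConj z a
  · rw [dihInd_pos h1, dihInd_pos (h.mpr h1)]
  · rw [dihInd_neg h1, dihInd_neg (fun h2 => h1 (h.mp h2))]

theorem dih_classProd_eq [Fintype G] (z g : G) :
    classProd z g = ∑ a : G, dihInd z a * dihInd z (a⁻¹ * g) := by
  unfold classProd
  refine Finset.sum_congr rfl fun a _ => ?_
  by_cases h1 : IsConj z a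
  · by_cases h2 : IsConj z (a⁻¹ * g)
    · rw [if_pos ⟨h1, h2⟩, dihInd_pos h1, dihInd_pos h2, mul_one]
    · rw [if_neg (fun h => h2 h.2), dihInd_neg h2, mul_zero]
  · rw [if_neg (fun h => h1 h.1), dihInd_neg h1, zero_mul]

/-- Reduction of the class-algebra sum against an induced function. -/
theorem dih_classProd_ind [Fintype G] (z : G) (H : Subgroup G) (α : ↥H → ℂ) :
    ∑ g : G, classProd z g * indFun H α g =
      (Nat.card H : ℂ)⁻¹ * ((Nat.card G : ℂ) *
        ∑ a : G, ∑ b : G, dihInd z a * dihInd z b * extendByZero H α (a * b)) := by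
  classical
  have h1 : ∑ g : G, classProd z g * indFun H α g =
      ∑ a : G, ∑ b : G, dihInd z a * dihInd z b * indFun H α (a * b) := by
    simp_rw [dih_classProd_eq, Finset.sum_mul]
    rw [Finset.sum_comm]
    refine Finset.sum_congr rfl fun a _ => ?_
    rw [← Equiv.sum_comp (Equiv.mulLeft a)]
    refine Finset.sum_congr rfl fun b _ => ?_
    simp
  rw [h1]
  simp_rw [Cfsg.Agent.Lib.helper19.indFun_apply]
  have h2 : ∀ x : G, ∑ a : G, ∑ b : G,
      dihInd z a * dihInd z b * extendByZero H α (x⁻¹ * (a * b) * x) =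
      ∑ a : G, ∑ b : G, dihInd z a * dihInd z b * extendByZero H α (a * b) := by
    intro x
    rw [← Equiv.sum_comp (MulAut.conj x).toEquiv]
    refine Finset.sum_congr rfl fun a _ => ?_
    rw [← Equiv.sum_comp (MulAut.conj x).toEquiv]
    refine Finset.sum_congr rfl fun b _ => ?_
    simp only [MulEquiv.toEquiv_eq_coe, EquivLike.coe_coe, MulAut.conj_apply]
    rw [dihInd_conj, dihInd_conj]
    congr 2
    group
  calc ∑ a : G, ∑ b : G, dihInd z a * dihInd z b *
        ((Nat.card H : ℂ)⁻¹ * ∑ x : G, extendByZero H α (x⁻¹ * (a * b) * x))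
      = (Nat.card H : ℂ)⁻¹ * ∑ x : G, ∑ a : G, ∑ b : G,
          dihInd z a * dihInd z b * extendByZero H α (x⁻¹ * (a * b) * x) := by
        have hL : ∀ a b : G, dihInd z a * dihInd z b *
            ((Nat.card H : ℂ)⁻¹ * ∑ x : G, extendByZero H α (x⁻¹ * (a * b) * x)) =
            ∑ x : G, (Nat.card H : ℂ)⁻¹ *
              (dihInd z a * dihInd z b * extendByZero H α (x⁻¹ * (a * b) * x)) := by
          intro a b
          rw [Finset.mul_sum, Finset.mul_sum]
          refine Finset.sum_congr rfl fun x _ => ?_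
          ring
        simp_rw [hL, Finset.mul_sum]
        calc ∑ a : G, ∑ b : G, ∑ x : G, (Nat.card H : ℂ)⁻¹ *
              (dihInd z a * dihInd z b * extendByZero H α (x⁻¹ * (a * b) * x))
            = ∑ a : G, ∑ x : G, ∑ b : G, (Nat.card H : ℂ)⁻¹ *
              (dihInd z a * dihInd z b * extendByZero H α (x⁻¹ * (a * b) * x)) :=
              Finset.sum_congr rfl (fun a _ => Finset.sum_comm)
          _ = _ := Finset.sum_comm
    _ = (Nat.card H : ℂ)⁻¹ * ∑ x : G, ∑ a : G, ∑ b : G,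
          dihInd z a * dihInd z b * extendByZero H α (a * b) := by
        rw [Finset.sum_congr rfl (fun x _ => h2 x)]
    _ = _ := by
        rw [Finset.sum_const, Finset.card_univ, nsmul_eq_mul, ← Nat.card_eq_fintype_card]

/-- The count of pairs of involutions, weighted by `1 - μ`. -/
theorem DihLocal.count_T [Fintype G] (D : DihLocal σ τ n ζ H lam) (μ : ↥H →* ℂˣ)
    (hμinv : ∀ h h' : ↥H, (h' : G) = τ * (h : G) * τ⁻¹ → μ h' = (μ h)⁻¹)
    (hμodd : ∀ h : ↥H, Odd (orderOf (h : G)) → μ h = 1)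
    (hμσ : ∀ hσ : σ ∈ H, ((μ ⟨σ, hσ⟩ : ℂˣ) : ℂ) ^ 2 = -1)
    (hK : ∀ x : G, orderOf x = 2 → IsConj (σ ^ (2 ^ (n - 2))) x) :
    ∑ a : G, ∑ b : G, dihInd (σ ^ (2 ^ (n - 2))) a * dihInd (σ ^ (2 ^ (n - 2))) b *
        extendByZero H (fun x : ↥H => 1 - (μ x : ℂ)) (a * b) =
      (Nat.card {a : G // a ∈ Subgroup.centralizer ({σ ^ (2 ^ (n - 2))} : Set G) ∧ a ∉ H ∧
        a * a = 1} : ℂ) ^ 2 := by
  classical
  obtain ⟨pJ, hpJ⟩ : ∃ pJ : G → Prop, pJ = fun a =>
      (a ∈ Subgroup.centralizer ({σ ^ (2 ^ (n - 2))} : Set G) ∧ a ∉ H ∧ a * a = 1) := ⟨_, rfl⟩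
  have hpJ' : ∀ a, pJ a ↔
      (a ∈ Subgroup.centralizer ({σ ^ (2 ^ (n - 2))} : Set G) ∧ a ∉ H ∧ a * a = 1) := by
    intro a
    rw [hpJ]
  have hz2 : σ ^ (2 ^ (n - 2)) * σ ^ (2 ^ (n - 2)) = 1 := by
    have := pow_orderOf_eq_one (σ ^ (2 ^ (n - 2)))
    rwa [D.hz, pow_two] at this
  have hz1 : σ ^ (2 ^ (n - 2)) ≠ 1 := by
    intro h
    have := D.hz
    rw [h, orderOf_one] at this
    omega
  have hconj2 : ∀ a, IsConj (σ ^ (2 ^ (n - 2))) a → a * a = 1 ∧ a ≠ 1 := by
    intro a h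
    obtain ⟨c, hc⟩ := isConj_iff.mp h
    subst hc
    constructor
    · calc c * σ ^ (2 ^ (n - 2)) * c⁻¹ * (c * σ ^ (2 ^ (n - 2)) * c⁻¹)
          = c * (σ ^ (2 ^ (n - 2)) * σ ^ (2 ^ (n - 2))) * c⁻¹ := by group
        _ = 1 := by rw [hz2]; group
    · intro h1
      apply hz1
      calc σ ^ (2 ^ (n - 2)) = c⁻¹ * (c * σ ^ (2 ^ (n - 2)) * c⁻¹) * c := by group
        _ = 1 := by rw [h1]; group
  have hJconj : ∀ a, pJ a → IsConj (σ ^ (2 ^ (n - 2))) a := by
    intro a ha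
    rw [hpJ'] at ha
    exact hK a (orderOf_eq_prime (by rw [pow_two]; exact ha.2.2)
      (fun h1 => ha.2.1 (h1 ▸ H.one_mem)))
  have hτa : ∀ a, pJ a → τ * a ∈ H := by
    intro a ha
    rw [hpJ'] at ha
    exact (D.hidx a ha.1).resolve_left ha.2.1
  obtain ⟨L, hL⟩ : ∃ L : G → ℂ, L = extendByZero H (fun x : ↥H => (μ x : ℂ)) := ⟨_, rfl⟩
  have hLmem : ∀ g (hg : g ∈ H), L g = (μ ⟨g, hg⟩ : ℂ) := by
    intro g hg
    rw [hL]
    exact extendByZero_coe H _ ⟨g, hg⟩
  have hab : ∀ a b, pJ a → pJ b → extendByZero H (fun x : ↥H => 1 - (μ x : ℂ)) (a * b) =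
      1 - conj (L (τ * a)) * L (τ * b) := by
    intro a b ha hb
    have h1 := hτa a ha
    have h2 := hτa b hb
    have hκ : τ * (τ * a) * τ⁻¹ ∈ H := D.hnorm τ D.hτC _ h1
    have e : a * b = τ * (τ * a) * τ⁻¹ * (τ * b) := by
      have : τ * (τ * a) * τ⁻¹ * (τ * b) = (τ * τ) * a * b := by group
      rw [this, D.hτsq, one_mul]
    have h3 : a * b ∈ H := by
      rw [e]
      exact H.mul_mem hκ h2
    have e' : (⟨a * b, h3⟩ : ↥H) = ⟨τ * (τ * a) * τ⁻¹, hκ⟩ * ⟨τ * b, h2⟩ := Subtype.ext e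
    rw [show a * b = ((⟨a * b, h3⟩ : ↥H) : G) from rfl, extendByZero_coe, e', map_mul,
      hμinv ⟨τ * a, h1⟩ ⟨_, hκ⟩ rfl, hLmem _ h1, hLmem _ h2, hom_conj_eq_inv, MonoidHom.inv_apply,
      Units.val_mul]
  have hzero : ∀ a b, ¬ (pJ a ∧ pJ b) →
      dihInd (σ ^ (2 ^ (n - 2))) a * dihInd (σ ^ (2 ^ (n - 2))) b *
        extendByZero H (fun x : ↥H => 1 - (μ x : ℂ)) (a * b) = 0 := by
    intro a b hnot
    by_cases hca : IsConj (σ ^ (2 ^ (n - 2))) a
    swap
    · rw [dihInd_neg hca, zero_mul, zero_mul]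
    by_cases hcb : IsConj (σ ^ (2 ^ (n - 2))) b
    swap
    · rw [dihInd_neg hcb, mul_zero, zero_mul]
    by_cases hmem : a * b ∈ H
    swap
    · rw [extendByZero_of_not_mem H _ _ hmem, mul_zero]
    rw [show a * b = ((⟨a * b, hmem⟩ : ↥H) : G) from rfl, extendByZero_coe]
    have hμ1 : μ ⟨a * b, hmem⟩ = 1 := by
      apply hμodd
      by_contra hne
      rw [Nat.not_odd_iff_even] at hne
      have hne' : Even (orderOf (a * b)) := hne
      apply hnot
      obtain ⟨ha2, ha1⟩ := hconj2 a hca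
      obtain ⟨hb2, hb1⟩ := hconj2 b hcb
      have ha' : a⁻¹ = a := inv_eq_of_mul_eq_one_left ha2
      have hb' : b⁻¹ = b := inv_eq_of_mul_eq_one_left hb2
      have hinv : a⁻¹ * (a * b) * a = (a * b)⁻¹ := by
        rw [mul_inv_rev, ha', hb', ← mul_assoc, ha2, one_mul]
      have haC := D.TI hmem hne' a (by rw [hinv]; exact H.inv_mem hmem)
      have hbC : b ∈ Subgroup.centralizer ({σ ^ (2 ^ (n - 2))} : Set G) := by
        have := Subgroup.mul_mem _ (Subgroup.inv_mem _ haC) (D.hHC hmem)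
        rwa [inv_mul_cancel_left] at this
      have hoa : orderOf a = 2 := orderOf_eq_prime (by rw [pow_two]; exact ha2) ha1
      have hob : orderOf b = 2 := orderOf_eq_prime (by rw [pow_two]; exact hb2) hb1
      have haH : a ∉ H := by
        intro haH
        have e1 := D.hinvol a haH hoa
        have hbH : b ∈ H := by
          have := H.mul_mem (H.inv_mem haH) hmem
          rwa [inv_mul_cancel_left] at this
        have e2 := D.hinvol b hbH hob
        have e3 : a * b = 1 := by rw [e1, e2]; exact hz2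
        rw [e3, orderOf_one] at hne'
        exact absurd hne' (by decide)
      have hbH : b ∉ H := by
        intro hbH
        apply haH
        have := H.mul_mem hmem (H.inv_mem hbH)
        rwa [mul_inv_cancel_right] at this
      rw [hpJ', hpJ']
      exact ⟨⟨haC, haH, ha2⟩, ⟨hbC, hbH, hb2⟩⟩
    rw [hμ1]
    simp
  obtain ⟨u, hu⟩ : ∃ u : G → ℂ, ∀ a, u a = if pJ a then 1 else 0 := ⟨_, fun _ => rfl⟩
  obtain ⟨w, hw⟩ : ∃ w : G → ℂ, ∀ a, w a = if pJ a then L (τ * a) else 0 := ⟨_, fun _ => rfl⟩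
  have hterm : ∀ a b, dihInd (σ ^ (2 ^ (n - 2))) a * dihInd (σ ^ (2 ^ (n - 2))) b *
      extendByZero H (fun x : ↥H => 1 - (μ x : ℂ)) (a * b) = u a * u b - conj (w a) * w b := by
    intro a b
    by_cases ha : pJ a
    · by_cases hb : pJ b
      · rw [dihInd_pos (hJconj a ha), dihInd_pos (hJconj b hb), hab a b ha hb, hu, hu, hw, hw,
          if_pos ha, if_pos hb, if_pos ha, if_pos hb]
        ring
      · rw [hzero a b (fun h => hb h.2), hu b, hw b, if_neg hb, if_neg hb]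
        simp
    · rw [hzero a b (fun h => ha h.1), hu a, hw a, if_neg ha, if_neg ha]
      simp
  have hσC : σ ∈ Subgroup.centralizer ({σ ^ (2 ^ (n - 2))} : Set G) := D.hHC D.hσH
  have hpJconj : ∀ b, pJ (σ * b * σ⁻¹) ↔ pJ b := by
    intro b
    rw [hpJ', hpJ']
    constructor
    · rintro ⟨h1, h2, h3⟩
      refine ⟨?_, ?_, ?_⟩
      · have := Subgroup.mul_mem _ (Subgroup.mul_mem _ (Subgroup.inv_mem _ hσC) h1) hσC
        have e : σ⁻¹ * (σ * b * σ⁻¹) * σ = b := by group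
        rwa [e] at this
      · intro hb
        exact h2 (D.hnorm σ hσC b hb)
      · have e : b * b = σ⁻¹ * ((σ * b * σ⁻¹) * (σ * b * σ⁻¹)) * σ := by group
        rw [e, h3]
        group
    · rintro ⟨h1, h2, h3⟩
      refine ⟨Subgroup.mul_mem _ (Subgroup.mul_mem _ hσC h1) (Subgroup.inv_mem _ hσC), ?_, ?_⟩
      · intro hb
        apply h2
        have := D.hnorm σ⁻¹ (Subgroup.inv_mem _ hσC) _ hb
        have e : σ⁻¹ * (σ * b * σ⁻¹) * σ⁻¹⁻¹ = b := by group
        rwa [e] at this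
      · have e : (σ * b * σ⁻¹) * (σ * b * σ⁻¹) = σ * (b * b) * σ⁻¹ := by group
        rw [e, h3]
        group
  have hwconj : ∀ b, w (σ * b * σ⁻¹) = - w b := by
    intro b
    rw [hw, hw]
    by_cases hb : pJ b
    · rw [if_pos ((hpJconj b).mpr hb), if_pos hb]
      have h1 := hτa b hb
      have hmem : τ * (σ * b * σ⁻¹) ∈ H := hτa _ ((hpJconj b).mpr hb)
      have e : (⟨τ * (σ * b * σ⁻¹), hmem⟩ : ↥H) =
          (⟨σ, D.hσH⟩ : ↥H)⁻¹ * ⟨τ * b, h1⟩ * (⟨σ, D.hσH⟩ : ↥H)⁻¹ := by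
        apply Subtype.ext
        show τ * (σ * b * σ⁻¹) = σ⁻¹ * (τ * b) * σ⁻¹
        have hτσ : τ * σ = σ⁻¹ * τ := by
          rw [← D.hrel]
          group
        calc τ * (σ * b * σ⁻¹) = (τ * σ) * b * σ⁻¹ := by group
          _ = σ⁻¹ * (τ * b) * σ⁻¹ := by rw [hτσ]; group
      rw [hLmem _ hmem, hLmem _ h1, e, map_mul, map_mul, map_inv]
      have h2 := hμσ D.hσH
      have hne : ((μ ⟨σ, D.hσH⟩ : ℂˣ) : ℂ) ≠ 0 := Units.ne_zero _
      push_cast
      field_simp
      linear_combination h2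
    · rw [if_neg (fun h => hb ((hpJconj b).mp h)), if_neg hb, neg_zero]
  have hS : ∑ b, w b = 0 := by
    have h1 : ∑ b, w (σ * b * σ⁻¹) = ∑ b, w b := by
      have := Equiv.sum_comp (MulAut.conj σ).toEquiv w
      simpa using this
    rw [Finset.sum_congr rfl (fun b _ => hwconj b), Finset.sum_neg_distrib] at h1
    linear_combination (-1 / 2 : ℂ) * h1
  have hcardJ : ∑ a, u a = (Nat.card {a : G // pJ a} : ℂ) := by
    simp_rw [hu]
    rw [Finset.sum_boole, Nat.card_eq_fintype_card, Fintype.card_subtype]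
  simp_rw [hterm, Finset.sum_sub_distrib, ← Finset.mul_sum, ← Finset.sum_mul]
  rw [hS, mul_zero, sub_zero, hcardJ, pow_two, hpJ]

end Cfsg.Agent.Lib.helper81
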