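import Mathlib
import Cfsg.Agent.Lib.helper81.DihOrder

/-!
# Brauer's order formula: the character-theoretic core (helper81)
-/

set_option autoImplicit false

namespace Cfsg.Agent.Lib.helper81

open Cfsg Cfsg.Agent.Lib.helper83 Cfsg.Agent.Lib.helper84 Cfsg.Agent.Lib.helper19
  Cfsg.Agent.Lib.helper4
open scoped ComplexConjugate

universe u

variable {G : Type u} [Group G] {σ τ : G} {n : ℕ} {ζ : ℂ} {H : Subgroup G} {lam : ↥H →* ℂˣ}

theorem dih_algebra (g c hH j f δ idx e x1 xz : ℂ) (hδ : δ = 1 ∨ δ = -1) (he : e = 1 ∨ e = -1)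
    (hg : g ≠ 0) (hc : c ≠ 0) (hH0 : hH ≠ 0) (hf : f ≠ 0) (hx1 : x1 ≠ 0) (hj : j ≠ 0)
    (E1 : c * idx = g) (E2 : 2 * hH = c) (hdeg : e * x1 = -(1 + δ * f)) (hz : (e * xz) ^ 2 = 4)
    (E3 : 1 * (idx * 1 / 1) ^ 2 + δ * (f * (idx * δ / f) ^ 2) + e * (x1 * (idx * xz / x1) ^ 2)
      = hH⁻¹ * (g * j ^ 2)) :
    f ≠ δ ∧ g * (f - δ) ^ 2 = 2 * f * (f + δ) * c * j ^ 2 := by
  have he0 : e ≠ 0 := by rcases he with rfl | rfl <;> norm_num
  have hA : 1 + δ * f ≠ 0 := by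
    intro h
    rw [h, neg_zero] at hdeg
    rcases mul_eq_zero.mp hdeg with h' | h'
    · exact he0 h'
    · exact hx1 h'
  have hx1' : x1 = -e * (1 + δ * f) := by
    rcases he with rfl | rfl
    · linear_combination hdeg
    · linear_combination -hdeg
  have hxz : xz ^ 2 = 4 := by
    rcases he with rfl | rfl <;> linear_combination hz
  have key : idx ^ 2 * (1 + δ / f - 4 / (1 + δ * f)) = hH⁻¹ * (g * j ^ 2) := by
    rw [← E3]
    have t2 : δ * (f * (idx * δ / f) ^ 2) = idx ^ 2 * (δ / f) := by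
      field_simp
      rcases hδ with rfl | rfl <;> ring
    have t3 : e * (x1 * (idx * xz / x1) ^ 2) = idx ^ 2 * (-4 / (1 + δ * f)) := by
      rw [hx1']
      field_simp
      linear_combination (-idx ^ 2) * hxz
    rw [t2, t3]
    ring
  have hidx : idx = g / c := by
    rw [eq_div_iff hc, mul_comm]
    exact E1
  have hHH : hH = c / 2 := by
    rw [eq_div_iff two_ne_zero]
    linear_combination E2
  rw [hidx, hHH] at key
  have main : g * (f - δ) ^ 2 = 2 * f * (f + δ) * c * j ^ 2 := by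
    field_simp at key
    rcases hδ with rfl | rfl
    · linear_combination key
    · linear_combination -key
  refine ⟨?_, main⟩
  intro hfe
  rw [hfe, sub_self] at main
  rcases hδ with rfl | rfl
  · have : (4 : ℂ) * c * j ^ 2 = 0 := by linear_combination -main
    simp [hc, hj] at this
  · have : (4 : ℂ) * c * j ^ 2 = 0 := by linear_combination -main
    simp [hc, hj] at this

theorem dih_inner_f [Fintype G] (θ χ ψ : G → ℂ) (δ : ℂ) :
    classInner (fun g => θ g - 1 - δ * χ g) ψ =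
      classInner θ ψ - classInner (fun _ => (1 : ℂ)) ψ - δ * classInner χ ψ := by
  simp only [classInner_def, sub_mul, Finset.sum_sub_distrib, mul_sub, mul_assoc,
    ← Finset.mul_sum]
  ring

/-- The order formula, in terms of the local data. -/
theorem DihLocal.order_formula [Fintype G] (D : DihLocal σ τ n ζ H lam)
    (hK : ∀ x : G, orderOf x = 2 → IsConj (σ ^ (2 ^ (n - 2))) x)
    (χ₁ : IrrCharacter G) (h1 : (χ₁ : G → ℂ) ≠ fun _ => 1) (δ : ℂ) (hδ : δ = 1 ∨ δ = -1)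
    (hval : ∀ h : ↥H, Even (orderOf (h : G)) → (χ₁ : G → ℂ) h = δ) :
    (χ₁ : G → ℂ) 1 ≠ δ ∧
      (Nat.card G : ℂ) * ((χ₁ : G → ℂ) 1 - δ) ^ 2 =
        2 * (χ₁ : G → ℂ) 1 * ((χ₁ : G → ℂ) 1 + δ) *
          (Nat.card (Subgroup.centralizer ({σ ^ (2 ^ (n - 2))} : Set G)) : ℂ) *
          (Nat.card {a : G // a ∈ Subgroup.centralizer ({σ ^ (2 ^ (n - 2))} : Set G) ∧ a ∉ H ∧
            a * a = 1} : ℂ) ^ 2 := by
  classical
  have hn := D.hn
  have hH0 : (Nat.card H : ℂ) ≠ 0 := by exact_mod_cast Nat.card_pos.ne'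
  have hδδ : δ * δ = 1 := by rcases hδ with rfl | rfl <;> norm_num
  have hδc : conj δ = δ := by rcases hδ with rfl | rfl <;> simp
  -- the character `μ` of order 4
  obtain ⟨μ, hμdef⟩ : ∃ μ : ↥H →* ℂˣ, μ = lam ^ (2 ^ (n - 3)) := ⟨_, rfl⟩
  have hμapp : ∀ h : ↥H, μ h = (lam h) ^ (2 ^ (n - 3)) := by
    intro h
    rw [hμdef, MonoidHom.pow_apply]
  have hμinv : ∀ h h' : ↥H, (h' : G) = τ * (h : G) * τ⁻¹ → μ h' = (μ h)⁻¹ := by
    intro h h' hh
    rw [hμapp, hμapp, D.hlaminv h h' hh, inv_pow]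
  have hμodd : ∀ h : ↥H, Odd (orderOf (h : G)) → μ h = 1 := by
    intro h hh
    rw [hμapp, D.hlamodd h hh, one_pow]
  have hζ2 : ζ ^ (2 ^ (n - 2)) = -1 := by
    have h2 : (ζ ^ (2 ^ (n - 2))) ^ 2 = 1 := by
      rw [← pow_mul, ← pow_succ, show n - 2 + 1 = n - 1 by omega]
      exact D.hζ.pow_eq_one
    have h3 : ζ ^ (2 ^ (n - 2)) ≠ 1 := by
      apply D.hζ.pow_ne_one_of_pos_of_lt (by positivity)
      apply Nat.pow_lt_pow_right (by norm_num) (by omega)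
    have h2' : ζ ^ (2 ^ (n - 2)) * ζ ^ (2 ^ (n - 2)) = 1 := by
      rw [← pow_two]
      exact h2
    rcases mul_self_eq_one_iff.mp h2' with h4 | h4
    · exact absurd h4 h3
    · exact h4
  have hμσ : ∀ hσ : σ ∈ H, ((μ ⟨σ, hσ⟩ : ℂˣ) : ℂ) ^ 2 = -1 := by
    intro hσ
    rw [hμapp, Units.val_pow_eq_pow_val, D.hlamσ hσ, ← pow_mul, ← pow_succ,
      show n - 3 + 1 = n - 2 by omega]
    exact hζ2
  have hμ1 : μ ≠ 1 := by
    intro h
    have h2 := hμσ D.hσH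
    rw [h] at h2
    norm_num at h2
  -- the generalized character `θ`
  obtain ⟨θ, hθdef⟩ : ∃ θ : G → ℂ, θ = indFun H (fun x : ↥H => 1 - (μ x : ℂ)) := ⟨_, rfl⟩
  have hθcf : IsClassFunction G θ := by
    rw [hθdef]
    exact indFun_isClassFunction H _
  have hθθ : classInner θ θ = 3 := by
    rw [hθdef, D.inner_ind_ind μ μ hμinv hμodd hμ1 hμ1, if_pos rfl]
    have hne : μ ≠ μ⁻¹ := by
      intro h
      have h2 := hμσ D.hσH
      have h3 : μ ⟨σ, D.hσH⟩ = (μ ⟨σ, D.hσH⟩)⁻¹ := by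
        conv_lhs => rw [h]
        rfl
      have h4 : (μ ⟨σ, D.hσH⟩) ^ 2 = 1 := by
        rw [pow_two]
        nth_rewrite 1 [h3]
        exact inv_mul_cancel _
      have h5 : ((μ ⟨σ, D.hσH⟩ : ℂˣ) : ℂ) ^ 2 = 1 := by
        rw [← Units.val_pow_eq_pow_val, h4]
        rfl
      rw [h5] at h2
      norm_num at h2
    rw [if_neg hne]
    norm_num
  have hθ1 : classInner θ (fun _ => (1 : ℂ)) = 1 := by
    rw [hθdef]
    exact dih_inner_ind_one μ hμ1
  have hθχ : classInner θ (χ₁ : G → ℂ) = δ := by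
    rw [hθdef, dih_inner_ind μ _ (isClassFunction_irr χ₁)]
    have hterm : ∀ h : ↥H, (1 - (μ h : ℂ)) * conj ((χ₁ : G → ℂ) h) = δ * (1 - (μ h : ℂ)) := by
      intro h
      rcases Nat.even_or_odd (orderOf (h : G)) with he | ho
      · rw [hval h he, hδc]
        ring
      · rw [hμodd h ho]
        simp
    rw [Finset.sum_congr rfl (fun h _ => hterm h), ← Finset.mul_sum, Finset.sum_sub_distrib,
      dih_sum_hom μ, if_neg hμ1, Finset.sum_const, Finset.card_univ, nsmul_eq_mul,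
      ← Nat.card_eq_fintype_card]
    field_simp
    ring
  have hθint : ∀ χ : IrrCharacter G, ∃ m : ℤ, classInner θ (χ : G → ℂ) = m := by
    intro χ
    rw [hθdef]
    exact dih_inner_ind_int μ χ
  have h11 : classInner (fun _ : G => (1 : ℂ)) (fun _ => (1 : ℂ)) = 1 := by
    have := classInner_irr (trivIrr G) (trivIrr G)
    rw [if_pos rfl] at this
    exact this
  have hne1 : χ₁ ≠ trivIrr G := by
    intro h
    apply h1
    rw [h]
    rfl
  have hχ1 : classInner (χ₁ : G → ℂ) (fun _ => (1 : ℂ)) = 0 := by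
    have := classInner_irr χ₁ (trivIrr G)
    rw [if_neg hne1] at this
    exact this
  have h1χ : classInner (fun _ : G => (1 : ℂ)) (χ₁ : G → ℂ) = 0 := by
    have := classInner_irr (trivIrr G) χ₁
    rw [if_neg (fun h => hne1 h.symm)] at this
    exact this
  have hχχ : classInner (χ₁ : G → ℂ) (χ₁ : G → ℂ) = 1 := by
    have := classInner_irr χ₁ χ₁
    rw [if_pos rfl] at this
    exact this
  -- the function `f`
  obtain ⟨f, hfdef⟩ : ∃ f : G → ℂ, f = fun g => θ g - 1 - δ * (χ₁ : G → ℂ) g := ⟨_, rfl⟩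
  have hfin : ∀ ψ : G → ℂ, classInner f ψ =
      classInner θ ψ - classInner (fun _ => (1 : ℂ)) ψ - δ * classInner (χ₁ : G → ℂ) ψ := by
    intro ψ
    rw [hfdef]
    exact dih_inner_f θ _ ψ δ
  have hfcf : IsClassFunction G f := by
    intro g x
    rw [hfdef]
    show θ (x * g * x⁻¹) - 1 - δ * (χ₁ : G → ℂ) (x * g * x⁻¹) = θ g - 1 - δ * (χ₁ : G → ℂ) g
    rw [hθcf g x, isClassFunction_irr χ₁ g x]
  have hfint : ∀ χ : IrrCharacter G, ∃ m : ℤ, classInner f (χ : G → ℂ) = m := by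
    intro χ
    obtain ⟨m, hm⟩ := hθint χ
    rw [hfin, hm]
    have e1 := classInner_irr (trivIrr G) χ
    have e2 := classInner_irr χ₁ χ
    have e1' : classInner (fun _ : G => (1 : ℂ)) (χ : G → ℂ) = if trivIrr G = χ then 1 else 0 := e1
    rw [e1', e2]
    rcases hδ with rfl | rfl
    · refine ⟨m - (if trivIrr G = χ then 1 else 0) - (if χ₁ = χ then 1 else 0), ?_⟩
      split_ifs <;> push_cast <;> ring
    · refine ⟨m - (if trivIrr G = χ then 1 else 0) + (if χ₁ = χ then 1 else 0), ?_⟩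
      split_ifs <;> push_cast <;> ring
  have hfθ : classInner f θ = 1 := by
    rw [hfin, hθθ]
    have e1 : classInner (fun _ : G => (1 : ℂ)) θ = 1 := by
      rw [← Cfsg.Agent.Lib.helper84.classInner_conj_symm, hθ1, map_one]
    have e2 : classInner (χ₁ : G → ℂ) θ = δ := by
      rw [← Cfsg.Agent.Lib.helper84.classInner_conj_symm, hθχ, hδc]
    rw [e1, e2]
    linear_combination -hδδ
  have hf1 : classInner f (fun _ => (1 : ℂ)) = 0 := by
    rw [hfin, hθ1, h11, hχ1]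
    ring
  have hfχ : classInner f (χ₁ : G → ℂ) = 0 := by
    rw [hfin, hθχ, h1χ, hχχ]
    ring
  have hff : classInner f f = 1 := by
    have e0 : classInner θ f = 1 := by
      rw [← Cfsg.Agent.Lib.helper84.classInner_conj_symm, hfθ, map_one]
    have e1 : classInner (fun _ : G => (1 : ℂ)) f = 0 := by
      rw [← Cfsg.Agent.Lib.helper84.classInner_conj_symm, hf1, map_zero]
    have e2 : classInner (χ₁ : G → ℂ) f = 0 := by
      rw [← Cfsg.Agent.Lib.helper84.classInner_conj_symm, hfχ, map_zero]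
    rw [hfin f, e0, e1, e2]
    ring
  obtain ⟨χ', e, he, hfe⟩ := dih_pm_irr f hfcf hfint hff
  -- values
  have hθone : θ 1 = 0 := by
    rw [hθdef]
    exact dih_ind_odd μ hμodd 1 (by simp)
  have hzH : σ ^ (2 ^ (n - 2)) ∈ H := H.pow_mem D.hσH _
  have hzeven : Even (orderOf (σ ^ (2 ^ (n - 2)))) := by
    rw [D.hz]
    exact even_two
  have hχz : (χ₁ : G → ℂ) (σ ^ (2 ^ (n - 2))) = δ := hval ⟨_, hzH⟩ hzeven
  have hμz : ((μ ⟨σ ^ (2 ^ (n - 2)), hzH⟩ : ℂˣ) : ℂ) ^ 2 = 1 := by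
    have h2 : (⟨σ ^ (2 ^ (n - 2)), hzH⟩ : ↥H) ^ 2 = 1 := by
      apply Subtype.ext
      show (σ ^ (2 ^ (n - 2))) ^ 2 = 1
      have h3 := pow_orderOf_eq_one (σ ^ (2 ^ (n - 2)))
      rw [D.hz] at h3
      exact h3
    rw [← Units.val_pow_eq_pow_val, ← map_pow, h2, map_one]
    rfl
  have hθz : θ (σ ^ (2 ^ (n - 2))) =
      2 - 2 * ((μ ⟨σ ^ (2 ^ (n - 2)), hzH⟩ : ℂˣ) : ℂ) := by
    rw [hθdef]
    have h2 := D.ind_restrict μ hμinv hμodd ⟨σ ^ (2 ^ (n - 2)), hzH⟩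
    have h3 : indFun H (fun x : ↥H => 1 - (μ x : ℂ)) (σ ^ (2 ^ (n - 2))) =
        2 - (μ ⟨σ ^ (2 ^ (n - 2)), hzH⟩ : ℂ) - (((μ ⟨σ ^ (2 ^ (n - 2)), hzH⟩)⁻¹ : ℂˣ) : ℂ) := h2
    rw [h3, Units.val_inv_eq_inv_val]
    have hne : ((μ ⟨σ ^ (2 ^ (n - 2)), hzH⟩ : ℂˣ) : ℂ) ≠ 0 := Units.ne_zero _
    field_simp
    linear_combination hμz
  have hdeg : e * (χ' : G → ℂ) 1 = -(1 + δ * (χ₁ : G → ℂ) 1) := by
    rw [← hfe 1, hfdef]
    show θ 1 - 1 - δ * (χ₁ : G → ℂ) 1 = _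
    rw [hθone]
    ring
  have hzv : (e * (χ' : G → ℂ) (σ ^ (2 ^ (n - 2)))) ^ 2 = 4 := by
    rw [← hfe, hfdef]
    show (θ (σ ^ (2 ^ (n - 2))) - 1 - δ * (χ₁ : G → ℂ) (σ ^ (2 ^ (n - 2)))) ^ 2 = 4
    rw [hθz, hχz, hδδ]
    linear_combination 4 * hμz
  -- the class sums
  have hθexp : ∀ g, θ g = 1 + δ * (χ₁ : G → ℂ) g + e * (χ' : G → ℂ) g := by
    intro g
    rw [← hfe g, hfdef]
    ring
  have hsum : ∑ g : G, classProd (σ ^ (2 ^ (n - 2))) g * θ g =
      1 * (((Subgroup.centralizer ({σ ^ (2 ^ (n - 2))} : Set G)).index : ℂ) * 1 / 1) ^ 2 +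
      δ * ((χ₁ : G → ℂ) 1 * (((Subgroup.centralizer ({σ ^ (2 ^ (n - 2))} : Set G)).index : ℂ) *
        δ / (χ₁ : G → ℂ) 1) ^ 2) +
      e * ((χ' : G → ℂ) 1 * (((Subgroup.centralizer ({σ ^ (2 ^ (n - 2))} : Set G)).index : ℂ) *
        (χ' : G → ℂ) (σ ^ (2 ^ (n - 2))) / (χ' : G → ℂ) 1) ^ 2) := by
    have e1 := sum_classProd_mul_char (σ ^ (2 ^ (n - 2))) (trivIrr G).2
    have e2 := sum_classProd_mul_char (σ ^ (2 ^ (n - 2))) χ₁.2
    have e3 := sum_classProd_mul_char (σ ^ (2 ^ (n - 2))) χ'.2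
    unfold centralChar at e1 e2 e3
    rw [hχz] at e2
    have e1' : ∑ g : G, classProd (σ ^ (2 ^ (n - 2))) g * 1 =
        1 * (((Subgroup.centralizer ({σ ^ (2 ^ (n - 2))} : Set G)).index : ℂ) * 1 / 1) ^ 2 := e1
    rw [← e1', ← e2, ← e3, Finset.mul_sum, Finset.mul_sum, ← Finset.sum_add_distrib,
      ← Finset.sum_add_distrib]
    refine Finset.sum_congr rfl fun g _ => ?_
    rw [hθexp g]
    ring
  have hcount : ∑ g : G, classProd (σ ^ (2 ^ (n - 2))) g * θ g =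
      (Nat.card H : ℂ)⁻¹ * ((Nat.card G : ℂ) *
        (Nat.card {a : G // a ∈ Subgroup.centralizer ({σ ^ (2 ^ (n - 2))} : Set G) ∧ a ∉ H ∧
            a * a = 1} : ℂ) ^ 2) := by
    rw [hθdef, dih_classProd_ind, D.count_T μ hμinv hμodd hμσ hK]
  have hJ0 : (Nat.card {a : G // a ∈ Subgroup.centralizer ({σ ^ (2 ^ (n - 2))} : Set G) ∧ a ∉ H ∧
            a * a = 1} : ℂ) ≠ 0 := by
    have : Nonempty {a : G // a ∈ Subgroup.centralizer ({σ ^ (2 ^ (n - 2))} : Set G) ∧ a ∉ H ∧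
            a * a = 1} := ⟨⟨τ, D.hτC, D.hτH, D.hτsq⟩⟩
    exact_mod_cast Nat.card_pos.ne'
  have hC0 : (Nat.card (Subgroup.centralizer ({σ ^ (2 ^ (n - 2))} : Set G)) : ℂ) ≠ 0 := by
    exact_mod_cast Nat.card_pos.ne'
  have E1 : (Nat.card (Subgroup.centralizer ({σ ^ (2 ^ (n - 2))} : Set G)) : ℂ) *
      ((Subgroup.centralizer ({σ ^ (2 ^ (n - 2))} : Set G)).index : ℂ) = (Nat.card G : ℂ) := by
    rw [← Nat.cast_mul, Subgroup.card_mul_index]
  have E2 : 2 * (Nat.card H : ℂ) =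
      (Nat.card (Subgroup.centralizer ({σ ^ (2 ^ (n - 2))} : Set G)) : ℂ) := by
    rw [← D.hcardH, Nat.cast_mul, Nat.cast_ofNat]
  have hG0 : (Nat.card G : ℂ) ≠ 0 := by exact_mod_cast Nat.card_pos.ne'
  exact dih_algebra _ _ _ _ _ δ _ e _ _ hδ he hG0 hC0 hH0 (irr_one_ne_zero χ₁)
    (irr_one_ne_zero χ') hJ0 E1 E2 hdeg hzv (hsum.symm.trans hcount)

end Cfsg.Agent.Lib.helper81
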