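import Mathlib
import Cfsg.Agent.Lib.helper81.DihFormula
import Cfsg.Agent.Lib.helper20.DefectCentral

/-!
# Brauer's order formula for dihedral Sylow 2-subgroups: assembly (helper81)
-/

set_option autoImplicit false

namespace Cfsg.Agent.Lib.helper81

open Cfsg Cfsg.Agent.Lib.helper83 Cfsg.Agent.Lib.helper84 Cfsg.Agent.Lib.helper19
open scoped ComplexConjugate

universe u

variable {G : Type u} [Group G] {σ τ : G} {n : ℕ} {ζ : ℂ} {H : Subgroup G} {lam : ↥H →* ℂˣ}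

/-- Elements of `⟨σ, τ⟩` are of the form `σ ^ k` or `τ σ ^ k`. -/
theorem dih_closure_cases (σ τ : G) (hτ2 : τ * τ = 1) (hrel : τ * σ * τ⁻¹ = σ⁻¹) (x : G)
    (hx : x ∈ Subgroup.closure ({σ, τ} : Set G)) :
    x ∈ Subgroup.zpowers σ ∨ τ * x ∈ Subgroup.zpowers σ := by
  have hτZ : ∀ w ∈ Subgroup.zpowers σ, τ * w * τ⁻¹ ∈ Subgroup.zpowers σ := by
    intro w hw
    obtain ⟨k, hk⟩ := Subgroup.mem_zpowers_iff.mp hw
    have h1 : τ * w * τ⁻¹ = (σ⁻¹) ^ k := by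
      rw [← hrel, conj_zpow, hk]
    rw [h1]
    exact Subgroup.zpow_mem _ (Subgroup.inv_mem _ (Subgroup.mem_zpowers σ)) k
  induction hx using Subgroup.closure_induction with
  | mem x hx =>
    rcases Set.mem_insert_iff.mp hx with h | h
    · rw [h]
      exact Or.inl (Subgroup.mem_zpowers _)
    · rw [Set.mem_singleton_iff] at h
      right
      rw [h, hτ2]
      exact Subgroup.one_mem _
  | one => exact Or.inl (Subgroup.one_mem _)
  | mul x y _ _ hx hy =>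
    rcases hx with hx | hx <;> rcases hy with hy | hy
    · exact Or.inl (Subgroup.mul_mem _ hx hy)
    · right
      have h1 : τ * (x * y) = (τ * x * τ⁻¹) * (τ * y) := by group
      rw [h1]
      exact Subgroup.mul_mem _ (hτZ x hx) hy
    · right
      rw [← mul_assoc]
      exact Subgroup.mul_mem _ hx hy
    · left
      have h1 : x * y = (τ * (τ * x) * τ⁻¹) * (τ * y) := by
        calc x * y = (τ * τ) * x * y := by rw [hτ2, one_mul]
          _ = _ := by group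
      rw [h1]
      exact Subgroup.mul_mem _ (hτZ _ hx) hy
  | inv x _ hx =>
    rcases hx with hx | hx
    · exact Or.inl (Subgroup.inv_mem _ hx)
    · right
      have h1 : τ * x⁻¹ = τ * (τ * x)⁻¹ * τ⁻¹ := by
        calc τ * x⁻¹ = τ * x⁻¹ * (τ * τ)⁻¹ := by rw [hτ2, inv_one, mul_one]
          _ = _ := by group
      rw [h1]
      exact hτZ _ (Subgroup.inv_mem _ hx)

/-- `σ ^ i * τ * σ ^ j = τ * σ ^ (j - i)`. -/
theorem dih_zpow_swap (σ τ : G) (hτ2 : τ * τ = 1) (hrel : τ * σ * τ⁻¹ = σ⁻¹) (i j : ℤ) :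
    σ ^ i * τ * σ ^ j = τ * σ ^ (j - i) := by
  have h1 : τ * σ ^ (-i) * τ⁻¹ = σ ^ i := by
    rw [← conj_zpow, hrel, inv_zpow, zpow_neg, inv_inv]
  calc σ ^ i * τ * σ ^ j = (τ * σ ^ (-i) * τ⁻¹) * τ * σ ^ j := by rw [h1]
    _ = τ * (σ ^ (-i) * σ ^ j) := by group
    _ = τ * σ ^ (j - i) := by rw [← zpow_add]; congr 2; ring

/-- With the fusion hypothesis, there is one class of involutions. -/
theorem dih_one_class [Finite G] (P : Sylow 2 G) (σ τ : G) (n : ℕ) (hn : 2 ≤ n)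
    (hσo : orderOf σ = 2 ^ (n - 1)) (hτ2 : τ * τ = 1) (hrel : τ * σ * τ⁻¹ = σ⁻¹)
    (hP : ∀ x ∈ (P : Subgroup G), x ∈ Subgroup.zpowers σ ∨ τ * x ∈ Subgroup.zpowers σ)
    (hconj : IsConj (σ ^ (2 ^ (n - 2))) τ ∧ IsConj (σ ^ (2 ^ (n - 2))) (σ * τ))
    (x : G) (hx : orderOf x = 2) : IsConj (σ ^ (2 ^ (n - 2))) x := by
  have : Fact (Nat.Prime 2) := ⟨Nat.prime_two⟩
  have hx2 : x ^ 2 = 1 := by
    rw [← hx]
    exact pow_orderOf_eq_one x
  obtain ⟨g, hg⟩ := Cfsg.Agent.Lib.helper26.exists_conj_mem_sylow P x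
    ⟨1, by rw [pow_one]; exact hx2⟩
  have hxy : IsConj x (g * x * g⁻¹) := isConj_iff.mpr ⟨g, rfl⟩
  refine IsConj.trans ?_ hxy.symm
  obtain ⟨y, hy⟩ : ∃ y, y = g * x * g⁻¹ := ⟨_, rfl⟩
  rw [← hy] at hg ⊢
  have hyy : y * y = 1 := by
    rw [hy]
    calc g * x * g⁻¹ * (g * x * g⁻¹) = g * (x * x) * g⁻¹ := by group
      _ = 1 := by rw [← pow_two, hx2]; group
  have hy1 : y ≠ 1 := by
    intro h
    rw [hy] at h
    have h2 : x = 1 := by
      calc x = g⁻¹ * (g * x * g⁻¹) * g := by group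
        _ = 1 := by rw [h]; group
    rw [h2, orderOf_one] at hx
    norm_num at hx
  rcases hP y hg with h | h
  · rw [dih_unique_invol σ n hn hσo y h hyy hy1]
  · obtain ⟨k, hk⟩ := Subgroup.mem_zpowers_iff.mp h
    have hyk : y = τ * σ ^ k := by
      calc y = (τ * τ) * y := by rw [hτ2, one_mul]
        _ = τ * (τ * y) := by group
        _ = τ * σ ^ k := by rw [hk]
    rcases Int.even_or_odd k with ⟨m, hm⟩ | ⟨m, hm⟩
    · refine hconj.1.trans (isConj_iff.mpr ⟨σ ^ (-m), ?_⟩)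
      rw [← zpow_neg, neg_neg, dih_zpow_swap σ τ hτ2 hrel, hyk, hm]
      congr 2
      ring
    · refine hconj.2.trans (isConj_iff.mpr ⟨σ ^ (-m - 1), ?_⟩)
      rw [← zpow_neg]
      have h1 : σ ^ (-m - 1) * (σ * τ) * σ ^ (-(-m - 1)) = σ ^ (-m) * τ * σ ^ (m + 1) := by
        have h2 : σ ^ (-m - 1) * σ = σ ^ (-m) := by
          rw [← zpow_add_one]
          congr 1
          ring
        rw [← mul_assoc, h2]
        congr 2
        ring
      rw [h1, dih_zpow_swap σ τ hτ2 hrel, hyk, hm]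
      congr 2
      ring

/-- The involutions of `C ∖ H` form two `C`-classes. -/
theorem DihLocal.card_J [Finite G] (D : DihLocal σ τ n ζ H lam) :
    Nat.card {a : G // a ∈ Subgroup.centralizer ({σ ^ (2 ^ (n - 2))} : Set G) ∧ a ∉ H ∧
        a * a = 1} =
      Nat.card {a : G // ∃ c ∈ Subgroup.centralizer ({σ ^ (2 ^ (n - 2))} : Set G),
        a = c * τ * c⁻¹} +
      Nat.card {a : G // ∃ c ∈ Subgroup.centralizer ({σ ^ (2 ^ (n - 2))} : Set G),
        a = c * (σ * τ) * c⁻¹} := by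
  classical
  have : Fintype G := Fintype.ofFinite G
  have hτinv : τ⁻¹ = τ := inv_eq_of_mul_eq_one_left D.hτsq
  have hσC : σ ∈ Subgroup.centralizer ({σ ^ (2 ^ (n - 2))} : Set G) := D.hHC D.hσH
  have hστ2 : σ * τ * (σ * τ) = 1 := by
    calc σ * τ * (σ * τ) = σ * (τ * σ * τ⁻¹) := by rw [hτinv]; group
      _ = 1 := by rw [D.hrel, mul_inv_cancel]
  have hστH : σ * τ ∉ H := by
    intro h
    apply D.hτH
    have := H.mul_mem (H.inv_mem D.hσH) h
    rwa [inv_mul_cancel_left] at this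
  have hconjJ : ∀ t : G, t ∈ Subgroup.centralizer ({σ ^ (2 ^ (n - 2))} : Set G) → t ∉ H →
      t * t = 1 → ∀ c ∈ Subgroup.centralizer ({σ ^ (2 ^ (n - 2))} : Set G),
      (c * t * c⁻¹ ∈ Subgroup.centralizer ({σ ^ (2 ^ (n - 2))} : Set G) ∧ c * t * c⁻¹ ∉ H ∧
        (c * t * c⁻¹) * (c * t * c⁻¹) = 1) := by
    intro t ht htH ht2 c hc
    refine ⟨Subgroup.mul_mem _ (Subgroup.mul_mem _ hc ht) (Subgroup.inv_mem _ hc), ?_, ?_⟩
    · intro h
      apply htH
      have h2 := D.hnorm c⁻¹ (Subgroup.inv_mem _ hc) _ h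
      have h3 : c⁻¹ * (c * t * c⁻¹) * c⁻¹⁻¹ = t := by group
      rwa [h3] at h2
    · calc c * t * c⁻¹ * (c * t * c⁻¹) = c * (t * t) * c⁻¹ := by group
        _ = 1 := by rw [ht2]; group
  have hiff : ∀ a : G, (a ∈ Subgroup.centralizer ({σ ^ (2 ^ (n - 2))} : Set G) ∧ a ∉ H ∧
        a * a = 1) ↔
      ((∃ c ∈ Subgroup.centralizer ({σ ^ (2 ^ (n - 2))} : Set G), a = c * τ * c⁻¹) ∨
        (∃ c ∈ Subgroup.centralizer ({σ ^ (2 ^ (n - 2))} : Set G), a = c * (σ * τ) * c⁻¹)) := by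
    intro a
    constructor
    · rintro ⟨h1, h2, h3⟩
      exact D.hJ a h1 h2 h3
    · rintro (⟨c, hc, rfl⟩ | ⟨c, hc, rfl⟩)
      · exact hconjJ τ D.hτC D.hτH D.hτsq c hc
      · exact hconjJ (σ * τ) (Subgroup.mul_mem _ hσC D.hτC) hστH hστ2 c hc
  rw [Nat.card_congr (Equiv.subtypeEquivRight hiff), Nat.card_eq_fintype_card,
    Nat.card_eq_fintype_card, Nat.card_eq_fintype_card, Fintype.card_subtype,
    Fintype.card_subtype, Fintype.card_subtype, Finset.filter_or]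
  apply Finset.card_union_of_disjoint
  rw [Finset.disjoint_filter]
  rintro a - ⟨c, hc, rfl⟩ ⟨c', hc', h⟩
  apply D.hdisj (c'⁻¹ * c) (Subgroup.mul_mem _ (Subgroup.inv_mem _ hc') hc)
  calc c'⁻¹ * c * τ * (c'⁻¹ * c)⁻¹ = c'⁻¹ * (c * τ * c⁻¹) * c' := by group
    _ = σ * τ := by rw [h]; group

/-- Characters of the principal block are determined on the elements of even order of `H` by
their values on the powers of `σ`. -/
theorem DihLocal.section_const [Finite G] (D : DihLocal σ τ n ζ H lam) {M : Ideal AlgInt}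
    (hM : IsPModular 2 M) (χ : IrrCharacter G) (hχ : χ ∈ principalBlock M G) (h : G)
    (hh : h ∈ H) (he : Even (orderOf h)) :
    ∃ l : ℕ, 0 < l ∧ l < 2 ^ (n - 1) ∧ (χ : G → ℂ) h = (χ : G → ℂ) (σ ^ l) := by
  classical
  have : Fact (Nat.Prime 2) := ⟨Nat.prime_two⟩
  have : Fintype G := Fintype.ofFinite G
  obtain ⟨a, y, hxy, hcomm, ⟨k, hk⟩, hreg⟩ :=
    Cfsg.Agent.Lib.helper20.exists_isPPart_zpow Nat.prime_two h
  obtain ⟨u, hu⟩ : ∃ u, u = h ^ a := ⟨_, rfl⟩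
  rw [← hu] at hxy hcomm hk
  have huH : u ∈ H := by
    rw [hu]
    exact H.zpow_mem hh a
  have hu1 : u ≠ 1 := by
    intro h1
    rw [h1, one_mul] at hxy
    rw [hxy] at hreg
    exact hreg he.two_dvd
  obtain ⟨c, hc, l, hl⟩ := D.hconjσ u huH ⟨k, hk⟩
  have hσl1 : σ ^ l ≠ 1 := by
    intro h1
    apply hu1
    rw [hl, h1]
    group
  have hσlo : orderOf (σ ^ l) = 2 ^ k := by
    rw [← hk, hl]
    have := dih_orderOf_conj c⁻¹ (σ ^ l)
    rw [inv_inv] at this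
    exact this.symm
  obtain ⟨y', hy'⟩ : ∃ y', y' = c⁻¹ * y * c := ⟨_, rfl⟩
  have hy'o : orderOf y' = orderOf y := by
    rw [hy']
    exact dih_orderOf_conj c y
  have hhc : h = c * (σ ^ l * y') * c⁻¹ := by
    rw [← hxy, hl, hy']
    group
  have hcomm' : σ ^ l * y' = y' * σ ^ l := by
    have h1 : σ ^ l = c⁻¹ * u * c := by
      rw [hl]
      group
    rw [h1, hy']
    calc c⁻¹ * u * c * (c⁻¹ * y * c) = c⁻¹ * (u * y) * c := by group
      _ = c⁻¹ * (y * u) * c := by rw [hcomm.eq]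
      _ = c⁻¹ * y * c * (c⁻¹ * u * c) := by group
  have : Fintype (Subgroup.centralizer ({σ ^ l} : Set G)) := Fintype.ofFinite _
  obtain ⟨k', hidx⟩ := D.hnilp (σ ^ l) (H.pow_mem D.hσH l) hσl1 ⟨k, hσlo⟩
  have hy'mem : y' ∈ Subgroup.centralizer ({σ ^ l} : Set G) := by
    rw [Subgroup.mem_centralizer_singleton_iff]
    exact hcomm'.symm
  have hreg' : ¬ 2 ∣ orderOf (⟨y', hy'mem⟩ : Subgroup.centralizer ({σ ^ l} : Set G)) := by
    rw [← Subgroup.orderOf_coe]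
    show ¬ 2 ∣ orderOf y'
    rw [hy'o]
    exact hreg
  have hmem := Cfsg.Agent.Lib.helper4.mem_pPrimeCore_of_pRegular hidx hreg'
  have hsec := (Cfsg.Agent.Lib.helper4.principal_section_avg hM (σ ^ l) ⟨k, hσlo⟩ ⟨k', hidx⟩ χ).1 hχ
    ⟨⟨y', hy'mem⟩, hmem⟩
  have hsec' : (χ : G → ℂ) (σ ^ l * y') = (χ : G → ℂ) (σ ^ l) := hsec
  have hpos : 0 < orderOf σ := by
    rw [D.hσo]
    positivity
  refine ⟨l % orderOf σ, ?_, ?_, ?_⟩
  · rw [Nat.pos_iff_ne_zero]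
    intro h0
    apply hσl1
    rw [← pow_mod_orderOf, h0, pow_zero]
  · rw [← D.hσo]
    exact Nat.mod_lt _ hpos
  · rw [pow_mod_orderOf, ← hsec', hhc]
    exact isClassFunction_irr χ _ c

end Cfsg.Agent.Lib.helper81
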