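import Mathlib
import Cfsg.Agent.Lib.helper81.DihFinal
import Cfsg.Agent.Lib.helper81.DihComb

/-!
# The generalized characters `θ_j = Ind_H^G (1 - λ^j)` for dihedral Sylow 2-subgroups (helper81)
-/

set_option autoImplicit false

namespace Cfsg.Agent.Lib.helper81

open Cfsg Cfsg.Agent.Lib.helper83 Cfsg.Agent.Lib.helper84 Cfsg.Agent.Lib.helper19
open scoped ComplexConjugate

universe u

variable {G : Type u} [Group G] {σ τ : G} {n : ℕ} {ζ : ℂ} {H : Subgroup G} {lam : ↥H →* ℂˣ}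

/-- Parseval for class functions with integral multiplicities. -/
theorem dih_parseval [Fintype G] [Fintype (IrrCharacter G)] (f g : G → ℂ)
    (hf : IsClassFunction G f) (mf mg : IrrCharacter G → ℤ)
    (hmf : ∀ χ : IrrCharacter G, classInner f (χ : G → ℂ) = mf χ)
    (hmg : ∀ χ : IrrCharacter G, classInner g (χ : G → ℂ) = mg χ) :
    classInner f g = ∑ χ : IrrCharacter G, (mf χ : ℂ) * (mg χ : ℂ) := by
  have hexp : ∀ x, f x = ∑ χ : IrrCharacter G, (mf χ : ℂ) * (χ : G → ℂ) x := by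
    intro x
    rw [classFunction_expansion' f hf x]
    refine Finset.sum_congr rfl fun χ _ => ?_
    rw [hmf]
  have h1 : classInner f g = ∑ χ : IrrCharacter G, (mf χ : ℂ) * classInner (χ : G → ℂ) g := by
    rw [classInner_def]
    simp_rw [classInner_def]
    have : ∀ x : G, f x * conj (g x) =
        ∑ χ : IrrCharacter G, (mf χ : ℂ) * ((χ : G → ℂ) x * conj (g x)) := by
      intro x
      rw [hexp x, Finset.sum_mul]
      refine Finset.sum_congr rfl fun χ _ => ?_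
      ring
    simp_rw [this]
    rw [Finset.sum_comm, Finset.mul_sum]
    refine Finset.sum_congr rfl fun χ _ => ?_
    rw [← Finset.mul_sum]
    ring
  rw [h1]
  refine Finset.sum_congr rfl fun χ _ => ?_
  rw [← Cfsg.Agent.Lib.helper84.classInner_conj_symm, hmg]
  simp

theorem DihLocal.pow_inv (D : DihLocal σ τ n ζ H lam) (j : ℕ) :
    ∀ h h' : ↥H, (h' : G) = τ * (h : G) * τ⁻¹ → (lam ^ j) h' = ((lam ^ j) h)⁻¹ := by
  intro h h' hh
  rw [MonoidHom.pow_apply, MonoidHom.pow_apply, D.hlaminv h h' hh, inv_pow]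

theorem DihLocal.pow_odd (D : DihLocal σ τ n ζ H lam) (j : ℕ) :
    ∀ h : ↥H, Odd (orderOf (h : G)) → (lam ^ j) h = 1 := by
  intro h hh
  rw [MonoidHom.pow_apply, D.hlamodd h hh, one_pow]

theorem DihLocal.lam_sigma (D : DihLocal σ τ n ζ H lam) (l : ℕ) :
    ((lam ⟨σ ^ l, H.pow_mem D.hσH l⟩ : ℂˣ) : ℂ) = ζ ^ l := by
  have h1 : (⟨σ ^ l, H.pow_mem D.hσH l⟩ : ↥H) = (⟨σ, D.hσH⟩ : ↥H) ^ l := rfl
  rw [h1, map_pow, Units.val_pow_eq_pow_val, D.hlamσ D.hσH]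

theorem DihLocal.pow_ne_one (D : DihLocal σ τ n ζ H lam) {j : ℕ} (h1 : 0 < j)
    (h2 : j < 2 ^ (n - 1)) : lam ^ j ≠ 1 := by
  intro h
  have h3 : ((lam ^ j) ⟨σ, D.hσH⟩ : ℂˣ) = 1 := by
    rw [h]
    rfl
  rw [MonoidHom.pow_apply] at h3
  have h4 : ζ ^ j = 1 := by
    rw [← D.hlamσ D.hσH, ← Units.val_pow_eq_pow_val, h3]
    rfl
  exact D.hζ.pow_ne_one_of_pos_of_lt (by omega) h2 h4

theorem DihLocal.pow_eq_iff (D : DihLocal σ τ n ζ H lam) {j k : ℕ} (hj : j < 2 ^ (n - 1))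
    (hk : k < 2 ^ (n - 1)) : lam ^ j = lam ^ k ↔ j = k := by
  constructor
  · intro h
    have h3 : ((lam ^ j) ⟨σ, D.hσH⟩ : ℂˣ) = (lam ^ k) ⟨σ, D.hσH⟩ := by rw [h]
    rw [MonoidHom.pow_apply, MonoidHom.pow_apply] at h3
    have h4 : ζ ^ j = ζ ^ k := by
      rw [← D.hlamσ D.hσH, ← Units.val_pow_eq_pow_val, h3, Units.val_pow_eq_pow_val]
    exact D.hζ.pow_inj hj hk h4
  · intro h
    rw [h]

theorem DihLocal.pow_eq_inv_iff (D : DihLocal σ τ n ζ H lam) {j k : ℕ} (hj : 0 < j)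
    (hjk : j + k ≤ 2 ^ (n - 1)) : lam ^ j = (lam ^ k)⁻¹ ↔ j + k = 2 ^ (n - 1) := by
  constructor
  · intro h
    have h3 : lam ^ (j + k) = 1 := by
      ext x
      have hx := DFunLike.congr_fun h x
      rw [MonoidHom.pow_apply, MonoidHom.inv_apply, MonoidHom.pow_apply] at hx
      rw [MonoidHom.pow_apply, pow_add, hx, inv_mul_cancel]
      rfl
    by_contra hne
    exact D.pow_ne_one (by omega) (by omega) h3
  · intro h
    ext x
    rw [MonoidHom.pow_apply, MonoidHom.inv_apply, MonoidHom.pow_apply]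
    congr 1
    apply eq_inv_of_mul_eq_one_left
    rw [← pow_add, h, D.hlampow]

/-- `θ_j = Ind_H^G (1 - λ^j)`. -/
noncomputable def dihTheta [Fintype G] (H : Subgroup G) (lam : ↥H →* ℂˣ) (j : ℕ) : G → ℂ :=
  indFun H (fun x : ↥H => 1 - (((lam ^ j) x : ℂˣ) : ℂ))

theorem dihTheta_cf [Fintype G] (j : ℕ) : IsClassFunction G (dihTheta H lam j) :=
  indFun_isClassFunction H _

theorem DihLocal.theta_odd [Fintype G] (D : DihLocal σ τ n ζ H lam) (j : ℕ) (g : G)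
    (hg : Odd (orderOf g)) : dihTheta H lam j g = 0 :=
  dih_ind_odd (lam ^ j) (D.pow_odd j) g hg

theorem DihLocal.theta_one [Fintype G] (D : DihLocal σ τ n ζ H lam) {j : ℕ} (h1 : 0 < j)
    (h2 : j < 2 ^ (n - 1)) : classInner (dihTheta H lam j) (fun _ => (1 : ℂ)) = 1 :=
  dih_inner_ind_one (lam ^ j) (D.pow_ne_one h1 h2)

theorem dihTheta_int [Fintype G] (j : ℕ) (χ : IrrCharacter G) :
    ∃ m : ℤ, classInner (dihTheta H lam j) (χ : G → ℂ) = m :=
  dih_inner_ind_int (lam ^ j) χ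

theorem DihLocal.two_pow (D : DihLocal σ τ n ζ H lam) : 2 ^ (n - 1) = 2 * 2 ^ (n - 2) := by
  have hn := D.hn
  rw [← pow_succ']
  congr 1
  omega

theorem DihLocal.theta_gram [Fintype G] (D : DihLocal σ τ n ζ H lam) {j k : ℕ} (hj : 0 < j)
    (hk : 0 < k) (hj2 : j ≤ 2 ^ (n - 2)) (hk2 : k ≤ 2 ^ (n - 2)) :
    classInner (dihTheta H lam j) (dihTheta H lam k) =
      2 + (if j = k then 1 else 0) + (if j + k = 2 ^ (n - 1) then 1 else 0) := by
  have hN := D.two_pow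
  unfold dihTheta
  rw [D.inner_ind_ind (lam ^ j) (lam ^ k) (D.pow_inv k) (D.pow_odd k)
    (D.pow_ne_one hj (by omega)) (D.pow_ne_one hk (by omega))]
  have e1 := D.pow_eq_iff (j := j) (k := k) (by omega) (by omega)
  have e2 := D.pow_eq_inv_iff (j := j) (k := k) hj (by omega)
  congr 1
  · congr 1
    by_cases h : j = k
    · rw [if_pos h, if_pos (e1.mpr h)]
    · rw [if_neg h, if_neg (fun h' => h (e1.mp h'))]
  · by_cases h : j + k = 2 ^ (n - 1)
    · rw [if_pos h, if_pos (e2.mpr h)]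
    · rw [if_neg h, if_neg (fun h' => h (e2.mp h'))]

/-- `θ_{N - j} = θ_j`. -/
theorem DihLocal.theta_symm [Fintype G] (D : DihLocal σ τ n ζ H lam) {j : ℕ}
    (hj : j ≤ 2 ^ (n - 1)) : dihTheta H lam (2 ^ (n - 1) - j) = dihTheta H lam j := by
  classical
  have hτinv : τ⁻¹ = τ := inv_eq_of_mul_eq_one_left D.hτsq
  funext g
  unfold dihTheta
  rw [Cfsg.Agent.Lib.helper19.indFun_apply, Cfsg.Agent.Lib.helper19.indFun_apply]
  congr 1
  have key : ∀ y : G, extendByZero H (fun x : ↥H => 1 - (((lam ^ (2 ^ (n - 1) - j)) x : ℂˣ) : ℂ)) y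
      = extendByZero H (fun x : ↥H => 1 - (((lam ^ j) x : ℂˣ) : ℂ)) (τ * y * τ⁻¹) := by
    intro y
    by_cases hy : y ∈ H
    · have hy' : τ * y * τ⁻¹ ∈ H := D.hnorm τ D.hτC y hy
      rw [show y = ((⟨y, hy⟩ : ↥H) : G) from rfl, extendByZero_coe,
        show τ * ((⟨y, hy⟩ : ↥H) : G) * τ⁻¹ = ((⟨τ * y * τ⁻¹, hy'⟩ : ↥H) : G) from rfl,
        extendByZero_coe, D.pow_inv j ⟨y, hy⟩ ⟨τ * y * τ⁻¹, hy'⟩ rfl]
      congr 2
      rw [MonoidHom.pow_apply, MonoidHom.pow_apply]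
      apply eq_inv_of_mul_eq_one_left
      rw [← pow_add, Nat.sub_add_cancel hj, D.hlampow]
    · have hy' : τ * y * τ⁻¹ ∉ H := by
        intro h
        apply hy
        have h2 := D.hnorm τ⁻¹ (Subgroup.inv_mem _ D.hτC) _ h
        have h3 : τ⁻¹ * (τ * y * τ⁻¹) * τ⁻¹⁻¹ = y := by group
        rwa [h3] at h2
      rw [extendByZero_of_not_mem H _ _ hy, extendByZero_of_not_mem H _ _ hy']
  simp_rw [key]
  rw [← Equiv.sum_comp (Equiv.mulRight τ)]
  refine Finset.sum_congr rfl fun x _ => ?_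
  congr 1
  rw [Equiv.coe_mulRight]
  group

/-- The structure of the `θ_j`. -/
theorem DihLocal.theta_structure [Fintype G] [Fintype (IrrCharacter G)]
    [DecidableEq (IrrCharacter G)] (D : DihLocal σ τ n ζ H lam) :
    ∃ (χ₁ χ₂ χ₃ : IrrCharacter G) (y : ℕ → IrrCharacter G) (δ₁ δ₂ δ₃ : ℤ),
      (δ₁ = 1 ∨ δ₁ = -1) ∧ (δ₂ = 1 ∨ δ₂ = -1) ∧ (δ₃ = 1 ∨ δ₃ = -1) ∧
      χ₁ ≠ χ₂ ∧ χ₁ ≠ χ₃ ∧ χ₂ ≠ χ₃ ∧ χ₁ ≠ trivIrr G ∧ χ₂ ≠ trivIrr G ∧ χ₃ ≠ trivIrr G ∧
      (∀ j, 1 ≤ j → j < 2 ^ (n - 2) →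
        y j ≠ χ₁ ∧ y j ≠ χ₂ ∧ y j ≠ χ₃ ∧ y j ≠ trivIrr G) ∧
      (∀ j k, 1 ≤ j → j < 2 ^ (n - 2) → 1 ≤ k → k < 2 ^ (n - 2) → y j = y k → j = k) ∧
      (∀ j, 1 ≤ j → j < 2 ^ (n - 2) → ∀ χ : IrrCharacter G,
        classInner (dihTheta H lam j) (χ : G → ℂ) =
          (((if χ = trivIrr G then 1 else 0) + (if χ = χ₁ then δ₁ else 0) -
            (if χ = y j then δ₁ else 0) : ℤ) : ℂ)) ∧
      (∀ χ : IrrCharacter G, classInner (dihTheta H lam (2 ^ (n - 2))) (χ : G → ℂ) =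
        (((if χ = trivIrr G then 1 else 0) + (if χ = χ₁ then δ₁ else 0) +
          (if χ = χ₂ then δ₂ else 0) + (if χ = χ₃ then δ₃ else 0) : ℤ) : ℂ)) := by
  have hn := D.hn
  have hN := D.two_pow
  have hm2 : 2 ≤ 2 ^ (n - 2) := by
    calc 2 = 2 ^ 1 := rfl
      _ ≤ 2 ^ (n - 2) := Nat.pow_le_pow_right (by norm_num) (by omega)
  have hm : 2 ^ (n - 2) = 2 ∨ 4 ≤ 2 ^ (n - 2) := by
    rcases Nat.lt_or_ge n 4 with h | h
    · left
      have h3 : n = 3 := by omega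
      rw [h3]
      norm_num
    · right
      calc 4 = 2 ^ 2 := rfl
        _ ≤ 2 ^ (n - 2) := Nat.pow_le_pow_right (by norm_num) (by omega)
  have hint : ∀ j : ℕ, ∀ χ : IrrCharacter G, ∃ m : ℤ,
      classInner (dihTheta H lam j) (χ : G → ℂ) = m := fun j χ => dihTheta_int j χ
  choose mθ hmθ using hint
  obtain ⟨t, ht⟩ : ∃ t : IrrCharacter G → ℤ, ∀ χ, t χ = if χ = trivIrr G then 1 else 0 :=
    ⟨_, fun _ => rfl⟩
  have hmθ1 : ∀ j, 0 < j → j < 2 ^ (n - 1) → mθ j (trivIrr G) = 1 := by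
    intro j h1 h2
    have h := hmθ j (trivIrr G)
    have h' : classInner (dihTheta H lam j) (fun _ => (1 : ℂ)) = 1 := D.theta_one h1 h2
    have h'' : ((mθ j (trivIrr G) : ℤ) : ℂ) = 1 := by
      rw [← h]
      exact h'
    exact_mod_cast h''
  have hsum_t : ∀ f : IrrCharacter G → ℤ, ∑ χ, f χ * t χ = f (trivIrr G) := by
    intro f
    simp_rw [ht, mul_ite, mul_one, mul_zero]
    rw [Finset.sum_ite_eq']
    simp
  have hgram : ∀ j k, 1 ≤ j → j ≤ 2 ^ (n - 2) → 1 ≤ k → k ≤ 2 ^ (n - 2) →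
      ∑ χ, (mθ j χ - t χ) * (mθ k χ - t χ) =
        1 + (if j = k then 1 else 0) + (if j + k = 2 ^ (n - 1) then 1 else 0) := by
    intro j k hj1 hj2 hk1 hk2
    have h1 : ∑ χ, (mθ j χ - t χ) * (mθ k χ - t χ) =
        ∑ χ, mθ j χ * mθ k χ - ∑ χ, mθ j χ * t χ - ∑ χ, mθ k χ * t χ + ∑ χ, t χ * t χ := by
      rw [← Finset.sum_sub_distrib, ← Finset.sum_sub_distrib, ← Finset.sum_add_distrib]
      refine Finset.sum_congr rfl fun χ _ => ?_
      ring
    rw [h1, hsum_t, hsum_t, hsum_t, hmθ1 j (by omega) (by omega), hmθ1 k (by omega) (by omega),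
      ht, if_pos rfl]
    have h2 := dih_parseval _ _ (dihTheta_cf (H := H) (lam := lam) j) (mθ j) (mθ k) (hmθ j)
      (hmθ k)
    rw [D.theta_gram (by omega) (by omega) hj2 hk2] at h2
    have h3 : (∑ χ, mθ j χ * mθ k χ : ℤ) =
        2 + (if j = k then 1 else 0) + (if j + k = 2 ^ (n - 1) then 1 else 0) := by
      have h4 : ((∑ χ, mθ j χ * mθ k χ : ℤ) : ℂ) =
          ((2 + (if j = k then 1 else 0) + (if j + k = 2 ^ (n - 1) then 1 else 0) : ℤ) : ℂ) := by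
        push_cast
        rw [← h2]
      exact_mod_cast h4
    rw [h3]
    ring
  have hdeg : ∀ j, 1 ≤ j → j ≤ 2 ^ (n - 2) →
      ∑ χ, (mθ j χ - t χ) * (charDegree (χ : G → ℂ) : ℤ) = -1 := by
    intro j hj1 hj2
    have h1 : ∑ χ, (mθ j χ - t χ) * (charDegree (χ : G → ℂ) : ℤ) =
        ∑ χ, mθ j χ * (charDegree (χ : G → ℂ) : ℤ) -
          ∑ χ : IrrCharacter G, (charDegree (χ : G → ℂ) : ℤ) * t χ := by
      rw [← Finset.sum_sub_distrib]
      refine Finset.sum_congr rfl fun χ _ => ?_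
      ring
    rw [h1, hsum_t]
    have h2 : (∑ χ, mθ j χ * (charDegree (χ : G → ℂ) : ℤ) : ℤ) = 0 := by
      have h3 := classFunction_expansion' _ (dihTheta_cf (H := H) (lam := lam) j) 1
      rw [D.theta_odd j 1 (by simp)] at h3
      have h4 : ((∑ χ, mθ j χ * (charDegree (χ : G → ℂ) : ℤ) : ℤ) : ℂ) = ((0 : ℤ) : ℂ) := by
        push_cast
        rw [h3]
        refine Finset.sum_congr rfl fun χ _ => ?_
        rw [hmθ, irr_one_eq_charDegree]
      exact_mod_cast h4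
    have h5 : (charDegree ((trivIrr G : IrrCharacter G) : G → ℂ) : ℤ) = 1 := by
      have h6 := irr_one_eq_charDegree (trivIrr G)
      have h7 : ((charDegree ((trivIrr G : IrrCharacter G) : G → ℂ) : ℤ) : ℂ) = ((1 : ℤ) : ℂ) := by
        push_cast
        rw [← h6]
        rfl
      exact_mod_cast h7
    rw [h2, h5]
    norm_num
  obtain ⟨x₁, x₂, x₃, y, δ₁, δ₂, δ₃, hδ₁, hδ₂, hδ₃, h12, h13, h23, hy, hyinj, haj, ham⟩ :=
    dih_comb (2 ^ (n - 2)) hm (fun j χ => mθ j χ - t χ)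
      (fun χ => (charDegree (χ : G → ℂ) : ℤ))
      (fun χ => by exact_mod_cast charDegree_pos χ)
      (by
        intro j k hj1 hj2 hk1 hk2 hjk
        have h := hgram j k hj1 hj2 hk1 hk2
        rw [if_neg hjk, if_neg (by omega)] at h
        simpa using h)
      (by
        intro j hj1 hj2
        have h := hgram j j hj1 hj2.le hj1 hj2.le
        rw [if_pos rfl, if_neg (by omega)] at h
        simpa using h)
      (by
        have h := hgram (2 ^ (n - 2)) (2 ^ (n - 2)) (by omega) le_rfl (by omega) le_rfl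
        rw [if_pos rfl, if_pos (by omega)] at h
        simpa using h)
      hdeg
  have haj' : ∀ j, 1 ≤ j → j < 2 ^ (n - 2) → ∀ χ, mθ j χ =
      (if χ = trivIrr G then 1 else 0) + (if χ = x₁ then δ₁ else 0) -
        (if χ = y j then δ₁ else 0) := by
    intro j hj1 hj2 χ
    have h := haj j hj1 hj2 χ
    rw [ht] at h
    linarith
  have ham' : ∀ χ, mθ (2 ^ (n - 2)) χ =
      (if χ = trivIrr G then 1 else 0) + (if χ = x₁ then δ₁ else 0) +
        (if χ = x₂ then δ₂ else 0) + (if χ = x₃ then δ₃ else 0) := by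
    intro χ
    have h := ham χ
    rw [ht] at h
    linarith
  have hδ₁0 : δ₁ ≠ 0 := by rcases hδ₁ with h | h <;> rw [h] <;> norm_num
  have hδ₂0 : δ₂ ≠ 0 := by rcases hδ₂ with h | h <;> rw [h] <;> norm_num
  have hδ₃0 : δ₃ ≠ 0 := by rcases hδ₃ with h | h <;> rw [h] <;> norm_num
  have hx1t : x₁ ≠ trivIrr G := by
    intro h
    have h1 := haj' 1 le_rfl (by omega) (trivIrr G)
    rw [hmθ1 1 (by omega) (by omega), if_pos rfl, if_pos h.symm,
      if_neg (fun h' => (hy 1 le_rfl (by omega)).1 (h'.symm.trans h.symm))] at h1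
    omega
  have hyt : ∀ j, 1 ≤ j → j < 2 ^ (n - 2) → y j ≠ trivIrr G := by
    intro j hj1 hj2 h
    have h1 := haj' j hj1 hj2 (trivIrr G)
    rw [hmθ1 j (by omega) (by omega), if_pos rfl, if_neg (fun h' => hx1t h'.symm),
      if_pos h.symm] at h1
    omega
  have hx2t : x₂ ≠ trivIrr G := by
    intro h
    have h1 := ham' (trivIrr G)
    rw [hmθ1 _ (by omega) (by omega), if_pos rfl, if_neg (fun h' => hx1t h'.symm),
      if_pos h.symm, if_neg (fun h' => h23 (h.trans h'))] at h1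
    omega
  have hx3t : x₃ ≠ trivIrr G := by
    intro h
    have h1 := ham' (trivIrr G)
    rw [hmθ1 _ (by omega) (by omega), if_pos rfl, if_neg (fun h' => hx1t h'.symm),
      if_neg (fun h' => h23 (h'.symm.trans h.symm)), if_pos h.symm] at h1
    omega
  refine ⟨x₁, x₂, x₃, y, δ₁, δ₂, δ₃, hδ₁, hδ₂, hδ₃, h12, h13, h23, hx1t, hx2t, hx3t, ?_, hyinj,
    ?_, ?_⟩
  · intro j hj1 hj2
    exact ⟨(hy j hj1 hj2).1, (hy j hj1 hj2).2.1, (hy j hj1 hj2).2.2, hyt j hj1 hj2⟩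
  · intro j hj1 hj2 χ
    rw [hmθ j χ, haj' j hj1 hj2 χ]
  · intro χ
    rw [hmθ _ χ, ham' χ]

end Cfsg.Agent.Lib.helper81
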