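import Mathlib
import Cfsg.Agent.Lib.helper81.DihTheta
import Cfsg.Agent.Lib.helper81.Blocks
import Cfsg.Agent.Lib.helper80.LocalInt

/-!
# Values of the characters of the principal block on the powers of `σ` (helper81)
-/

set_option autoImplicit false

namespace Cfsg.Agent.Lib.helper81

open Cfsg Cfsg.Agent.Lib.helper83 Cfsg.Agent.Lib.helper84 Cfsg.Agent.Lib.helper19
open scoped ComplexConjugate

universe u

variable {G : Type u} [Group G] {σ τ : G} {n : ℕ} {ζ : ℂ} {H : Subgroup G} {lam : ↥H →* ℂˣ}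

theorem dih_geom (N : ℕ) (w : ℂ) (hw : w ^ N = 1) :
    ∑ j ∈ Finset.range N, w ^ j = if w = 1 then (N : ℂ) else 0 := by
  split_ifs with h
  · rw [h]
    simp
  · have h1 := mul_geom_sum w N
    rw [hw, sub_self] at h1
    rcases mul_eq_zero.mp h1 with h' | h'
    · exact absurd (sub_eq_zero.mp h') h
    · exact h'

/-- Elements of odd order of `C` lie in `H`. -/
theorem DihLocal.odd_mem (D : DihLocal σ τ n ζ H lam) {c : G}
    (hc : c ∈ Subgroup.centralizer ({σ ^ (2 ^ (n - 2))} : Set G)) (ho : Odd (orderOf c)) :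
    c ∈ H := by
  have hτinv : τ⁻¹ = τ := inv_eq_of_mul_eq_one_left D.hτsq
  have hsq : c * c ∈ H := by
    rcases D.hidx c hc with h | h
    · exact H.mul_mem h h
    · have h1 : τ * (τ * c) * τ⁻¹ ∈ H := D.hnorm τ D.hτC _ h
      have h2 : c * c = (τ * (τ * c) * τ⁻¹) * (τ * c) := by
        calc c * c = (τ * τ) * c * ((τ * τ) * c) := by rw [D.hτsq, one_mul]
          _ = (τ * (τ * c) * τ) * (τ * c) := by group
          _ = _ := by rw [hτinv]
      rw [h2]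
      exact H.mul_mem h1 h
  obtain ⟨k, hk⟩ := ho
  have h3 : c = (c * c) ^ (k + 1) := by
    rw [← pow_two, ← pow_mul, show 2 * (k + 1) = orderOf c + 1 by omega, pow_succ,
      pow_orderOf_eq_one, one_mul]
  rw [h3]
  exact H.pow_mem hsq _

/-- The decomposition of an element of even order of `H`. -/
theorem DihLocal.section_decomp [Finite G] (D : DihLocal σ τ n ζ H lam) (h : G) (hh : h ∈ H)
    (he : Even (orderOf h)) :
    ∃ (l : ℕ) (c y' : G), 0 < l ∧ l < 2 ^ (n - 1) ∧ c ∈ H ∧ y' ∈ H ∧ Odd (orderOf y') ∧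
      σ ^ l * y' = y' * σ ^ l ∧ h = c * (σ ^ l * y') * c⁻¹ := by
  classical
  obtain ⟨a, y, hxy, hcomm, ⟨k, hk⟩, hreg⟩ :=
    Cfsg.Agent.Lib.helper20.exists_isPPart_zpow Nat.prime_two h
  obtain ⟨u, hu⟩ : ∃ u, u = h ^ a := ⟨_, rfl⟩
  rw [← hu] at hxy hcomm hk
  have huH : u ∈ H := by
    rw [hu]
    exact H.zpow_mem hh a
  have hyH : y ∈ H := by
    have h1 : y = u⁻¹ * h := by
      rw [← hxy]
      group
    rw [h1]
    exact H.mul_mem (H.inv_mem huH) hh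
  have hu1 : u ≠ 1 := by
    intro h1
    rw [h1, one_mul] at hxy
    rw [hxy] at hreg
    exact hreg he.two_dvd
  obtain ⟨c, hc, l, hl⟩ := D.hconjσ u huH ⟨k, hk⟩
  have hσl1 : σ ^ l ≠ 1 := by
    intro h1
    apply hu1
    rw [hl, h1]
    group
  obtain ⟨y', hy'⟩ : ∃ y', y' = c⁻¹ * y * c := ⟨_, rfl⟩
  have hy'o : orderOf y' = orderOf y := by
    rw [hy']
    exact dih_orderOf_conj c y
  have hhc : h = c * (σ ^ l * y') * c⁻¹ := by
    rw [← hxy, hl, hy']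
    group
  have hcomm' : σ ^ l * y' = y' * σ ^ l := by
    have h1 : σ ^ l = c⁻¹ * u * c := by
      rw [hl]
      group
    rw [h1, hy']
    calc c⁻¹ * u * c * (c⁻¹ * y * c) = c⁻¹ * (u * y) * c := by group
      _ = c⁻¹ * (y * u) * c := by rw [hcomm.eq]
      _ = c⁻¹ * y * c * (c⁻¹ * u * c) := by group
  have hpos : 0 < orderOf σ := by
    rw [D.hσo]
    positivity
  refine ⟨l % orderOf σ, c, y', ?_, ?_, hc, ?_, ?_, ?_, ?_⟩
  · rw [Nat.pos_iff_ne_zero]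
    intro h0
    apply hσl1
    rw [← pow_mod_orderOf, h0, pow_zero]
  · rw [← D.hσo]
    exact Nat.mod_lt _ hpos
  · rw [hy']
    exact H.mul_mem (H.mul_mem (H.inv_mem hc) hyH) hc
  · rw [hy'o, ← Nat.not_even_iff_odd, even_iff_two_dvd]
    exact hreg
  · rw [pow_mod_orderOf]
    exact hcomm'
  · rw [pow_mod_orderOf]
    exact hhc

/-- Section constancy, together with the value of `λ`. -/
theorem DihLocal.section_const' [Finite G] (D : DihLocal σ τ n ζ H lam) {M : Ideal AlgInt}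
    (hM : IsPModular 2 M) (h : ↥H) (he : Even (orderOf (h : G))) :
    ∃ l : ℕ, 0 < l ∧ l < 2 ^ (n - 1) ∧ ((lam h : ℂˣ) : ℂ) = ζ ^ l ∧
      ∀ χ : IrrCharacter G, χ ∈ principalBlock M G →
        (χ : G → ℂ) h = (χ : G → ℂ) (σ ^ l) := by
  classical
  have : Fact (Nat.Prime 2) := ⟨Nat.prime_two⟩
  have : Fintype G := Fintype.ofFinite G
  obtain ⟨l, c, y', hl0, hl, hc, hy'H, hy'o, hcomm', hhc⟩ := D.section_decomp (h : G) h.2 he
  have hσl1 : σ ^ l ≠ 1 := by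
    apply pow_ne_one_of_lt_orderOf hl0.ne'
    rw [D.hσo]
    exact hl
  refine ⟨l, hl0, hl, ?_, ?_⟩
  · have h1 : h = (⟨c, hc⟩ : ↥H) * ((⟨σ ^ l, H.pow_mem D.hσH l⟩ : ↥H) * ⟨y', hy'H⟩) *
        (⟨c, hc⟩ : ↥H)⁻¹ := Subtype.ext hhc
    rw [h1, map_mul, map_mul, map_mul, map_inv, D.hlamodd ⟨y', hy'H⟩ hy'o, mul_one,
      mul_comm, inv_mul_cancel_left]
    exact D.lam_sigma l
  · intro χ hχ
    have : Fintype (Subgroup.centralizer ({σ ^ l} : Set G)) := Fintype.ofFinite _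
    have hσlo : ∃ k : ℕ, orderOf (σ ^ l) = 2 ^ k := by
      have h1 : orderOf (σ ^ l) ∣ 2 ^ (n - 1) := by
        rw [← D.hσo]
        exact orderOf_pow_dvd l
      obtain ⟨k, -, hk⟩ := (Nat.dvd_prime_pow Nat.prime_two).mp h1
      exact ⟨k, hk⟩
    obtain ⟨k', hidx⟩ := D.hnilp (σ ^ l) (H.pow_mem D.hσH l) hσl1 hσlo
    have hy'mem : y' ∈ Subgroup.centralizer ({σ ^ l} : Set G) := by
      rw [Subgroup.mem_centralizer_singleton_iff]
      exact hcomm'.symm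
    have hreg' : ¬ 2 ∣ orderOf (⟨y', hy'mem⟩ : Subgroup.centralizer ({σ ^ l} : Set G)) := by
      rw [← Subgroup.orderOf_coe]
      show ¬ 2 ∣ orderOf y'
      rw [← even_iff_two_dvd, Nat.not_even_iff_odd]
      exact hy'o
    have hmem := Cfsg.Agent.Lib.helper4.mem_pPrimeCore_of_pRegular hidx hreg'
    have hsec := (Cfsg.Agent.Lib.helper4.principal_section_avg hM (σ ^ l) hσlo ⟨k', hidx⟩ χ).1 hχ
      ⟨⟨y', hy'mem⟩, hmem⟩
    have hsec' : (χ : G → ℂ) (σ ^ l * y') = (χ : G → ℂ) (σ ^ l) := hsec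
    rw [← hsec', hhc]
    exact isClassFunction_irr χ _ c

/-- `⟨θ_j, χ⟩` computed on `H`, without complex conjugation on `χ`. -/
theorem dihTheta_inner_formula [Fintype G] [Fintype ↥H] (j : ℕ) (χ : IrrCharacter G) :
    classInner (dihTheta H lam j) (χ : G → ℂ) =
      (Nat.card H : ℂ)⁻¹ * ∑ h : ↥H, (1 - (((lam h : ℂˣ) : ℂ)⁻¹) ^ j) * (χ : G → ℂ) h := by
  obtain ⟨mj, hmj⟩ := dihTheta_int (H := H) (lam := lam) j χ
  have h1 : conj (classInner (dihTheta H lam j) (χ : G → ℂ)) =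
      classInner (dihTheta H lam j) (χ : G → ℂ) := by
    rw [hmj]
    simp
  rw [← h1]
  unfold dihTheta
  rw [dih_inner_ind (lam ^ j) _ (isClassFunction_irr χ), map_mul, map_inv₀, Complex.conj_natCast,
    map_sum]
  congr 1
  refine Finset.sum_congr rfl fun h _ => ?_
  rw [map_mul, Complex.conj_conj, map_sub, map_one, hom_conj_eq_inv (lam ^ j) h,
    MonoidHom.inv_apply, MonoidHom.pow_apply, Units.val_inv_eq_inv_val, Units.val_pow_eq_pow_val,
    inv_pow]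

theorem dihTheta_inner_zero [Fintype G] (χ : IrrCharacter G) :
    classInner (dihTheta H lam 0) (χ : G → ℂ) = 0 := by
  classical
  rw [dihTheta_inner_formula]
  simp

/-- The Fourier inversion formula on `H / ker λ`. -/
theorem DihLocal.fourier_key [Fintype G] [Fintype ↥H] (D : DihLocal σ τ n ζ H lam)
    (χ : IrrCharacter G) {l : ℕ} (hl0 : 0 < l) (hl : l < 2 ^ (n - 1)) :
    ∑ j ∈ Finset.range (2 ^ (n - 1)), classInner (dihTheta H lam j) (χ : G → ℂ) * ζ ^ (j * l) =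
      -((2 ^ (n - 1) : ℕ) : ℂ) * (Nat.card H : ℂ)⁻¹ *
        ∑ h : ↥H, (if ((lam h : ℂˣ) : ℂ) = ζ ^ l then (χ : G → ℂ) h else 0) := by
  have hζl : (ζ ^ l) ^ (2 ^ (n - 1)) = 1 := by
    rw [← pow_mul, mul_comm, pow_mul, D.hζ.pow_eq_one, one_pow]
  have hζl1 : ζ ^ l ≠ 1 := D.hζ.pow_ne_one_of_pos_of_lt (by omega) hl
  have hinner : ∀ h : ↥H, ∑ j ∈ Finset.range (2 ^ (n - 1)),
      (1 - (((lam h : ℂˣ) : ℂ)⁻¹) ^ j) * ζ ^ (j * l) =
      -(if ((lam h : ℂˣ) : ℂ) = ζ ^ l then ((2 ^ (n - 1) : ℕ) : ℂ) else 0) := by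
    intro h
    have hu0 : ((lam h : ℂˣ) : ℂ) ≠ 0 := Units.ne_zero _
    have huN : (((lam h : ℂˣ) : ℂ)⁻¹ * ζ ^ l) ^ (2 ^ (n - 1)) = 1 := by
      rw [mul_pow, hζl, mul_one, inv_pow, ← Units.val_pow_eq_pow_val, D.hlampow h]
      simp
    have e1 : ∀ j : ℕ, (1 - (((lam h : ℂˣ) : ℂ)⁻¹) ^ j) * ζ ^ (j * l) =
        (ζ ^ l) ^ j - (((lam h : ℂˣ) : ℂ)⁻¹ * ζ ^ l) ^ j := by
      intro j
      rw [mul_pow, ← pow_mul, mul_comm l j]
      ring
    simp_rw [e1]
    rw [Finset.sum_sub_distrib, dih_geom _ _ hζl, dih_geom _ _ huN, if_neg hζl1, zero_sub]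
    congr 1
    have e2 : (((lam h : ℂˣ) : ℂ)⁻¹ * ζ ^ l = 1) ↔ ((lam h : ℂˣ) : ℂ) = ζ ^ l := by
      constructor
      · intro h1
        field_simp at h1
        exact h1.symm
      · intro h1
        rw [← h1]
        exact inv_mul_cancel₀ hu0
    by_cases h2 : ((lam h : ℂˣ) : ℂ) = ζ ^ l
    · rw [if_pos h2, if_pos (e2.mpr h2)]
    · rw [if_neg h2, if_neg (fun h' => h2 (e2.mp h'))]
  have e : ∀ j : ℕ, classInner (dihTheta H lam j) (χ : G → ℂ) * ζ ^ (j * l) =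
      ∑ h : ↥H, (Nat.card H : ℂ)⁻¹ *
        ((χ : G → ℂ) h * ((1 - (((lam h : ℂˣ) : ℂ)⁻¹) ^ j) * ζ ^ (j * l))) := by
    intro j
    rw [dihTheta_inner_formula, Finset.mul_sum, Finset.sum_mul]
    refine Finset.sum_congr rfl fun h _ => ?_
    ring
  rw [Finset.sum_congr rfl (fun j _ => e j), Finset.sum_comm, Finset.mul_sum]
  refine Finset.sum_congr rfl fun h _ => ?_
  rw [← Finset.mul_sum, ← Finset.mul_sum, hinner h]
  split_ifs <;> ring

/-- The fibres of `λ` all have `|H| / 2^(n-1)` elements. -/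
theorem DihLocal.fiber_count [Fintype G] [Fintype ↥H] (D : DihLocal σ τ n ζ H lam) {l : ℕ}
    (hl0 : 0 < l) (hl : l < 2 ^ (n - 1)) :
    ((2 ^ (n - 1) : ℕ) : ℂ) *
        ∑ h : ↥H, (if ((lam h : ℂˣ) : ℂ) = ζ ^ l then (1 : ℂ) else 0) = (Nat.card H : ℂ) := by
  have hH0 : (Nat.card H : ℂ) ≠ 0 := by exact_mod_cast Nat.card_pos.ne'
  have hζl : (ζ ^ l) ^ (2 ^ (n - 1)) = 1 := by
    rw [← pow_mul, mul_comm, pow_mul, D.hζ.pow_eq_one, one_pow]
  have hζl1 : ζ ^ l ≠ 1 := D.hζ.pow_ne_one_of_pos_of_lt (by omega) hl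
  have hkey := D.fourier_key (trivIrr G) hl0 hl
  have hc : ∀ j ∈ Finset.range (2 ^ (n - 1)),
      classInner (dihTheta H lam j) ((trivIrr G : IrrCharacter G) : G → ℂ) * ζ ^ (j * l) =
        (ζ ^ l) ^ j - (if j = 0 then 1 else 0) := by
    intro j hj
    rw [Finset.mem_range] at hj
    by_cases h0 : j = 0
    · rw [h0, if_pos rfl, dihTheta_inner_zero]
      simp
    · rw [if_neg h0,
        show classInner (dihTheta H lam j) ((trivIrr G : IrrCharacter G) : G → ℂ) = 1 from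
          D.theta_one (by omega) hj, one_mul, sub_zero, ← pow_mul, mul_comm]
  have hpos : 0 < 2 ^ (n - 1) := by positivity
  rw [Finset.sum_congr rfl hc, Finset.sum_sub_distrib, dih_geom _ _ hζl, if_neg hζl1,
    Finset.sum_ite_eq', if_pos (Finset.mem_range.mpr hpos)] at hkey
  have hkey' : (0 : ℂ) - 1 = -((2 ^ (n - 1) : ℕ) : ℂ) * (Nat.card H : ℂ)⁻¹ *
      ∑ h : ↥H, (if ((lam h : ℂˣ) : ℂ) = ζ ^ l then (1 : ℂ) else 0) := hkey
  field_simp at hkey'
  linear_combination hkey'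

/-- The values of a character of the principal block on the powers of `σ`. -/
theorem DihLocal.value_formula [Fintype G] [Fintype ↥H] (D : DihLocal σ τ n ζ H lam)
    {M : Ideal AlgInt} (hM : IsPModular 2 M) (χ : IrrCharacter G)
    (hχ : χ ∈ principalBlock M G) {l : ℕ} (hl0 : 0 < l) (hl : l < 2 ^ (n - 1)) :
    (χ : G → ℂ) (σ ^ l) = -∑ j ∈ Finset.range (2 ^ (n - 1)),
      classInner (dihTheta H lam j) (χ : G → ℂ) * ζ ^ (j * l) := by
  have hH0 : (Nat.card H : ℂ) ≠ 0 := by exact_mod_cast Nat.card_pos.ne'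
  have hζl1 : ζ ^ l ≠ 1 := D.hζ.pow_ne_one_of_pos_of_lt (by omega) hl
  rw [D.fourier_key χ hl0 hl]
  have hterm : ∀ h : ↥H, (if ((lam h : ℂˣ) : ℂ) = ζ ^ l then (χ : G → ℂ) h else 0) =
      (χ : G → ℂ) (σ ^ l) * (if ((lam h : ℂˣ) : ℂ) = ζ ^ l then (1 : ℂ) else 0) := by
    intro h
    split_ifs with hh
    · rw [mul_one]
      have he : Even (orderOf (h : G)) := by
        by_contra hodd
        rw [Nat.not_even_iff_odd] at hodd
        have h1 := D.hlamodd h hodd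
        rw [h1] at hh
        exact hζl1 hh.symm
      obtain ⟨l', hl'0, hl', hlam, hval⟩ := D.section_const' hM h he
      have hll : l' = l := D.hζ.pow_inj hl' hl (hlam.symm.trans hh)
      rw [hval χ hχ, hll]
    · rw [mul_zero]
  rw [Finset.sum_congr rfl (fun h _ => hterm h), ← Finset.mul_sum]
  have hcount := D.fiber_count hl0 hl
  field_simp
  linear_combination (-(χ : G → ℂ) (σ ^ l)) * hcount

/-- Characters outside the principal block have vanishing Fourier sum at the central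
involution. -/
theorem DihLocal.not_mem_sum_zero [Fintype G] [Fintype ↥H] (D : DihLocal σ τ n ζ H lam)
    {M : Ideal AlgInt} (hM : IsPModular 2 M) (χ : IrrCharacter G)
    (hχ : χ ∉ principalBlock M G) :
    ∑ j ∈ Finset.range (2 ^ (n - 1)),
      classInner (dihTheta H lam j) (χ : G → ℂ) * ζ ^ (j * 2 ^ (n - 2)) = 0 := by
  classical
  have : Fact (Nat.Prime 2) := ⟨Nat.prime_two⟩
  have hn := D.hn
  have hN := D.two_pow
  have hmpos : 0 < 2 ^ (n - 2) := by positivity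
  rw [D.fourier_key χ hmpos (by omega)]
  have hzH : σ ^ (2 ^ (n - 2)) ∈ H := H.pow_mem D.hσH _
  have hz1 : σ ^ (2 ^ (n - 2)) ≠ 1 := by
    intro h
    have h2 := D.hz
    rw [h, orderOf_one] at h2
    norm_num at h2
  have hzo : ∃ k : ℕ, orderOf (σ ^ (2 ^ (n - 2))) = 2 ^ k := ⟨1, by rw [D.hz, pow_one]⟩
  obtain ⟨k', hidx⟩ := D.hnilp (σ ^ (2 ^ (n - 2))) hzH hz1 hzo
  have hsec := (Cfsg.Agent.Lib.helper4.principal_section_avg hM (σ ^ (2 ^ (n - 2))) hzo
    ⟨k', hidx⟩ χ).2 hχ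
  have hyodd : ∀ y : pPrimeCore 2 (Subgroup.centralizer ({σ ^ (2 ^ (n - 2))} : Set G)),
      Odd (orderOf ((y : Subgroup.centralizer ({σ ^ (2 ^ (n - 2))} : Set G)) : G)) := by
    intro y
    have h1 := Cfsg.Agent.Lib.helper40.pPrimeCore_card_coprime 2
      (Subgroup.centralizer ({σ ^ (2 ^ (n - 2))} : Set G))
    have h2 : orderOf ((y : Subgroup.centralizer ({σ ^ (2 ^ (n - 2))} : Set G)) : G) ∣
        Nat.card (pPrimeCore 2 (Subgroup.centralizer ({σ ^ (2 ^ (n - 2))} : Set G))) := by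
      rw [Subgroup.orderOf_coe, Subgroup.orderOf_coe]
      exact orderOf_dvd_natCard y
    rw [← Nat.not_even_iff_odd, even_iff_two_dvd]
    intro h3
    have h4 := Nat.Coprime.eq_one_of_dvd h1.symm (h3.trans h2)
    norm_num at h4
  have hyH : ∀ y : pPrimeCore 2 (Subgroup.centralizer ({σ ^ (2 ^ (n - 2))} : Set G)),
      ((y : Subgroup.centralizer ({σ ^ (2 ^ (n - 2))} : Set G)) : G) ∈ H :=
    fun y => D.odd_mem (y : Subgroup.centralizer ({σ ^ (2 ^ (n - 2))} : Set G)).2 (hyodd y)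
  have hmemH : ∀ y : pPrimeCore 2 (Subgroup.centralizer ({σ ^ (2 ^ (n - 2))} : Set G)),
      σ ^ (2 ^ (n - 2)) * ((y : Subgroup.centralizer ({σ ^ (2 ^ (n - 2))} : Set G)) : G) ∈ H :=
    fun y => H.mul_mem hzH (hyH y)
  have hlamy : ∀ y : pPrimeCore 2 (Subgroup.centralizer ({σ ^ (2 ^ (n - 2))} : Set G)),
      ((lam ⟨_, hmemH y⟩ : ℂˣ) : ℂ) = ζ ^ (2 ^ (n - 2)) := by
    intro y
    have h1 : (⟨_, hmemH y⟩ : ↥H) = (⟨σ ^ (2 ^ (n - 2)), hzH⟩ : ↥H) * ⟨_, hyH y⟩ := rfl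
    rw [h1, map_mul, D.hlamodd ⟨_, hyH y⟩ (hyodd y), mul_one]
    exact D.lam_sigma _
  suffices hsum : ∑ h : ↥H,
      (if ((lam h : ℂˣ) : ℂ) = ζ ^ (2 ^ (n - 2)) then (χ : G → ℂ) h else 0) = 0 by
    rw [hsum, mul_zero]
  refine Eq.trans ?_ hsec
  rw [← Finset.sum_filter]
  symm
  apply Finset.sum_bij (fun y _ => (⟨_, hmemH y⟩ : ↥H))
  · intro y _
    rw [Finset.mem_filter]
    exact ⟨Finset.mem_univ _, hlamy y⟩
  · intro y₁ _ y₂ _ h
    have h1 : σ ^ (2 ^ (n - 2)) * ((y₁ : Subgroup.centralizer ({σ ^ (2 ^ (n - 2))} : Set G)) : G)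
        = σ ^ (2 ^ (n - 2)) * ((y₂ : Subgroup.centralizer ({σ ^ (2 ^ (n - 2))} : Set G)) : G) :=
      congrArg Subtype.val h
    exact Subtype.ext (Subtype.ext (mul_left_cancel h1))
  · intro h hh
    rw [Finset.mem_filter] at hh
    have hy0H : (σ ^ (2 ^ (n - 2)))⁻¹ * (h : G) ∈ H := H.mul_mem (H.inv_mem hzH) h.2
    have hlam0 : lam ⟨_, hy0H⟩ = 1 := by
      have h1 : (⟨_, hy0H⟩ : ↥H) = (⟨σ ^ (2 ^ (n - 2)), hzH⟩ : ↥H)⁻¹ * h := rfl
      rw [h1, map_mul, map_inv]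
      apply Units.ext
      rw [Units.val_mul, Units.val_inv_eq_inv_val, hh.2, D.lam_sigma]
      exact inv_mul_cancel₀ (pow_ne_zero _ (D.hζ.ne_zero (by positivity)))
    have hodd0 : Odd (orderOf ((σ ^ (2 ^ (n - 2)))⁻¹ * (h : G))) := by
      by_contra hcon
      rw [Nat.not_odd_iff_even] at hcon
      obtain ⟨l', hl'0, hl', hlam', -⟩ := D.section_const' hM ⟨_, hy0H⟩ hcon
      rw [hlam0] at hlam'
      exact D.hζ.pow_ne_one_of_pos_of_lt (by omega) hl' hlam'.symm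
    have hy0C : (σ ^ (2 ^ (n - 2)))⁻¹ * (h : G) ∈
        Subgroup.centralizer ({σ ^ (2 ^ (n - 2))} : Set G) := D.hHC hy0H
    have hreg' : ¬ 2 ∣ orderOf (⟨_, hy0C⟩ : Subgroup.centralizer ({σ ^ (2 ^ (n - 2))} : Set G)) := by
      rw [← Subgroup.orderOf_coe, ← even_iff_two_dvd, Nat.not_even_iff_odd]
      exact hodd0
    have hmem := Cfsg.Agent.Lib.helper4.mem_pPrimeCore_of_pRegular hidx hreg'
    refine ⟨⟨⟨_, hy0C⟩, hmem⟩, Finset.mem_univ _, ?_⟩
    apply Subtype.ext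
    show σ ^ (2 ^ (n - 2)) * ((σ ^ (2 ^ (n - 2)))⁻¹ * (h : G)) = (h : G)
    group
  · intro y _
    rfl

/-- A character of the principal block does not vanish at an element whose centralizer
contains a Sylow `2`-subgroup. -/
theorem dih_ne_zero [Finite G] {M : Ideal AlgInt} (hM : IsPModular 2 M) (P : Sylow 2 G) (z : G)
    (hPz : (P : Subgroup G) ≤ Subgroup.centralizer ({z} : Set G)) (χ : IrrCharacter G)
    (hχ : χ ∈ principalBlock M G) : (χ : G → ℂ) z ≠ 0 := by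
  have : Fact (Nat.Prime 2) := ⟨Nat.prime_two⟩
  intro h0
  have h : MemLocalIdeal M (centralChar (fun _ : G => (1 : ℂ)) z - centralChar (χ : G → ℂ) z) :=
    hχ z
  rw [centralChar_const_one] at h
  have h2 : centralChar (χ : G → ℂ) z = 0 := by
    unfold centralChar
    rw [h0, mul_zero, zero_div]
  rw [h2, sub_zero] at h
  have hdvd : (Subgroup.centralizer ({z} : Set G)).index ∣ (P : Subgroup G).index :=
    Subgroup.index_dvd_of_le hPz
  exact Cfsg.Agent.Lib.helper80.not_memLocalIdeal_natCast hM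
    (fun hp => P.not_dvd_index (hp.trans hdvd)) h

end Cfsg.Agent.Lib.helper81
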