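import Mathlib

/-!
# Generators of a Sylow subgroup isomorphic to a dihedral group (helper81)
-/

set_option autoImplicit false

namespace Cfsg.Agent.Lib.helper81

universe u

variable {G : Type u} [Group G]

theorem dih_of_iso [Finite G] (P : Sylow 2 G) (n : ℕ) (hn : 3 ≤ n)
    (e : ↥(P : Subgroup G) ≃* DihedralGroup (2 ^ (n - 1))) (σ : G) (hσ : σ ∈ (P : Subgroup G))
    (hσo : orderOf σ = 2 ^ (n - 1)) :
    ∃ τ : G, τ ∈ (P : Subgroup G) ∧ orderOf τ = 2 ∧ τ * σ * τ⁻¹ = σ⁻¹ ∧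
      ∀ x ∈ (P : Subgroup G), x ∈ Subgroup.zpowers σ ∨ τ * x ∈ Subgroup.zpowers σ := by
  have hN4 : 4 ≤ 2 ^ (n - 1) := by
    calc 4 = 2 ^ 2 := rfl
      _ ≤ 2 ^ (n - 1) := Nat.pow_le_pow_right (by norm_num) (by omega)
  have : NeZero (2 ^ (n - 1)) := ⟨by positivity⟩
  have hso : orderOf (e ⟨σ, hσ⟩) = 2 ^ (n - 1) := by
    rw [MulEquiv.orderOf_eq, ← hσo]
    exact Subgroup.orderOf_mk σ hσ
  obtain ⟨i, hi⟩ : ∃ i, e ⟨σ, hσ⟩ = DihedralGroup.r i := by
    cases hs : e ⟨σ, hσ⟩ with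
    | r i => exact ⟨i, rfl⟩
    | sr i =>
      rw [hs, DihedralGroup.orderOf_sr] at hso
      omega
  have hrot : ∀ k : ZMod (2 ^ (n - 1)),
      DihedralGroup.r k ∈ Subgroup.zpowers (DihedralGroup.r i) := by
    have hR : Subgroup.zpowers (DihedralGroup.r i) =
        Subgroup.zpowers (DihedralGroup.r (1 : ZMod (2 ^ (n - 1)))) := by
      apply Subgroup.eq_of_le_of_card_ge
      · rw [Subgroup.zpowers_le, Subgroup.mem_zpowers_iff]
        exact ⟨(i.val : ℤ), by rw [DihedralGroup.r_one_zpow]; simp⟩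
      · rw [Nat.card_zpowers, Nat.card_zpowers, DihedralGroup.orderOf_r_one, ← hi, hso]
    intro k
    rw [hR, Subgroup.mem_zpowers_iff]
    exact ⟨(k.val : ℤ), by rw [DihedralGroup.r_one_zpow]; simp⟩
  obtain ⟨τ', hτ'⟩ : ∃ τ' : ↥(P : Subgroup G), e τ' = DihedralGroup.sr 0 :=
    ⟨e.symm (DihedralGroup.sr 0), e.apply_symm_apply _⟩
  have hpull : ∀ x : ↥(P : Subgroup G), e x ∈ Subgroup.zpowers (DihedralGroup.r i) →
      (x : G) ∈ Subgroup.zpowers σ := by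
    intro x hx
    rw [Subgroup.mem_zpowers_iff] at hx ⊢
    obtain ⟨t, ht⟩ := hx
    refine ⟨t, ?_⟩
    have h1 : e ((⟨σ, hσ⟩ : ↥(P : Subgroup G)) ^ t) = e x := by rw [map_zpow, hi, ht]
    have h2 := e.injective h1
    have h3 := congrArg Subtype.val h2
    simpa using h3
  refine ⟨(τ' : G), τ'.2, ?_, ?_, ?_⟩
  · rw [Subgroup.orderOf_coe, ← MulEquiv.orderOf_eq e, hτ', DihedralGroup.orderOf_sr]
  · have h1 : τ' * ⟨σ, hσ⟩ * τ'⁻¹ = (⟨σ, hσ⟩ : ↥(P : Subgroup G))⁻¹ := by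
      apply e.injective
      rw [map_mul, map_mul, map_inv, map_inv, hτ', hi]
      simp
    exact congrArg Subtype.val h1
  · intro x hx
    cases hs : e ⟨x, hx⟩ with
    | r k =>
      left
      exact hpull ⟨x, hx⟩ (by rw [hs]; exact hrot k)
    | sr k =>
      right
      have h1 : e (τ' * ⟨x, hx⟩) ∈ Subgroup.zpowers (DihedralGroup.r i) := by
        rw [map_mul, hτ', hs, DihedralGroup.sr_mul_sr]
        exact hrot _
      exact hpull (τ' * ⟨x, hx⟩) h1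

end Cfsg.Agent.Lib.helper81
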