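import Mathlib
import Cfsg.Agent.Lib.helper81.DihFourier

/-!
# The principal 2-block of a group with dihedral Sylow 2-subgroups (helper81)
-/

set_option autoImplicit false

namespace Cfsg.Agent.Lib.helper81

open Cfsg Cfsg.Agent.Lib.helper83 Cfsg.Agent.Lib.helper84 Cfsg.Agent.Lib.helper19
open scoped ComplexConjugate

universe u

variable {G : Type u} [Group G] {σ τ : G} {n : ℕ} {ζ : ℂ} {H : Subgroup G} {lam : ↥H →* ℂˣ}

theorem dih_sum_split (m : ℕ) (hm : 1 ≤ m) (f : ℕ → ℂ) :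
    ∑ j ∈ Finset.range (2 * m), f j =
      f 0 + ∑ j ∈ Finset.Ico 1 m, f j + f m + ∑ j ∈ Finset.Ico 1 m, f (2 * m - j) := by
  have h1 : ∑ j ∈ Finset.Ico 1 m, f (2 * m - j) = ∑ j ∈ Finset.Ico (m + 1) (2 * m), f j := by
    have h2 := Finset.sum_Ico_reflect f 1 (m := m) (n := 2 * m) (by omega)
    rw [h2]
    have e1 : 2 * m + 1 - m = m + 1 := by omega
    have e2 : 2 * m + 1 - 1 = 2 * m := by omega
    rw [e1, e2]
  rw [h1, Finset.range_eq_Ico,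
    ← Finset.sum_Ico_consecutive f (show 0 ≤ 1 by omega) (show 1 ≤ 2 * m by omega),
    ← Finset.sum_Ico_consecutive f (show 1 ≤ m by omega) (show m ≤ 2 * m by omega),
    Finset.sum_eq_sum_Ico_succ_bot (show m < 2 * m by omega)]
  have e3 : ∑ j ∈ Finset.Ico 0 1, f j = f 0 := by simp
  rw [e3]
  ring

theorem DihLocal.zeta_half (D : DihLocal σ τ n ζ H lam) : ζ ^ (2 ^ (n - 2)) = -1 := by
  have hn := D.hn
  have h2 : (ζ ^ (2 ^ (n - 2))) ^ 2 = 1 := by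
    rw [← pow_mul, ← pow_succ, show n - 2 + 1 = n - 1 by omega]
    exact D.hζ.pow_eq_one
  have h3 : ζ ^ (2 ^ (n - 2)) ≠ 1 := by
    apply D.hζ.pow_ne_one_of_pos_of_lt (by positivity)
    apply Nat.pow_lt_pow_right (by norm_num) (by omega)
  have h2' : ζ ^ (2 ^ (n - 2)) * ζ ^ (2 ^ (n - 2)) = 1 := by
    rw [← pow_two]
    exact h2
  rcases mul_self_eq_one_iff.mp h2' with h4 | h4
  · exact absurd h4 h3
  · exact h4

/-- The Fourier sum in terms of the coefficients for `1 ≤ j ≤ 2^(n-2)`. -/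
theorem DihLocal.fourier_of_coeffs [Fintype G] (D : DihLocal σ τ n ζ H lam) (χ : IrrCharacter G)
    (l : ℕ) (a : ℕ → ℂ) (b : ℂ)
    (ha : ∀ j, 1 ≤ j → j < 2 ^ (n - 2) → classInner (dihTheta H lam j) (χ : G → ℂ) = a j)
    (hb : classInner (dihTheta H lam (2 ^ (n - 2))) (χ : G → ℂ) = b) :
    ∑ j ∈ Finset.range (2 ^ (n - 1)), classInner (dihTheta H lam j) (χ : G → ℂ) * ζ ^ (j * l) =
      ∑ j ∈ Finset.Ico 1 (2 ^ (n - 2)), a j * (ζ ^ (j * l) + (ζ ^ (j * l))⁻¹) +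
        b * ζ ^ (2 ^ (n - 2) * l) := by
  have hN := D.two_pow
  have hmpos : 0 < 2 ^ (n - 2) := by positivity
  have h2 : ∀ j ∈ Finset.Ico 1 (2 ^ (n - 2)),
      classInner (dihTheta H lam (2 * 2 ^ (n - 2) - j)) (χ : G → ℂ) *
        ζ ^ ((2 * 2 ^ (n - 2) - j) * l) = a j * (ζ ^ (j * l))⁻¹ := by
    intro j hj
    rw [Finset.mem_Ico] at hj
    rw [← hN, D.theta_symm (by omega), ha j hj.1 hj.2]
    congr 1
    apply eq_inv_of_mul_eq_one_left
    rw [← pow_add, ← add_mul, Nat.sub_add_cancel (by omega), pow_mul, D.hζ.pow_eq_one, one_pow]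
  have h3 : ∀ j ∈ Finset.Ico 1 (2 ^ (n - 2)),
      classInner (dihTheta H lam j) (χ : G → ℂ) * ζ ^ (j * l) = a j * ζ ^ (j * l) := by
    intro j hj
    rw [Finset.mem_Ico] at hj
    rw [ha j hj.1 hj.2]
  rw [hN, dih_sum_split _ hmpos, dihTheta_inner_zero, zero_mul, zero_add,
    Finset.sum_congr rfl h2, Finset.sum_congr rfl h3, hb]
  have h4 : ∑ j ∈ Finset.Ico 1 (2 ^ (n - 2)), a j * (ζ ^ (j * l) + (ζ ^ (j * l))⁻¹) =
      ∑ j ∈ Finset.Ico 1 (2 ^ (n - 2)), a j * ζ ^ (j * l) +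
        ∑ j ∈ Finset.Ico 1 (2 ^ (n - 2)), a j * (ζ ^ (j * l))⁻¹ := by
    rw [← Finset.sum_add_distrib]
    refine Finset.sum_congr rfl fun j _ => ?_
    ring
  rw [h4]
  ring

/-- The principal 2-block, from the local data. -/
theorem DihLocal.principal_block [Finite G] (D : DihLocal σ τ n ζ H lam) {M : Ideal AlgInt}
    (hM : IsPModular 2 M) (P : Sylow 2 G)
    (hPz : (P : Subgroup G) ≤ Subgroup.centralizer ({σ ^ (2 ^ (n - 2))} : Set G)) :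
    Nat.card (principalBlock M G) = 3 + 2 ^ (n - 2) ∧
    ∃ (χ₁ χ₂ χ₃ : IrrCharacter G) (χ' : Fin (2 ^ (n - 2) - 1) → IrrCharacter G)
      (δ₁ δ₂ δ₃ : ℤ), (δ₁ = 1 ∨ δ₁ = -1) ∧ (δ₂ = 1 ∨ δ₂ = -1) ∧ (δ₃ = 1 ∨ δ₃ = -1) ∧
      Function.Injective χ' ∧ (χ₁ : G → ℂ) ≠ (fun _ => 1) ∧ (χ₂ : G → ℂ) ≠ (fun _ => 1) ∧
      (χ₃ : G → ℂ) ≠ (fun _ => 1) ∧ χ₁ ≠ χ₂ ∧ χ₁ ≠ χ₃ ∧ χ₂ ≠ χ₃ ∧
      (∀ j, χ' j ≠ χ₁ ∧ χ' j ≠ χ₂ ∧ χ' j ≠ χ₃ ∧ (χ' j : G → ℂ) ≠ (fun _ => 1)) ∧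
      principalBlock M G = {χ : IrrCharacter G | (χ : G → ℂ) = (fun _ => 1) ∨ χ = χ₁ ∨
        χ = χ₂ ∨ χ = χ₃ ∨ ∃ j, χ = χ' j} ∧
      (∀ l : ℕ, 0 < l → l < 2 ^ (n - 1) → (χ₁ : G → ℂ) (σ ^ l) = δ₁ ∧
        (χ₂ : G → ℂ) (σ ^ l) = δ₂ * (-1) ^ (l + 1) ∧
        (χ₃ : G → ℂ) (σ ^ l) = δ₃ * (-1) ^ (l + 1) ∧
        ∀ j : Fin (2 ^ (n - 2) - 1), (χ' j : G → ℂ) (σ ^ l) =
          δ₁ * (ζ ^ (((j : ℕ) + 1) * l) + (ζ ^ (((j : ℕ) + 1) * l))⁻¹)) ∧
      ∀ ρ : G, Odd (orderOf ρ) → ∀ j : Fin (2 ^ (n - 2) - 1),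
        1 + δ₁ * (χ₁ : G → ℂ) ρ = -δ₂ * (χ₂ : G → ℂ) ρ - δ₃ * (χ₃ : G → ℂ) ρ ∧
        1 + δ₁ * (χ₁ : G → ℂ) ρ = δ₁ * (χ' j : G → ℂ) ρ := by
  classical
  have : Fintype G := Fintype.ofFinite G
  have : Fintype (IrrCharacter G) := Fintype.ofFinite _
  have hn := D.hn
  have hN := D.two_pow
  have hmpos : 0 < 2 ^ (n - 2) := by positivity
  have hζm := D.zeta_half
  obtain ⟨χ₁, χ₂, χ₃, y, δ₁, δ₂, δ₃, hδ₁, hδ₂, hδ₃, h12, h13, h23, h1t, h2t, h3t, hy, hyinj,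
    hcj, hcm⟩ := D.theta_structure
  have hδ₁C : ((δ₁ : ℤ) : ℂ) ≠ 0 := by
    rcases hδ₁ with h | h <;> rw [h] <;> norm_num
  have hδ₂C : ((δ₂ : ℤ) : ℂ) ≠ 0 := by
    rcases hδ₂ with h | h <;> rw [h] <;> norm_num
  have hδ₃C : ((δ₃ : ℤ) : ℂ) ≠ 0 := by
    rcases hδ₃ with h | h <;> rw [h] <;> norm_num
  have htrivmem : trivIrr G ∈ principalBlock M G := trivChar_mem_principalBlock hM.2.1.isPrime
  -- the basic sum
  have hT : ∀ l, 0 < l → l < 2 ^ (n - 1) →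
      ∑ j ∈ Finset.Ico 1 (2 ^ (n - 2)), (ζ ^ (j * l) + (ζ ^ (j * l))⁻¹) +
        ζ ^ (2 ^ (n - 2) * l) = -1 := by
    intro l hl0 hl
    have h1 := D.value_formula hM (trivIrr G) htrivmem hl0 hl
    rw [D.fourier_of_coeffs (trivIrr G) l (fun _ => 1) 1
      (fun j hj1 hj2 => D.theta_one (by omega) (by omega)) (D.theta_one hmpos (by omega))] at h1
    have h2 : ((trivIrr G : IrrCharacter G) : G → ℂ) (σ ^ l) = 1 := rfl
    rw [h2] at h1
    simp only [one_mul] at h1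
    linear_combination h1
  -- the Fourier sums
  have hS1 : ∀ l, 0 < l → l < 2 ^ (n - 1) → ∑ j ∈ Finset.range (2 ^ (n - 1)),
      classInner (dihTheta H lam j) (χ₁ : G → ℂ) * ζ ^ (j * l) = -(δ₁ : ℂ) := by
    intro l hl0 hl
    rw [D.fourier_of_coeffs χ₁ l (fun _ => (δ₁ : ℂ)) (δ₁ : ℂ) ?_ ?_]
    · have h1 := hT l hl0 hl
      rw [← Finset.mul_sum]
      linear_combination (δ₁ : ℂ) * h1
    · intro j hj1 hj2
      rw [hcj j hj1 hj2 χ₁, if_neg h1t, if_pos rfl, if_neg (hy j hj1 hj2).1.symm]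
      push_cast
      ring
    · rw [hcm χ₁, if_neg h1t, if_pos rfl, if_neg h12, if_neg h13]
      push_cast
      ring
  have hSy : ∀ k, 1 ≤ k → k < 2 ^ (n - 2) → ∀ l, ∑ j ∈ Finset.range (2 ^ (n - 1)),
      classInner (dihTheta H lam j) (y k : G → ℂ) * ζ ^ (j * l) =
        -(δ₁ : ℂ) * (ζ ^ (k * l) + (ζ ^ (k * l))⁻¹) := by
    intro k hk1 hk2 l
    have hyk := hy k hk1 hk2
    rw [D.fourier_of_coeffs (y k) l (fun j => if j = k then -(δ₁ : ℂ) else 0) 0 ?_ ?_]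
    · rw [zero_mul, add_zero]
      simp_rw [ite_mul, zero_mul]
      rw [Finset.sum_ite_eq', if_pos (Finset.mem_Ico.mpr ⟨hk1, hk2⟩)]
    · intro j hj1 hj2
      rw [hcj j hj1 hj2 (y k), if_neg hyk.2.2.2, if_neg hyk.1]
      by_cases hjk : j = k
      · rw [hjk, if_pos rfl, if_pos rfl]
        push_cast
        ring
      · rw [if_neg (fun h => hjk (hyinj k j hk1 hk2 hj1 hj2 h).symm), if_neg hjk]
        push_cast
        ring
    · rw [hcm (y k), if_neg hyk.2.2.2, if_neg hyk.1, if_neg hyk.2.1, if_neg hyk.2.2.1]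
      push_cast
      ring
  have hS2 : ∀ l, ∑ j ∈ Finset.range (2 ^ (n - 1)),
      classInner (dihTheta H lam j) (χ₂ : G → ℂ) * ζ ^ (j * l) =
        (δ₂ : ℂ) * ζ ^ (2 ^ (n - 2) * l) := by
    intro l
    rw [D.fourier_of_coeffs χ₂ l (fun _ => 0) (δ₂ : ℂ) ?_ ?_]
    · simp
    · intro j hj1 hj2
      rw [hcj j hj1 hj2 χ₂, if_neg h2t, if_neg h12.symm, if_neg (hy j hj1 hj2).2.1.symm]
      push_cast
      ring
    · rw [hcm χ₂, if_neg h2t, if_neg h12.symm, if_pos rfl, if_neg h23]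
      push_cast
      ring
  have hS3 : ∀ l, ∑ j ∈ Finset.range (2 ^ (n - 1)),
      classInner (dihTheta H lam j) (χ₃ : G → ℂ) * ζ ^ (j * l) =
        (δ₃ : ℂ) * ζ ^ (2 ^ (n - 2) * l) := by
    intro l
    rw [D.fourier_of_coeffs χ₃ l (fun _ => 0) (δ₃ : ℂ) ?_ ?_]
    · simp
    · intro j hj1 hj2
      rw [hcj j hj1 hj2 χ₃, if_neg h3t, if_neg h13.symm, if_neg (hy j hj1 hj2).2.2.1.symm]
      push_cast
      ring
    · rw [hcm χ₃, if_neg h3t, if_neg h13.symm, if_neg h23.symm, if_pos rfl]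
      push_cast
      ring
  have hS0 : ∀ χ : IrrCharacter G, χ ≠ trivIrr G → χ ≠ χ₁ → χ ≠ χ₂ → χ ≠ χ₃ →
      (∀ j, 1 ≤ j → j < 2 ^ (n - 2) → χ ≠ y j) → ∀ l, ∑ j ∈ Finset.range (2 ^ (n - 1)),
      classInner (dihTheta H lam j) (χ : G → ℂ) * ζ ^ (j * l) = 0 := by
    intro χ c1 c2 c3 c4 c5 l
    rw [D.fourier_of_coeffs χ l (fun _ => 0) 0 ?_ ?_]
    · simp
    · intro j hj1 hj2
      rw [hcj j hj1 hj2 χ, if_neg c1, if_neg c2, if_neg (c5 j hj1 hj2)]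
      push_cast
      ring
    · rw [hcm χ, if_neg c1, if_neg c2, if_neg c3, if_neg c4]
      push_cast
      ring
  -- membership in the principal block
  have hmem_of : ∀ χ : IrrCharacter G, ∑ j ∈ Finset.range (2 ^ (n - 1)),
      classInner (dihTheta H lam j) (χ : G → ℂ) * ζ ^ (j * 2 ^ (n - 2)) ≠ 0 →
      χ ∈ principalBlock M G := by
    intro χ h
    by_contra hχ
    exact h (D.not_mem_sum_zero hM χ hχ)
  have hζmm : ζ ^ (2 ^ (n - 2) * 2 ^ (n - 2)) ≠ 0 := pow_ne_zero _ (D.hζ.ne_zero (by positivity))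
  have hm1 : χ₁ ∈ principalBlock M G := by
    apply hmem_of
    rw [hS1 _ hmpos (by omega)]
    exact neg_ne_zero.mpr hδ₁C
  have hm2 : χ₂ ∈ principalBlock M G := by
    apply hmem_of
    rw [hS2]
    exact mul_ne_zero hδ₂C hζmm
  have hm3 : χ₃ ∈ principalBlock M G := by
    apply hmem_of
    rw [hS3]
    exact mul_ne_zero hδ₃C hζmm
  have hmy : ∀ k, 1 ≤ k → k < 2 ^ (n - 2) → y k ∈ principalBlock M G := by
    intro k hk1 hk2
    apply hmem_of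
    rw [hSy k hk1 hk2]
    have e : ζ ^ (k * 2 ^ (n - 2)) = (-1) ^ k := by
      rw [mul_comm, pow_mul, hζm]
    rw [e]
    have e2 : ((-1 : ℂ) ^ k + ((-1 : ℂ) ^ k)⁻¹) ≠ 0 := by
      rcases neg_one_pow_eq_or ℂ k with h | h <;> rw [h] <;> norm_num
    exact mul_ne_zero (neg_ne_zero.mpr hδ₁C) e2
  -- values
  have hv1 : ∀ l, 0 < l → l < 2 ^ (n - 1) → (χ₁ : G → ℂ) (σ ^ l) = δ₁ := by
    intro l hl0 hl
    rw [D.value_formula hM χ₁ hm1 hl0 hl, hS1 l hl0 hl, neg_neg]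
  have hv2 : ∀ l, 0 < l → l < 2 ^ (n - 1) → (χ₂ : G → ℂ) (σ ^ l) = δ₂ * (-1) ^ (l + 1) := by
    intro l hl0 hl
    rw [D.value_formula hM χ₂ hm2 hl0 hl, hS2 l, pow_mul, hζm, pow_succ]
    ring
  have hv3 : ∀ l, 0 < l → l < 2 ^ (n - 1) → (χ₃ : G → ℂ) (σ ^ l) = δ₃ * (-1) ^ (l + 1) := by
    intro l hl0 hl
    rw [D.value_formula hM χ₃ hm3 hl0 hl, hS3 l, pow_mul, hζm, pow_succ]
    ring
  have hvy : ∀ k, 1 ≤ k → k < 2 ^ (n - 2) → ∀ l, 0 < l → l < 2 ^ (n - 1) →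
      (y k : G → ℂ) (σ ^ l) = δ₁ * (ζ ^ (k * l) + (ζ ^ (k * l))⁻¹) := by
    intro k hk1 hk2 l hl0 hl
    rw [D.value_formula hM (y k) (hmy k hk1 hk2) hl0 hl, hSy k hk1 hk2 l]
    ring
  -- completeness
  have hcomplete : ∀ χ ∈ principalBlock M G, χ = trivIrr G ∨ χ = χ₁ ∨ χ = χ₂ ∨ χ = χ₃ ∨
      ∃ k, 1 ≤ k ∧ k < 2 ^ (n - 2) ∧ χ = y k := by
    intro χ hχ
    by_contra hcon
    simp only [not_or, not_exists, not_and] at hcon
    obtain ⟨c1, c2, c3, c4, c5⟩ := hcon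
    have h0 := hS0 χ c1 c2 c3 c4 c5 (2 ^ (n - 2))
    have hv := D.value_formula hM χ hχ hmpos (by omega)
    rw [h0, neg_zero] at hv
    exact dih_ne_zero hM P _ hPz χ hχ hv
  -- odd order relations
  have hodd1 : ∀ ρ : G, Odd (orderOf ρ) → ∀ k, 1 ≤ k → k < 2 ^ (n - 2) →
      1 + δ₁ * (χ₁ : G → ℂ) ρ = δ₁ * (y k : G → ℂ) ρ := by
    intro ρ hρ k hk1 hk2
    have h1 := classFunction_expansion' _ (dihTheta_cf (H := H) (lam := lam) k) ρ
    rw [D.theta_odd k ρ hρ] at h1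
    simp_rw [hcj k hk1 hk2] at h1
    push_cast at h1
    simp only [add_mul, sub_mul, ite_mul, one_mul, zero_mul, Finset.sum_add_distrib,
      Finset.sum_sub_distrib, Finset.sum_ite_eq', Finset.mem_univ, if_true] at h1
    have h2 : ((trivIrr G : IrrCharacter G) : G → ℂ) ρ = 1 := rfl
    rw [h2] at h1
    linear_combination -h1
  have hodd2 : ∀ ρ : G, Odd (orderOf ρ) →
      1 + δ₁ * (χ₁ : G → ℂ) ρ = -δ₂ * (χ₂ : G → ℂ) ρ - δ₃ * (χ₃ : G → ℂ) ρ := by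
    intro ρ hρ
    have h1 := classFunction_expansion' _ (dihTheta_cf (H := H) (lam := lam) (2 ^ (n - 2))) ρ
    rw [D.theta_odd _ ρ hρ] at h1
    simp_rw [hcm] at h1
    push_cast at h1
    simp only [add_mul, ite_mul, one_mul, zero_mul, Finset.sum_add_distrib,
      Finset.sum_ite_eq', Finset.mem_univ, if_true] at h1
    have h2 : ((trivIrr G : IrrCharacter G) : G → ℂ) ρ = 1 := rfl
    rw [h2] at h1
    linear_combination -h1
  -- assembly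
  obtain ⟨χ', hχ'⟩ : ∃ χ' : Fin (2 ^ (n - 2) - 1) → IrrCharacter G,
      ∀ j, χ' j = y ((j : ℕ) + 1) := ⟨fun j => y ((j : ℕ) + 1), fun _ => rfl⟩
  have hjr : ∀ j : Fin (2 ^ (n - 2) - 1), 1 ≤ (j : ℕ) + 1 ∧ (j : ℕ) + 1 < 2 ^ (n - 2) := by
    intro j
    have := j.2
    omega
  have hinj : Function.Injective χ' := by
    intro j k hjk
    rw [hχ', hχ'] at hjk
    have h1 := hyinj _ _ (hjr j).1 (hjr j).2 (hjr k).1 (hjr k).2 hjk
    exact Fin.ext (by omega)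
  have hne_triv : ∀ χ : IrrCharacter G, χ ≠ trivIrr G → (χ : G → ℂ) ≠ (fun _ => 1) := by
    intro χ h h'
    exact h (Subtype.ext h')
  have hχ'prop : ∀ j, χ' j ≠ χ₁ ∧ χ' j ≠ χ₂ ∧ χ' j ≠ χ₃ ∧ (χ' j : G → ℂ) ≠ (fun _ => 1) := by
    intro j
    rw [hχ']
    have h1 := hy _ (hjr j).1 (hjr j).2
    exact ⟨h1.1, h1.2.1, h1.2.2.1, hne_triv _ h1.2.2.2⟩
  have hBeq : principalBlock M G = {χ : IrrCharacter G | (χ : G → ℂ) = (fun _ => 1) ∨ χ = χ₁ ∨
      χ = χ₂ ∨ χ = χ₃ ∨ ∃ j, χ = χ' j} := by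
    ext χ
    rw [Set.mem_ofPred_eq]
    constructor
    · intro hχ
      rcases hcomplete χ hχ with h | h | h | h | ⟨k, hk1, hk2, h⟩
      · left
        rw [h]
        rfl
      · exact Or.inr (Or.inl h)
      · exact Or.inr (Or.inr (Or.inl h))
      · exact Or.inr (Or.inr (Or.inr (Or.inl h)))
      · refine Or.inr (Or.inr (Or.inr (Or.inr ⟨⟨k - 1, by omega⟩, ?_⟩)))
        rw [hχ', h]
        congr 1
        show k = k - 1 + 1
        omega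
    · rintro (h | h | h | h | ⟨j, h⟩)
      · have h' : χ = trivIrr G := Subtype.ext h
        rw [h']
        exact htrivmem
      · rw [h]
        exact hm1
      · rw [h]
        exact hm2
      · rw [h]
        exact hm3
      · rw [h, hχ']
        exact hmy _ (hjr j).1 (hjr j).2
  have hcard : Nat.card (principalBlock M G) = 3 + 2 ^ (n - 2) := by
    have hset : principalBlock M G = ((insert (trivIrr G) (insert χ₁ (insert χ₂ (insert χ₃
        (Finset.univ.image χ')))) : Finset (IrrCharacter G)) : Set (IrrCharacter G)) := by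
      rw [hBeq]
      ext χ
      simp only [Set.mem_ofPred_eq, Finset.coe_insert, Finset.coe_image, Finset.coe_univ,
        Set.image_univ, Set.mem_insert_iff, Set.mem_range]
      constructor
      · rintro (h | h | h | h | ⟨j, h⟩)
        · exact Or.inl (Subtype.ext h)
        · exact Or.inr (Or.inl h)
        · exact Or.inr (Or.inr (Or.inl h))
        · exact Or.inr (Or.inr (Or.inr (Or.inl h)))
        · exact Or.inr (Or.inr (Or.inr (Or.inr ⟨j, h.symm⟩)))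
      · rintro (h | h | h | h | ⟨j, h⟩)
        · left
          rw [h]
          rfl
        · exact Or.inr (Or.inl h)
        · exact Or.inr (Or.inr (Or.inl h))
        · exact Or.inr (Or.inr (Or.inr (Or.inl h)))
        · exact Or.inr (Or.inr (Or.inr (Or.inr ⟨j, h.symm⟩)))
    have hn3 : χ₃ ∉ Finset.univ.image χ' := by
      simp only [Finset.mem_image, Finset.mem_univ, true_and, not_exists]
      intro j h
      exact (hχ'prop j).2.2.1 h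
    have hn2 : χ₂ ∉ insert χ₃ (Finset.univ.image χ') := by
      simp only [Finset.mem_insert, Finset.mem_image, Finset.mem_univ, true_and, not_or,
        not_exists]
      exact ⟨h23, fun j h => (hχ'prop j).2.1 h⟩
    have hn1 : χ₁ ∉ insert χ₂ (insert χ₃ (Finset.univ.image χ')) := by
      simp only [Finset.mem_insert, Finset.mem_image, Finset.mem_univ, true_and, not_or,
        not_exists]
      exact ⟨h12, h13, fun j h => (hχ'prop j).1 h⟩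
    have hn0 : trivIrr G ∉ insert χ₁ (insert χ₂ (insert χ₃ (Finset.univ.image χ'))) := by
      simp only [Finset.mem_insert, Finset.mem_image, Finset.mem_univ, true_and, not_or,
        not_exists]
      refine ⟨fun h => h1t h.symm, fun h => h2t h.symm, fun h => h3t h.symm, fun j h => ?_⟩
      exact (hχ'prop j).2.2.2 (by rw [h]; rfl)
    rw [hset, Nat.card_coe_set_eq, Set.ncard_coe_finset, Finset.card_insert_of_notMem hn0,
      Finset.card_insert_of_notMem hn1, Finset.card_insert_of_notMem hn2,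
      Finset.card_insert_of_notMem hn3, Finset.card_image_of_injective _ hinj, Finset.card_univ,
      Fintype.card_fin]
    omega
  refine ⟨hcard, χ₁, χ₂, χ₃, χ', δ₁, δ₂, δ₃, hδ₁, hδ₂, hδ₃, hinj, hne_triv _ h1t, hne_triv _ h2t,
    hne_triv _ h3t, h12, h13, h23, hχ'prop, hBeq, ?_, ?_⟩
  · intro l hl0 hl
    refine ⟨hv1 l hl0 hl, hv2 l hl0 hl, hv3 l hl0 hl, ?_⟩
    intro j
    rw [hχ']
    exact hvy _ (hjr j).1 (hjr j).2 l hl0 hl
  · intro ρ hρ j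
    refine ⟨hodd2 ρ hρ, ?_⟩
    rw [hχ']
    exact hodd1 ρ hρ _ (hjr j).1 (hjr j).2

end Cfsg.Agent.Lib.helper81
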