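import Mathlib
import Cfsg.Prelude.Def_Characters
import Cfsg.Agent.Lib.helper4.FinOrder

/-!
# Eigenvalue data of a group element in a representation (helper81)

`exists_eigen_data`: for `x ^ n = 1`, a finite family `μ` of `n`-th roots of unity with
`χ(x ^ k) = ∑ μ_i ^ k` for all `k` and `det ρ(x) = ∏ μ_i`.
`det_eq_one_of_perfect`: in a perfect group every `ρ g` has determinant one.
-/

set_option autoImplicit false

namespace Cfsg.Agent.Lib.helper81

open Cfsg

/-- Eigenvalue data of an element of finite order. -/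
theorem exists_eigen_data {G : Type*} [Group G] {V : Type*} [AddCommGroup V] [Module ℂ V]
    [FiniteDimensional ℂ V] (ρ : Representation ℂ G V) (x : G) (n : ℕ) (hn : 0 < n)
    (hx : x ^ n = 1) :
    ∃ (ι : Type) (_ : Fintype ι) (μ : ι → ℂ), (∀ i, μ i ^ n = 1) ∧
      (∀ k : ℕ, ρ.character (x ^ k) = ∑ i, μ i ^ k) ∧
      LinearMap.det (ρ x) = ∏ i, μ i ∧ Fintype.card ι = Module.finrank ℂ V := by
  classical
  have hf : (ρ x) ^ n = 1 := by rw [← map_pow, hx, map_one]
  obtain ⟨ι, hι, b, μ, h1, h2, -, h4⟩ :=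
    helper4.exists_eigenbasis_of_pow_eq_one (ρ x) n hn hf
  refine ⟨ι, hι, μ, h1, ?_, ?_, h4⟩
  · intro k
    have hpow : ∀ i, ((ρ x) ^ k) (b i) = μ i ^ k • b i := by
      intro i
      induction k with
      | zero => simp
      | succ k ih =>
        rw [pow_succ, Module.End.mul_apply, h2, map_smul, ih, smul_smul, pow_succ, mul_comm]
    show LinearMap.trace ℂ V (ρ (x ^ k)) = _
    rw [map_pow, LinearMap.trace_eq_matrix_trace ℂ b, Matrix.trace]
    apply Finset.sum_congr rfl
    intro a _
    simp [Matrix.diag, LinearMap.toMatrix_apply, hpow]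
  · rw [← LinearMap.det_toMatrix b]
    have hdiag : LinearMap.toMatrix b b (ρ x) = Matrix.diagonal μ := by
      ext i j
      rw [LinearMap.toMatrix_apply, h2, Matrix.diagonal_apply]
      by_cases hij : i = j
      · subst hij
        simp
      · rw [if_neg hij]
        simp [Ne.symm hij]
    rw [hdiag, Matrix.det_diagonal]

/-- In a perfect group every element acts with determinant one. -/
theorem det_eq_one_of_perfect {G : Type*} [Group G] (hperf : commutator G = ⊤)
    {V : Type*} [AddCommGroup V] [Module ℂ V] (ρ : Representation ℂ G V) (g : G) :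
    LinearMap.det (ρ g) = 1 := by
  have h1 := Abelianization.commutator_subset_ker
    ((Units.map (LinearMap.det : (V →ₗ[ℂ] V) →* ℂ)).comp ρ.asGroupHom)
  rw [hperf] at h1
  have h2 : g ∈ ((Units.map (LinearMap.det : (V →ₗ[ℂ] V) →* ℂ)).comp ρ.asGroupHom).ker :=
    h1 (Subgroup.mem_top g)
  rw [MonoidHom.mem_ker] at h2
  have h3 := congrArg (fun u : ℂˣ => (u : ℂ)) h2
  have h4 : ((ρ.asGroupHom g : (V →ₗ[ℂ] V)ˣ) : V →ₗ[ℂ] V) = ρ g := rfl
  simpa [h4] using h3

end Cfsg.Agent.Lib.helper81
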