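import Mathlib
import Cfsg.Agent.Lib.helper80.Cover2
import Cfsg.Agent.Lib.helper80.InducedBr
import Cfsg.Agent.Lib.helper80.CyclicInertial

/-!
# The maximal pair under a root of a block

For a block `B` with defect group `D` and a block `b` of `H = D C_G(D)` inducing `B`, a block `e`
of `C_G(D)` covered by `b` gives a maximal `B`-pair `(D, e)`, and the stabilizer of `(D, e)` lies
in the stabilizer of `b`.
-/

set_option autoImplicit false

namespace Cfsg.Agent.Lib.helper81

open Cfsg

universe u

section HtCover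

variable {G : Type u} [Group G] [Fintype G] {p : ℕ} [Fact p.Prime] {M : Ideal AlgInt}

theorem cover_pair (hM : IsPModular p M) {B : Set (IrrCharacter G)} (hB : IsPBlock M B)
    {D : Subgroup G} (hBD : IsDefectGroup p M B D)
    (H : Subgroup G) (hH : H = D ⊔ Subgroup.centralizer (D : Set G)) {b : Set (IrrCharacter H)}
    (hind : IsInducedBlock M H b B) :
    ∃ e : Set (IrrCharacter (Subgroup.centralizer (D : Set G))),
      IsMaximalBrauerPair p M B D e ∧
      ∀ g : G, g ∈ Subgroup.normalizer (D : Set G) →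
        StabilizesBlock (Subgroup.centralizer (D : Set G)) e g →
        ∀ θ ∈ b, ∀ θ' : IrrCharacter H,
          (∀ h h' : H, (h' : G) = g * h * g⁻¹ → (θ' : H → ℂ) h' = (θ : H → ℂ) h) → θ' ∈ b := by
  classical
  have hMp := helper20.isPrime_of_isPModular hM
  have : Fintype H := Fintype.ofFinite _
  have : Fintype (Subgroup.centralizer (D : Set G)) := Fintype.ofFinite _
  have hP : IsPGroup p D := helper80.IsDefectGroup.isPGroup hBD
  have hPH : D ≤ H := by rw [hH]; exact le_sup_left
  have hCH : Subgroup.centralizer (D : Set G) ≤ H := by rw [hH]; exact le_sup_right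
  have hHN : H ≤ Subgroup.normalizer (D : Set G) := by
    rw [hH]
    exact sup_le Subgroup.le_normalizer (Subgroup.centralizer_le_normalizer _)
  have hb : IsPBlock M b := hind.1
  obtain ⟨e, he, hcov⟩ := helper80.exists_covers hM D H hP hPH hCH hHN hb
  have hbr := (helper80.isInducedBlock_iff_brInd hM D H hP hPH hCH hHN hb hB).mp hind
  obtain ⟨ξ, hξ⟩ := helper80.isPBlock_nonempty hMp he
  obtain ⟨χ, hχ⟩ := helper80.isPBlock_nonempty hMp hB
  obtain ⟨θ₀, hθ₀⟩ := helper80.exists_linked hM D H hP hPH hCH ξ
  have hθ₀b : θ₀ ∈ b := helper80.mem_cover_of_linked hMp D H hPH hb hcov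
    (helper80.subset_orbSet _ H e hξ) hθ₀
  have hbr2 := helper80.brInd_centralizer_of_linked hMp D H hPH hCH hHN hθ₀ (hbr θ₀ hθ₀b χ hχ)
  have hpair : IsBrauerPairOf p M B D e := by
    have := helper80.isBrauerPairOf_of_brInd hM D hP hB hχ hbr2
    rwa [← helper80.eq_blockOf_of_mem hMp he hξ] at this
  refine ⟨e, helper80.isMaximal_of_isDefectGroup hM hpair hBD, ?_⟩
  intro g hgD hgS θ hθ θ' hconj
  have hgH : g ∈ Subgroup.normalizer (H : Set G) := by
    rw [hH]
    exact helper80.mem_normalizer_sup_centralizer D hgD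
  have h1 := helper80.covers_conjSet D H g hgD hgH hcov
  rw [(helper80.stabilizesBlock_iff_eq hMp _ g
    (helper80.normalizer_le_normalizer_centralizer D hgD) he).mp hgS] at h1
  have h2 : helper80.conjSet H g hgH b = b := helper80.covers_unique h1 hcov
  have h3 : θ' = helper80.conjIrr H g hgH θ :=
    helper80.eq_conjIrr_of_isConjCharOf H g hgH hconj
  rw [h3, ← h2]
  exact (helper80.mem_conjSet H g hgH b θ).mpr hθ

end HtCover

end Cfsg.Agent.Lib.helper81
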