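import Mathlib
import Cfsg.Agent.Lib.helper80.BlockFusionRec
import Cfsg.Agent.Lib.helper80.BlockFusionDef

/-!
# A fusion lemma for central subgroups of a defect group

If `(P, e)` is a maximal `B`-pair, `Q ≤ P` is centralized by `P`, `(Q, f) ≤ (P, e)` and `y`
conjugates `(Q, f)` to another pair below `(P, e)` whose subgroup is also centralized by `P`,
then the conjugation by `y` on `Q` is induced by an element of `N_G(P, e)`.
-/

set_option autoImplicit false

namespace Cfsg.Agent.Lib.helper81

open Cfsg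

universe u

section HtFusion

variable {G : Type u} [Group G] [Fintype G] {p : ℕ} [Fact p.Prime] {M : Ideal AlgInt}

theorem fusion_central (hM : IsPModular p M) {B : Set (IrrCharacter G)} {P : Subgroup G}
    {e : Set (IrrCharacter (Subgroup.centralizer (P : Set G)))}
    (hmax : IsMaximalBrauerPair p M B P e) {Q : Subgroup G}
    {f : Set (IrrCharacter (Subgroup.centralizer (Q : Set G)))}
    (hle : SubpairLE p M Q f P e) (hcen : P ≤ Subgroup.centralizer (Q : Set G))
    (y : G)
    (hley : SubpairLE p M (Q.map (MulAut.conj y).toMonoidHom) (conjBlock Q y f) P e)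
    (hceny : P ≤ Subgroup.centralizer
      ((Q.map (MulAut.conj y).toMonoidHom : Subgroup G) : Set G)) :
    ∃ g : G, g ∈ Subgroup.normalizer (P : Set G) ∧
      StabilizesBlock (Subgroup.centralizer (P : Set G)) e g ∧
      ∀ u ∈ Q, g * u * g⁻¹ = y * u * y⁻¹ := by
  classical
  have hMp := helper20.isPrime_of_isPModular hM
  have hPe : IsBrauerPair p M P e := hmax.1.1
  have hF := helper80.isBlockFusionSystemOn_blockFusion hM hmax
  obtain ⟨F, hFdef⟩ : ∃ F : FusionSystem P, F = helper80.blockFusion hM hmax := ⟨_, rfl⟩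
  rw [← hFdef] at hF
  have hQP : Q ≤ P := helper80.subpairLE_le ⟨_, _⟩ ⟨P, e⟩ hle
  have hQyP : Q.map (MulAut.conj y).toMonoidHom ≤ P := helper80.subpairLE_le ⟨_, _⟩ ⟨P, e⟩ hley
  have hfy : IsPBlock M (conjBlock Q y f) :=
    (helper80.subpairLE_isBrauerPair ⟨_, _⟩ ⟨P, e⟩ hley hPe).2
  -- `Q^y` is fully normalized
  have hfn : F.IsFullyNormalized (Q.map (MulAut.conj y).toMonoidHom) := by
    refine ⟨hQyP, fun R _ => ?_⟩
    have h1 : FusionSystem.normalizerIn P (Q.map (MulAut.conj y).toMonoidHom) = P := by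
      unfold FusionSystem.normalizerIn
      exact inf_eq_left.mpr (hceny.trans (Subgroup.centralizer_le_normalizer _))
    rw [h1]
    exact Subgroup.card_le_of_le inf_le_left
  have hT := helper80.mem_stabSub hMp (Q.map (MulAut.conj y).toMonoidHom)
    (conjBlock Q y f) hfy
  obtain ⟨F', hF', hF'c, hD⟩ := (helper80.fullyNormalized_iff hM hF hQyP hfy hley _ hT).mp hfn
  have hrec : F.IsReceptive (Q.map (MulAut.conj y).toMonoidHom) :=
    helper80.isReceptive_of_defect hM hF hQyP hfy hley _ hT hF' hF'c hD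
  -- the conjugation map
  have hφ : conjHom Q y ∈ F.Hom Q := by
    rw [hF.2]
    exact ⟨hQP, y, fun _ => rfl, hQyP, f, hle, hley⟩
  have hrange : (conjHom Q y).range = Q.map (MulAut.conj y).toMonoidHom :=
    helper80.range_conj_eq_map Q y _ (fun _ => rfl)
  obtain ⟨ψ, hψ, hext⟩ := hrec.2 Q (conjHom Q y) hφ hrange
  have hE : FusionSystem.extender P Q (conjHom Q y) = P := by
    apply le_antisymm
    · unfold FusionSystem.extender
      rw [Subgroup.closure_le]
      rintro g ⟨hg, -⟩
      exact hg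
    · intro g hg
      unfold FusionSystem.extender
      apply Subgroup.subset_closure
      refine ⟨hg, Subgroup.centralizer_le_normalizer _ (hcen hg), 1, one_mem _, ?_⟩
      intro x hx
      show y * (g * (x : G) * g⁻¹) * y⁻¹ = 1 * (y * (x : G) * y⁻¹) * 1⁻¹
      have hgx : (x : G) * g = g * (x : G) := (Subgroup.mem_centralizer_iff.mp (hcen hg)) x x.2
      have : g * (x : G) * g⁻¹ = (x : G) := by
        rw [← hgx, mul_assoc, mul_inv_cancel, mul_one]
      rw [this]
      group
  have key : ∀ (E : Subgroup G) (_ : E = P) (ψ : E →* G), ψ ∈ F.Hom E →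
      (∀ (x : G) (hP : x ∈ Q) (hN : x ∈ E), ψ ⟨x, hN⟩ = conjHom Q y ⟨x, hP⟩) →
      ∃ g : G, g ∈ Subgroup.normalizer (P : Set G) ∧
        StabilizesBlock (Subgroup.centralizer (P : Set G)) e g ∧
        ∀ u ∈ Q, g * u * g⁻¹ = y * u * y⁻¹ := by
    intro E hEP ψ' hψ' hext'
    subst hEP
    rw [hF.2] at hψ'
    obtain ⟨-, g, hg, hPg, fE, hfE, hfEg⟩ := hψ'
    have hfEe : fE = e := helper80.subpairLE_unique hM E e hPe _ E fE e rfl hfE
      Relation.ReflTransGen.refl
    subst hfEe
    have hmapeq : E.map (MulAut.conj g).toMonoidHom = E := by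
      apply Subgroup.eq_of_le_of_card_ge hPg
      rw [Subgroup.card_map_of_injective (MulAut.conj g).injective]
    have hpair : helper80.conjPair g ⟨E, fE⟩ = ⟨E, fE⟩ :=
      helper80.eq_of_subpairLE_of_eq hM _ _ hfEg hmapeq
    obtain ⟨hgN, hgS⟩ := helper80.stabilizes_of_conjPair_eq_self hpair
    refine ⟨g, hgN, hgS, fun u hu => ?_⟩
    have h1 := hext' u hu (hQP hu)
    rw [hg] at h1
    exact h1
  exact key _ hE ψ hψ hext

end HtFusion

end Cfsg.Agent.Lib.helper81
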