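import Mathlib
import Cfsg.Agent.Lib.helper79.Subsection
import Cfsg.Agent.Lib.helper80.ConjPair

/-!
# Norms of generalized decomposition maps (helper81)

* `gnorm`: the squared norm `|H|⁻¹ ∑_s |gdm χ s|²` of the `b`-component of the generalized
  decomposition map at `z` (the diagonal contribution of the subsection `(z, b)`);
* `norm_gram_le`: Cauchy–Schwarz for the contributions;
* `gnorm_conjBlock`: invariance under conjugation of the subsection;
* `sum_blocks_gnorm`: summing over all blocks of `C_G(z)` gives the norm of `χ` on the section;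
* `sum_sections_le`: the sections of distinct `p`-elements are disjoint.
-/

set_option autoImplicit false
set_option linter.unusedSectionVars false

namespace Cfsg.Agent.Lib.helper81

open Cfsg
open scoped ComplexConjugate

universe u

section HtGram

variable {G : Type u} [Group G] [Fintype G] {p : ℕ} [Fact p.Prime] {M : Ideal AlgInt}

/-- The squared norm of the generalized decomposition map of `χ` at the subsection `(z, b)`. -/
noncomputable def gnorm (p : ℕ) (H : Subgroup G) [Fintype H] (b : Set (IrrCharacter H)) (z : G)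
    (χ : G → ℂ) : ℝ :=
  (Nat.card H : ℝ)⁻¹ * ∑ s : H, ‖helper79.gdm p H b z χ s‖ ^ 2

theorem gnorm_nonneg (p : ℕ) (H : Subgroup G) [Fintype H] (b : Set (IrrCharacter H)) (z : G)
    (χ : G → ℂ) : 0 ≤ gnorm p H b z χ := by
  unfold gnorm
  positivity

theorem gram_self_eq_gnorm (p : ℕ) (H : Subgroup G) [Fintype H] (b : Set (IrrCharacter H))
    (z : G) (χ : G → ℂ) : helper79.gram p H b z χ χ = (gnorm p H b z χ : ℂ) := by
  unfold helper79.gram gnorm
  push_cast
  congr 1
  apply Finset.sum_congr rfl
  intro s _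
  rw [Complex.mul_conj']

theorem norm_gram_le (p : ℕ) (H : Subgroup G) [Fintype H] (b : Set (IrrCharacter H)) (z : G)
    (χ ψ : G → ℂ) :
    ‖helper79.gram p H b z χ ψ‖ ≤ √(gnorm p H b z χ) * √(gnorm p H b z ψ) := by
  unfold helper79.gram gnorm
  have hc : (0 : ℝ) ≤ (Nat.card H : ℝ)⁻¹ := by positivity
  rw [norm_mul, norm_inv, Complex.norm_natCast, Real.sqrt_mul hc, Real.sqrt_mul hc]
  have h1 : ‖∑ s : H, helper79.gdm p H b z χ s * conj (helper79.gdm p H b z ψ s)‖
      ≤ ∑ s : H, ‖helper79.gdm p H b z χ s‖ * ‖helper79.gdm p H b z ψ s‖ := by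
    refine (norm_sum_le _ _).trans (le_of_eq ?_)
    apply Finset.sum_congr rfl
    intro s _
    rw [norm_mul, RCLike.norm_conj]
  have h2 := Real.sum_mul_le_sqrt_mul_sqrt Finset.univ
    (fun s : H => ‖helper79.gdm p H b z χ s‖) (fun s : H => ‖helper79.gdm p H b z ψ s‖)
  have hs : √((Nat.card H : ℝ)⁻¹) * √((Nat.card H : ℝ)⁻¹) = (Nat.card H : ℝ)⁻¹ :=
    Real.mul_self_sqrt hc
  calc (Nat.card H : ℝ)⁻¹ * ‖∑ s : H, helper79.gdm p H b z χ s *
        conj (helper79.gdm p H b z ψ s)‖
      ≤ (Nat.card H : ℝ)⁻¹ * (√(∑ s : H, ‖helper79.gdm p H b z χ s‖ ^ 2) *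
          √(∑ s : H, ‖helper79.gdm p H b z ψ s‖ ^ 2)) :=
        mul_le_mul_of_nonneg_left (h1.trans h2) hc
    _ = (√((Nat.card H : ℝ)⁻¹) * √((Nat.card H : ℝ)⁻¹)) *
          (√(∑ s : H, ‖helper79.gdm p H b z χ s‖ ^ 2) *
          √(∑ s : H, ‖helper79.gdm p H b z ψ s‖ ^ 2)) := by rw [hs]
    _ = _ := by ring

/-- Conjugating the subsection does not change the norm. -/
theorem gnorm_conjBlock (p : ℕ) (Q : Subgroup G) (x : G)
    [Fintype (Subgroup.centralizer (Q : Set G))]
    [Fintype (Subgroup.centralizer ((Q.map (MulAut.conj x).toMonoidHom : Subgroup G) : Set G))]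
    (f : Set (IrrCharacter (Subgroup.centralizer (Q : Set G)))) (z : G) (χ : G → ℂ)
    (hχ : IsClassFunction G χ) :
    gnorm p (Subgroup.centralizer ((Q.map (MulAut.conj x).toMonoidHom : Subgroup G) : Set G))
      (conjBlock Q x f) (x * z * x⁻¹) χ
    = gnorm p (Subgroup.centralizer (Q : Set G)) f z χ := by
  have hval : ∀ c : Subgroup.centralizer (Q : Set G),
      helper79.gdm p (Subgroup.centralizer
          ((Q.map (MulAut.conj x).toMonoidHom : Subgroup G) : Set G))
        (conjBlock Q x f) (x * z * x⁻¹) χ (helper80.centConj Q x c)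
      = helper79.gdm p (Subgroup.centralizer (Q : Set G)) f z χ c := by
    intro c
    rw [helper79.gdm_apply, helper79.gdm_apply]
    have ho : orderOf (helper80.centConj Q x c) = orderOf c :=
      MulEquiv.orderOf_eq (helper80.centConj Q x) c
    rw [ho]
    by_cases hc : p ∣ orderOf c
    · rw [if_neg (not_not.mpr hc), if_neg (not_not.mpr hc)]
    · rw [if_pos hc, if_pos hc]
      symm
      refine Fintype.sum_equiv (helper80.centConj Q x).toEquiv _ _ (fun k => ?_)
      have h1 : blockCoeff (conjBlock Q x f) ((helper80.centConj Q x).toEquiv k)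
          = blockCoeff f k := by
        rw [helper80.conjBlock_eq_blockMap]
        exact helper80.blockCoeff_blockMap' (helper80.centConj Q x) f k
      rw [h1]
      congr 1
      have h2 : ((((helper80.centConj Q x).toEquiv k :
          Subgroup.centralizer ((Q.map (MulAut.conj x).toMonoidHom : Subgroup G) : Set G)) : G))
          * (x * z * x⁻¹ * ((helper80.centConj Q x c :
            Subgroup.centralizer ((Q.map (MulAut.conj x).toMonoidHom : Subgroup G) : Set G)) : G))
          = x * ((k : G) * (z * (c : G))) * x⁻¹ := by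
        show x * (k : G) * x⁻¹ * (x * z * x⁻¹ * (x * (c : G) * x⁻¹)) = _
        group
      rw [h2, hχ]
  unfold gnorm
  rw [Nat.card_congr (helper80.centConj Q x).toEquiv.symm]
  congr 1
  symm
  refine Fintype.sum_equiv (helper80.centConj Q x).toEquiv _ _ (fun c => ?_)
  have := hval c
  simp only [MulEquiv.toEquiv_eq_coe, MulEquiv.coe_toEquiv]
  rw [this]

/-- Summing the norms over all blocks of `H = C_G(z)` gives the norm of `χ` on the `p`-section
of `z`. -/
theorem sum_blocks_gnorm (hM : IsPModular p M) (H : Subgroup G) [Fintype H] (z : G)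
    (hH : ∀ g : G, g ∈ H ↔ g * z = z * g) (χ : G → ℂ) (hχ : IsClassFunction G χ) :
    ∑ b ∈ helper80.blocks M H, gnorm p H b z χ
      = (Nat.card H : ℝ)⁻¹ *
        ∑ s : H, if ¬ p ∣ orderOf s then ‖χ (z * (s : G))‖ ^ 2 else 0 := by
  have hMp := helper20.isPrime_of_isPModular hM
  obtain ⟨hzH, hzc⟩ := helper79.central_of_centralizer H z hH
  have key : ∀ b ∈ helper80.blocks M H, (gnorm p H b z χ : ℂ)
      = (Nat.card H : ℂ)⁻¹ * ∑ s : H, helper79.gdm p H b z χ s * conj (χ (z * (s : G))) := by
    intro b hb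
    rw [← gram_self_eq_gnorm]
    unfold helper79.gram
    congr 1
    exact helper79.sum_mul_conj_gdm hM H (helper80.mem_blocks.mp hb) z hH
      (helper79.gdm_mem_regSpan p H b z hzH hzc χ hχ) χ
  have hsum : ∀ s : H, ∑ b ∈ helper80.blocks M H, helper79.gdm p H b z χ s
      = if ¬ p ∣ orderOf s then χ (z * (s : G)) else 0 := by
    intro s
    by_cases hs : p ∣ orderOf s
    · rw [if_neg (not_not.mpr hs)]
      apply Finset.sum_eq_zero
      intro b _
      exact helper79.gdm_apply_of_sing p H b z χ hs
    · rw [if_pos hs]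
      have h1 := helper20.sum_blocks_sum_blockCoeff_mul (G := H) hMp
        (fun k : H => χ ((k : G) * (z * (s : G))))
      simp only [OneMemClass.coe_one, one_mul] at h1
      rw [← h1]
      apply Finset.sum_congr rfl
      intro b _
      exact helper79.gdm_apply_of_reg p H b z χ hs
  have hC : ((∑ b ∈ helper80.blocks M H, gnorm p H b z χ : ℝ) : ℂ)
      = (((Nat.card H : ℝ)⁻¹ *
        ∑ s : H, if ¬ p ∣ orderOf s then ‖χ (z * (s : G))‖ ^ 2 else 0 : ℝ) : ℂ) := by
    rw [Complex.ofReal_sum, Finset.sum_congr rfl key, ← Finset.mul_sum, Finset.sum_comm]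
    rw [Complex.ofReal_mul, Complex.ofReal_inv, Complex.ofReal_natCast, Complex.ofReal_sum]
    congr 1
    apply Finset.sum_congr rfl
    intro s _
    rw [← Finset.sum_mul, hsum s]
    by_cases hs : p ∣ orderOf s
    · rw [if_neg (not_not.mpr hs), if_neg (not_not.mpr hs), zero_mul, Complex.ofReal_zero]
    · rw [if_pos hs, if_pos hs, Complex.mul_conj', Complex.ofReal_pow]
  exact_mod_cast hC

open Classical in
/-- The `p`-sections of distinct `p`-elements are disjoint. -/
theorem sum_sections_le (hp : p.Prime) (Φ : G → ℝ) (hΦ : ∀ g, 0 ≤ Φ g) (K : G → Subgroup G)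
    [∀ u, Fintype (K u)] (hK : ∀ u g : G, g ∈ K u → g * u = u * g) :
    ∑ u : G, (if (∃ k : ℕ, orderOf u = p ^ k) then
      ∑ s : K u, (if ¬ p ∣ orderOf s then Φ (u * (s : G)) else 0) else 0) ≤ ∑ g : G, Φ g := by
  have h1 : ∀ u : G, (if (∃ k : ℕ, orderOf u = p ^ k) then
      ∑ s : K u, (if ¬ p ∣ orderOf s then Φ (u * (s : G)) else 0) else 0)
      ≤ ∑ g : G, if IsPPart p g u then Φ g else 0 := by
    intro u
    by_cases hu : ∃ k : ℕ, orderOf u = p ^ k
    · rw [if_pos hu]
      have h2 : ∀ s : K u, (if ¬ p ∣ orderOf s then Φ (u * (s : G)) else 0)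
          ≤ (fun g : G => if IsPPart p g u then Φ g else 0) (u * (s : G)) := by
        intro s
        by_cases hs : p ∣ orderOf s
        · rw [if_neg (not_not.mpr hs)]
          show 0 ≤ (if IsPPart p (u * (s : G)) u then Φ (u * (s : G)) else 0)
          split_ifs
          · exact hΦ _
          · exact le_rfl
        · rw [if_pos hs]
          have hpp : IsPPart p (u * (s : G)) u :=
            helper20.isPPart_mul (hK u s s.2).symm hu (by rw [Subgroup.orderOf_coe]; exact hs)
          show _ ≤ (if IsPPart p (u * (s : G)) u then Φ (u * (s : G)) else 0)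
          rw [if_pos hpp]
      refine (Finset.sum_le_sum (fun s _ => h2 s)).trans ?_
      have hinj : Function.Injective (fun s : K u => u * (s : G)) := by
        intro s s' h
        exact Subtype.ext (mul_left_cancel h)
      rw [← Finset.sum_image (f := fun g : G => if IsPPart p g u then Φ g else 0)
        (s := Finset.univ) (g := fun s : K u => u * (s : G)) (fun a _ b _ h => hinj h)]
      apply Finset.sum_le_sum_of_subset_of_nonneg (Finset.subset_univ _)
      intro g _ _
      split_ifs
      · exact hΦ g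
      · exact le_rfl
    · rw [if_neg hu]
      apply Finset.sum_nonneg
      intro g _
      split_ifs
      · exact hΦ g
      · exact le_rfl
  refine (Finset.sum_le_sum (fun u _ => h1 u)).trans ?_
  rw [Finset.sum_comm]
  apply Finset.sum_le_sum
  intro g _
  by_cases hex : ∃ u, IsPPart p g u
  · obtain ⟨u₀, hu₀⟩ := hex
    rw [Finset.sum_eq_single u₀]
    · rw [if_pos hu₀]
    · intro u _ hne
      rw [if_neg]
      intro hu
      exact hne (helper20.isPPart_unique hp hu hu₀)
    · intro h
      exact absurd (Finset.mem_univ _) h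
  · push Not at hex
    rw [Finset.sum_eq_zero]
    · exact hΦ g
    · intro u _
      rw [if_neg (hex u)]

end HtGram

end Cfsg.Agent.Lib.helper81
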