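import Mathlib
import Cfsg.Agent.Lib.helper79.SubsectionGalois
import Cfsg.Agent.Lib.helper79.SubsectionMajor2
import Cfsg.Agent.Lib.helper79.BrauerFeit
import Cfsg.Agent.Lib.helper79.DefectDeg
import Cfsg.Agent.Lib.helper80.AbelFusion
import Cfsg.Agent.Lib.helper78.KleinDefect
import Cfsg.Agent.S4658

/-!
# Lower bound for the contributions of the central subsections

For a block `B` with maximal pair `(D, e)`, a subgroup `Z ≤ D` centralized by `D`, a character
`χ ∈ B` of height `h` and a character `ψ₀ ∈ B` of height zero, the sum over `z ∈ Z` of the absolute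
values of the contributions `m_z(χ, ψ₀)` of the subsections `(z, f_z)` below `(D, e)` is at least
`|Z| p^h / p^d`.
-/

set_option autoImplicit false

namespace Cfsg.Agent.Lib.helper81

open Cfsg

universe u

theorem int_pow_dvd_of_memLocalRing {p : ℕ} [Fact p.Prime] {M : Ideal AlgInt}
    (hM : IsPModular p M) (k : ℕ) : ∀ (n : ℤ) (R : ℂ), MemLocalRing M R →
      (n : ℂ) = (p : ℂ) ^ k * R → (p : ℤ) ^ k ∣ n := by
  have hp : p.Prime := Fact.out
  have hprime : M.IsPrime := helper79.isPModular_isPrime hM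
  have hpc : (p : ℂ) ≠ 0 := Nat.cast_ne_zero.mpr hp.ne_zero
  induction k with
  | zero => intro n R _ _; simp
  | succ k ih =>
    intro n R hR hn
    have h1 : MemLocalRing M ((p : ℂ) ^ k * R) := by
      apply helper20.memLocalRing_mul hprime _ hR
      have := helper20.memLocalRing_natCast hprime (p ^ k)
      simpa using this
    have h2 : MemLocalIdeal M (n : ℂ) := by
      rw [hn, pow_succ, mul_comm ((p : ℂ) ^ k) (p : ℂ), mul_assoc]
      exact helper20.memLocalIdeal_mul_right hprime (helper79.memLocalIdeal_natCast_of_dvd hM (dvd_refl p)) h1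
    obtain ⟨n', rfl⟩ := helper79.int_dvd_of_memLocalIdeal hM h2
    have h3 : ((n' : ℤ) : ℂ) = (p : ℂ) ^ k * R := by
      have : (p : ℂ) * (n' : ℂ) = (p : ℂ) * ((p : ℂ) ^ k * R) := by
        rw [← mul_assoc, ← pow_succ', ← hn]
        push_cast
        ring
      exact mul_left_cancel₀ hpc this
    obtain ⟨t, rfl⟩ := ih n' R hR h3
    exact ⟨t, by ring⟩

theorem prod_primitiveRoots_eq_prod_coprime {N : ℕ} (hN : 0 < N) {ζ : ℂ}
    (hζ : IsPrimitiveRoot ζ N) (f : ℂ → ℂ) :
    ∏ k ∈ (Finset.range N).filter (fun k => k.Coprime N), f (ζ ^ k) =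
      ∏ ξ ∈ primitiveRoots N ℂ, f ξ := by
  have : NeZero N := ⟨hN.ne'⟩
  refine Finset.prod_bij (fun k _ => ζ ^ k) ?_ ?_ ?_ ?_
  · intro k hk
    rw [Finset.mem_filter] at hk
    exact (mem_primitiveRoots hN).mpr (hζ.pow_of_coprime k hk.2)
  · intro i hi j hj hij
    rw [Finset.mem_filter, Finset.mem_range] at hi hj
    exact hζ.pow_inj hi.1 hj.1 hij
  · intro ξ hξ
    rw [mem_primitiveRoots hN] at hξ
    obtain ⟨i, hi, hcop, hpow⟩ := hζ.isPrimitiveRoot_iff.mp hξ
    exact ⟨i, Finset.mem_filter.mpr ⟨Finset.mem_range.mpr hi, hcop⟩, hpow⟩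
  · intro k _
    rfl

section HtLower

variable {G : Type u} [Group G] [Fintype G] {p : ℕ} [Fact p.Prime] {M : Ideal AlgInt}

theorem lower_aux (hM : IsPModular p M) (K : Subgroup G) [Fintype K]
    {f : Set (IrrCharacter K)} {B : Set (IrrCharacter G)}
    (hB : IsPBlock M B) (hind : IsInducedBlock M K f B) (z : G)
    (hK : ∀ g : G, g ∈ K ↔ g * z = z * g) (N : ℕ) (hN : 0 < N) (hzN : z ^ N = 1)
    (hNp : ∃ c : ℕ, N = p ^ c)
    (hdd : blockDefect p f = blockDefect p B) {χ ψ₀ : IrrCharacter G} (hχ : χ ∈ B)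
    (hψ₀ : ψ₀ ∈ B) (h0 : blockHeight p B (ψ₀ : G → ℂ) = 0) :
    (((Finset.range N).filter (fun k => k.Coprime N)).card : ℝ)
        * (p : ℝ) ^ blockHeight p B (χ : G → ℂ)
      ≤ ∑ j ∈ (Finset.range N).filter (fun k => k.Coprime N),
          (p : ℝ) ^ blockDefect p B *
            ‖helper79.gram p K f (z ^ j) (χ : G → ℂ) (ψ₀ : G → ℂ)‖ := by
  have hp : p.Prime := Fact.out
  have hprime : M.IsPrime := helper79.isPModular_isPrime hM
  have hpc : (p : ℂ) ≠ 0 := Nat.cast_ne_zero.mpr hp.ne_zero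
  have hpr : (0 : ℝ) < (p : ℝ) := by exact_mod_cast hp.pos
  have hb : IsPBlock M f := hind.1
  obtain ⟨hzK, hzc⟩ := helper79.central_of_centralizer K z hK
  have hζ : IsPrimitiveRoot (Complex.exp (2 * Real.pi * Complex.I / (N : ℂ))) N :=
    Complex.isPrimitiveRoot_exp N hN.ne'
  generalize Complex.exp (2 * Real.pi * Complex.I / (N : ℂ)) = ζ at hζ
  obtain ⟨S, hS⟩ : ∃ S : Finset ℕ, S = (Finset.range N).filter (fun k => k.Coprime N) :=
    ⟨_, rfl⟩
  rw [← hS]
  obtain ⟨h, hh⟩ : ∃ h : ℕ, h = blockHeight p B (χ : G → ℂ) := ⟨_, rfl⟩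
  rw [← hh]
  have hord : orderOf z ∣ N := orderOf_dvd_of_pow_eq_one hzN
  obtain ⟨c, hc⟩ := hNp
  obtain ⟨k, -, hkz⟩ : ∃ k ≤ c, orderOf z = p ^ k := (Nat.dvd_prime_pow hp).mp (hc ▸ hord)
  have hcop : ∀ j ∈ S, j.Coprime (orderOf z) := by
    intro j hj
    rw [hS, Finset.mem_filter] at hj
    exact Nat.Coprime.coprime_dvd_right hord hj.2
  have hKj : ∀ j ∈ S, ∀ g : G, g ∈ K ↔ g * z ^ j = z ^ j * g := by
    intro j hj g
    rw [hK g]
    constructor
    · intro h
      exact (Commute.pow_right (show Commute g z from h) j).eq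
    · intro h
      obtain ⟨m, hm⟩ := exists_pow_eq_self_of_coprime (x := z) (hcop j hj)
      have := (Commute.pow_right (show Commute g (z ^ j) from h) m).eq
      rwa [hm] at this
  have hzj : ∀ j ∈ S, ∃ k : ℕ, orderOf (z ^ j) = p ^ k := by
    intro j hj
    refine ⟨k, ?_⟩
    rw [Nat.Coprime.orderOf_pow (hcop j hj).symm, hkz]
  obtain ⟨F, hF⟩ := helper79.exists_poly_gram hM K hb z hzK hzc N hN hzN ζ hζ χ ψ₀
  have hunit : ∀ j ∈ S, ∃ r : ℂ, MemLocalRing M r ∧ ¬ MemLocalIdeal M r ∧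
      Polynomial.aeval (ζ ^ j) F = (p : ℂ) ^ h * r := by
    intro j hj
    obtain ⟨r, hr1, hr2, hr3⟩ := helper79.exists_unit_gram_of_major hM K hB hind (z ^ j)
      (hKj j hj) (hzj j hj) hdd hχ hψ₀ h0
    exact ⟨r, hr1, hr2, by rw [← hF j, hr3, hh]⟩
  choose! r hr1 hr2 hr3 using hunit
  obtain ⟨n, hn⟩ := helper79.exists_int_prod_aeval_primitiveRoots hN F
  have hprod : ∏ ξ ∈ primitiveRoots N ℂ, Polynomial.aeval ξ F
      = ∏ j ∈ S, Polynomial.aeval (ζ ^ j) F := by
    rw [hS]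
    exact (prod_primitiveRoots_eq_prod_coprime hN hζ (fun ξ => Polynomial.aeval ξ F)).symm
  have hn2 : (n : ℂ) = (p : ℂ) ^ (h * S.card) * ∏ j ∈ S, r j := by
    rw [← hn, hprod, Finset.prod_congr rfl hr3, Finset.prod_mul_distrib, Finset.prod_const,
      ← pow_mul]
  have hR : ∀ T : Finset ℕ, T ⊆ S →
      MemLocalRing M (∏ j ∈ T, r j) ∧ ¬ MemLocalIdeal M (∏ j ∈ T, r j) := by
    intro T
    induction T using Finset.induction_on with
    | empty =>
      intro _
      rw [Finset.prod_empty]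
      exact ⟨helper20.memLocalRing_one hprime, helper20.not_memLocalIdeal_one⟩
    | insert a T ha ih =>
      intro hT
      rw [Finset.prod_insert ha]
      have haS : a ∈ S := hT (Finset.mem_insert_self a T)
      obtain ⟨i1, i2⟩ := ih (fun x hx => hT (Finset.mem_insert_of_mem hx))
      exact ⟨helper20.memLocalRing_mul hprime (hr1 a haS) i1,
        helper20.not_memLocalIdeal_mul hprime (hr1 a haS) i1 (hr2 a haS) i2⟩
  obtain ⟨hR1, hR2⟩ := hR S subset_rfl
  have hdvd : (p : ℤ) ^ (h * S.card) ∣ n := int_pow_dvd_of_memLocalRing hM _ n _ hR1 hn2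
  have hn0 : n ≠ 0 := by
    rintro rfl
    rw [Int.cast_zero] at hn2
    have h3 : ∏ j ∈ S, r j = 0 := by
      rcases mul_eq_zero.mp hn2.symm with h | h
      · exact absurd h (pow_ne_zero _ hpc)
      · exact h
    exact hR2 (h3 ▸ helper20.memLocalIdeal_zero hprime)
  have hnabs : (p : ℝ) ^ (h * S.card) ≤ |(n : ℝ)| := by
    obtain ⟨t, rfl⟩ := hdvd
    have ht : t ≠ 0 := by
      rintro rfl
      simp at hn0
    push_cast
    rw [abs_mul, abs_pow, Nat.abs_cast]
    have h4 : (1 : ℝ) ≤ |(t : ℝ)| := by exact_mod_cast Int.one_le_abs ht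
    have h5 : (0 : ℝ) < (p : ℝ) ^ (h * S.card) := by positivity
    nlinarith
  have hScard : (S.card : ℝ) = ((primitiveRoots N ℂ).card : ℝ) := by
    have := helper79.sum_primitiveRoots_eq_sum_coprime hN hζ (fun _ => (1 : ℝ))
    rw [hS]
    simpa using this
  have hScard' : S.card = (primitiveRoots N ℂ).card := by exact_mod_cast hScard
  have hnorm : ∏ ξ ∈ primitiveRoots N ℂ, ‖Polynomial.aeval ξ F‖ = |(n : ℝ)| := by
    rw [← norm_prod, hn, Complex.norm_intCast]
  have hpp : (0 : ℝ) < (p : ℝ) ^ h := by positivity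
  have h1 : 1 ≤ ∏ ξ ∈ primitiveRoots N ℂ, √(‖Polynomial.aeval ξ F‖ / (p : ℝ) ^ h) := by
    have hnn : (0 : ℝ) ≤ ∏ ξ ∈ primitiveRoots N ℂ, √(‖Polynomial.aeval ξ F‖ / (p : ℝ) ^ h) :=
      Finset.prod_nonneg (fun _ _ => Real.sqrt_nonneg _)
    rw [← one_le_sq_iff₀ hnn, ← Finset.prod_pow]
    have h6 : ∀ ξ ∈ primitiveRoots N ℂ, √(‖Polynomial.aeval ξ F‖ / (p : ℝ) ^ h) ^ 2
        = ‖Polynomial.aeval ξ F‖ / (p : ℝ) ^ h := by
      intro ξ _
      exact Real.sq_sqrt (by positivity)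
    rw [Finset.prod_congr rfl h6, Finset.prod_div_distrib, Finset.prod_const, hnorm, ← pow_mul,
      ← hScard', one_le_div (by positivity)]
    exact hnabs
  have h2 := helper79.card_le_sum_sq_of_one_le_prod (primitiveRoots N ℂ)
    (fun ξ => √(‖Polynomial.aeval ξ F‖ / (p : ℝ) ^ h)) (fun _ _ => Real.sqrt_nonneg _) h1
  have h7 : ∑ ξ ∈ primitiveRoots N ℂ, √(‖Polynomial.aeval ξ F‖ / (p : ℝ) ^ h) ^ 2
      = (∑ ξ ∈ primitiveRoots N ℂ, ‖Polynomial.aeval ξ F‖) / (p : ℝ) ^ h := by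
    rw [Finset.sum_div]
    apply Finset.sum_congr rfl
    intro ξ _
    exact Real.sq_sqrt (by positivity)
  rw [h7, ← hScard, le_div_iff₀ hpp,
    ← helper79.sum_primitiveRoots_eq_sum_coprime hN hζ (fun ξ => ‖Polynomial.aeval ξ F‖),
    ← hS] at h2
  refine h2.trans (le_of_eq ?_)
  apply Finset.sum_congr rfl
  intro j _
  rw [← hF j, hdd, norm_mul, norm_pow, Complex.norm_natCast]

theorem lower_bound (hM : IsPModular p M) {B : Set (IrrCharacter G)} (hB : IsPBlock M B)
    {D : Subgroup G} {e : Set (IrrCharacter (Subgroup.centralizer (D : Set G)))}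
    (hmax : IsMaximalBrauerPair p M B D e)
    [∀ Q : Subgroup G, Fintype (Subgroup.centralizer (Q : Set G))]
    (fb : ∀ Q : Subgroup G, Set (IrrCharacter (Subgroup.centralizer (Q : Set G))))
    (Z : Subgroup G) [Fintype Z] (hZD : Z ≤ D) (hZc : D ≤ Subgroup.centralizer (Z : Set G))
    (hfb : ∀ z ∈ Z, SubpairLE p M (Subgroup.zpowers z) (fb (Subgroup.zpowers z)) D e)
    {χ ψ₀ : IrrCharacter G} (hχ : χ ∈ B) (hψ₀ : ψ₀ ∈ B)
    (h0 : blockHeight p B (ψ₀ : G → ℂ) = 0) :
    (Nat.card Z : ℝ) * (p : ℝ) ^ blockHeight p B (χ : G → ℂ) ≤ (p : ℝ) ^ blockDefect p B *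
      ∑ z : Z, ‖helper79.gram p
        (Subgroup.centralizer ((Subgroup.zpowers (z : G) : Subgroup G) : Set G))
        (fb (Subgroup.zpowers (z : G))) (z : G) (χ : G → ℂ) (ψ₀ : G → ℂ)‖ := by
  classical
  have hp : p.Prime := Fact.out
  have hMp := helper20.isPrime_of_isPModular hM
  have hPe : IsBrauerPair p M D e := hmax.1.1
  have hDp : IsPGroup p D := hPe.1
  have hZp : IsPGroup p Z := hDp.to_le hZD
  obtain ⟨c, hc⟩ := IsPGroup.iff_card.mp hZp
  obtain ⟨N, hNdef⟩ : ∃ N : ℕ, N = Nat.card Z := ⟨_, rfl⟩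
  have hN : 0 < N := by rw [hNdef]; exact Nat.card_pos
  have hNp : ∃ c : ℕ, N = p ^ c := ⟨c, by rw [hNdef, hc]⟩
  obtain ⟨S, hS⟩ : ∃ S : Finset ℕ, S = (Finset.range N).filter (fun k => k.Coprime N) :=
    ⟨_, rfl⟩
  obtain ⟨m, hm⟩ : ∃ m : G → ℝ, m = fun z => ‖helper79.gram p
        (Subgroup.centralizer ((Subgroup.zpowers z : Subgroup G) : Set G))
        (fb (Subgroup.zpowers z)) z (χ : G → ℂ) (ψ₀ : G → ℂ)‖ := ⟨_, rfl⟩
  have hDd := helper79.card_eq_of_isDefectGroup hM hB (helper80.isDefectGroup_of_maximal hM hmax)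
  have hgoal : ∑ z : Z, ‖helper79.gram p
        (Subgroup.centralizer ((Subgroup.zpowers (z : G) : Subgroup G) : Set G))
        (fb (Subgroup.zpowers (z : G))) (z : G) (χ : G → ℂ) (ψ₀ : G → ℂ)‖ = ∑ z : Z, m (z : G) := by
    rw [hm]
  rw [hgoal]
  -- per-element bound
  have hone : ∀ z : Z, (S.card : ℝ) * (p : ℝ) ^ blockHeight p B (χ : G → ℂ)
      ≤ ∑ j ∈ S, (p : ℝ) ^ blockDefect p B * m ((z : G) ^ j) := by
    intro z
    have hzN : (z : G) ^ N = 1 := by
      have h1 : z ^ N = 1 := by rw [hNdef]; exact pow_card_eq_one'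
      have h2 := congrArg Subtype.val h1
      simpa using h2
    have hle := hfb z z.2
    have hQZ : Subgroup.zpowers (z : G) ≤ Z := (Subgroup.zpowers_le).mpr z.2
    have hQP : Subgroup.zpowers (z : G) ≤ D := hQZ.trans hZD
    have hQf : IsBrauerPair p M (Subgroup.zpowers (z : G)) (fb (Subgroup.zpowers (z : G))) :=
      helper80.subpairLE_isBrauerPair ⟨_, _⟩ ⟨D, e⟩ hle hPe
    have hPC : D ≤ Subgroup.centralizer ((Subgroup.zpowers (z : G) : Subgroup G) : Set G) :=
      hZc.trans (Subgroup.centralizer_le hQZ)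
    have hpairB : IsBrauerPairOf p M B (Subgroup.zpowers (z : G))
        (fb (Subgroup.zpowers (z : G))) :=
      (Cfsg.Agent.S4658.result p M hM D _ e _ hPe hQf hle B hB).mp hmax.1
    have hind := (helper78.isBrauerPairOf_iff_induced hM _ hQf.1
      (helper78.zpowers_le_centralizer_zpowers (z : G)) _ B).mp hpairB
    have hdef := helper80.isDefectGroup_centralizer_of_le hM hmax hQP hQf.2 hle hPC
    have hcard := helper79.card_eq_of_isDefectGroup hM hQf.2 hdef
    have hdd : blockDefect p (fb (Subgroup.zpowers (z : G))) = blockDefect p B := by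
      rw [helper80.card_subgroupOf_of_le hPC, hDd] at hcard
      exact (Nat.pow_right_injective hp.two_le hcard).symm
    have hK : ∀ g : G, g ∈ Subgroup.centralizer
        ((Subgroup.zpowers (z : G) : Subgroup G) : Set G) ↔ g * (z : G) = (z : G) * g := by
      intro g
      rw [← helper78.centralizer_singleton_eq_zpowers, Subgroup.mem_centralizer_singleton_iff]
    have h1 := lower_aux hM _ hB hind (z : G) hK N hN hzN hNp hdd hχ hψ₀ h0
    rw [← hS] at h1
    refine h1.trans (le_of_eq ?_)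
    apply Finset.sum_congr rfl
    intro j hj
    rw [hm]
    dsimp only
    have hzp : Subgroup.zpowers ((z : G) ^ j) = Subgroup.zpowers (z : G) := by
      rw [hS, Finset.mem_filter] at hj
      have hcop : j.Coprime (orderOf (z : G)) :=
        Nat.Coprime.coprime_dvd_right (orderOf_dvd_of_pow_eq_one hzN) hj.2
      obtain ⟨m', hm'⟩ := exists_pow_eq_self_of_coprime (x := (z : G)) hcop
      apply le_antisymm
      · exact Subgroup.zpowers_le.mpr (pow_mem (Subgroup.mem_zpowers _) j)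
      · refine Subgroup.zpowers_le.mpr ?_
        have := pow_mem (Subgroup.mem_zpowers ((z : G) ^ j)) m'
        rwa [hm'] at this
    rw [hzp]
  have hSpos : (0 : ℝ) < S.card := by
    have : S.Nonempty := by
      by_cases h1 : N = 1
      · refine ⟨0, ?_⟩
        rw [hS, Finset.mem_filter, Finset.mem_range, h1]
        exact ⟨Nat.one_pos, Nat.coprime_one_right 0⟩
      · refine ⟨1, ?_⟩
        rw [hS, Finset.mem_filter, Finset.mem_range]
        exact ⟨by omega, Nat.coprime_one_left N⟩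
    exact_mod_cast Finset.card_pos.mpr this
  have hbij : ∀ j ∈ S, ∑ z : Z, (p : ℝ) ^ blockDefect p B * m ((z : G) ^ j)
      = ∑ z : Z, (p : ℝ) ^ blockDefect p B * m (z : G) := by
    intro j hj
    rw [hS, Finset.mem_filter] at hj
    have hcop : (Nat.card Z).Coprime j := by rw [← hNdef]; exact hj.2.symm
    have h1 := Equiv.sum_comp (powCoprime hcop)
      (fun z : Z => (p : ℝ) ^ blockDefect p B * m (z : G))
    rw [← h1]
    apply Finset.sum_congr rfl
    intro z _
    rw [powCoprime_apply, Subgroup.coe_pow]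
  have hsum : (S.card : ℝ) * ((Nat.card Z : ℝ) * (p : ℝ) ^ blockHeight p B (χ : G → ℂ))
      ≤ (S.card : ℝ) * ((p : ℝ) ^ blockDefect p B * ∑ z : Z, m (z : G)) := by
    calc (S.card : ℝ) * ((Nat.card Z : ℝ) * (p : ℝ) ^ blockHeight p B (χ : G → ℂ))
        = ∑ _z : Z, (S.card : ℝ) * (p : ℝ) ^ blockHeight p B (χ : G → ℂ) := by
          rw [Finset.sum_const, Finset.card_univ, nsmul_eq_mul, Nat.card_eq_fintype_card]
          ring
      _ ≤ ∑ z : Z, ∑ j ∈ S, (p : ℝ) ^ blockDefect p B * m ((z : G) ^ j) :=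
          Finset.sum_le_sum (fun z _ => hone z)
      _ = ∑ j ∈ S, ∑ z : Z, (p : ℝ) ^ blockDefect p B * m ((z : G) ^ j) := Finset.sum_comm
      _ = ∑ j ∈ S, ∑ z : Z, (p : ℝ) ^ blockDefect p B * m (z : G) :=
          Finset.sum_congr rfl hbij
      _ = (S.card : ℝ) * ((p : ℝ) ^ blockDefect p B * ∑ z : Z, m (z : G)) := by
          rw [Finset.sum_const, nsmul_eq_mul, ← Finset.mul_sum]
  exact le_of_mul_le_mul_left hsum hSpos

end HtLower

end Cfsg.Agent.Lib.helper81
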