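import Mathlib
import Cfsg.Agent.Lib.helper81.HtGram
import Cfsg.Agent.Lib.helper81.HtFusion
import Cfsg.Agent.Lib.helper80.PairEq
import Cfsg.Agent.Lib.helper78.KleinDefect

/-!
# Upper bound for the norms of the central subsections

For a maximal pair `(D, e)` and a subgroup `Z ≤ D` centralized by `D`, the sum over `z ∈ Z` of the
norms of the generalized decomposition maps of a character of norm one at the subsections
`(z, f_z) ≤ (D, e)` is at most the index `|T : H|`, for any subgroups `T ⊇ N_G(D, e)` and `H`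
centralizing `Z`.
-/

set_option autoImplicit false

namespace Cfsg.Agent.Lib.helper81

open Cfsg

universe u

section HtUpper

variable {G : Type u} [Group G] [Fintype G] {p : ℕ} [Fact p.Prime] {M : Ideal AlgInt}

omit [Fintype G] in
theorem mem_centralizer_zpowers_iff (u g : G) :
    g ∈ Subgroup.centralizer ((Subgroup.zpowers u : Subgroup G) : Set G) ↔ g * u = u * g := by
  rw [← helper78.centralizer_singleton_eq_zpowers, Subgroup.mem_centralizer_singleton_iff]

open Classical in
theorem card_conj_le (z u : G) :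
    (Finset.univ.filter (fun x : G => x * z * x⁻¹ = u)).card
      ≤ Nat.card (Subgroup.centralizer ((Subgroup.zpowers u : Subgroup G) : Set G)) := by
  by_cases hex : ∃ x₁ : G, x₁ * z * x₁⁻¹ = u
  · obtain ⟨x₁, hx₁⟩ := hex
    have hcard : Nat.card (Subgroup.centralizer ((Subgroup.zpowers u : Subgroup G) : Set G))
        = (Finset.univ.filter (fun g : G =>
            g ∈ Subgroup.centralizer ((Subgroup.zpowers u : Subgroup G) : Set G))).card := by
      rw [Nat.card_eq_fintype_card, Fintype.card_subtype]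
    rw [hcard]
    apply Finset.card_le_card_of_injOn (fun x => x * x₁⁻¹)
    · intro x hx
      rw [Finset.mem_coe, Finset.mem_filter] at hx
      rw [Finset.mem_coe, Finset.mem_filter]
      refine ⟨Finset.mem_univ _, ?_⟩
      rw [mem_centralizer_zpowers_iff]
      calc x * x₁⁻¹ * u = x * x₁⁻¹ * (x₁ * z * x₁⁻¹) := by rw [hx₁]
        _ = (x * z * x⁻¹) * (x * x₁⁻¹) := by group
        _ = u * (x * x₁⁻¹) := by rw [hx.2]
    · intro a _ b _ h
      exact mul_right_cancel h
  · push Not at hex
    rw [Finset.filter_false_of_mem (fun x _ => hex x)]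
    simp

open Classical in
theorem orbit_card_le (T H : Subgroup G) (z₀ : G) (hHz : ∀ h ∈ H, h * z₀ = z₀ * h) :
    (Finset.univ.filter (fun z : G => ∃ t ∈ T, z = t * z₀ * t⁻¹)).card ≤ H.relIndex T := by
  have key : ∀ t₁ t₂ : T, QuotientGroup.leftRel (H.subgroupOf T) t₁ t₂ →
      (t₁ : G) * z₀ * (t₁ : G)⁻¹ = (t₂ : G) * z₀ * (t₂ : G)⁻¹ := by
    intro t₁ t₂ h
    rw [QuotientGroup.leftRel_apply, Subgroup.mem_subgroupOf] at h
    have h1 := hHz _ h
    push_cast at h1
    calc (t₁ : G) * z₀ * (t₁ : G)⁻¹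
        = (t₁ : G) * (z₀ * ((t₁ : G)⁻¹ * (t₂ : G))) * (t₂ : G)⁻¹ := by group
      _ = (t₁ : G) * ((t₁ : G)⁻¹ * (t₂ : G) * z₀) * (t₂ : G)⁻¹ := by rw [h1]
      _ = _ := by group
  have : Fintype (T ⧸ (H.subgroupOf T)) := Fintype.ofFinite _
  obtain ⟨φ, hφ⟩ : ∃ φ : T ⧸ (H.subgroupOf T) → G,
      ∀ t : T, φ (QuotientGroup.mk t) = (t : G) * z₀ * (t : G)⁻¹ :=
    ⟨Quotient.lift (fun t : T => (t : G) * z₀ * (t : G)⁻¹) key, fun t => rfl⟩
  have hsub : Finset.univ.filter (fun z : G => ∃ t ∈ T, z = t * z₀ * t⁻¹)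
      ⊆ Finset.univ.image φ := by
    intro z hz
    rw [Finset.mem_filter] at hz
    obtain ⟨t, ht, rfl⟩ := hz.2
    rw [Finset.mem_image]
    exact ⟨QuotientGroup.mk ⟨t, ht⟩, Finset.mem_univ _, hφ ⟨t, ht⟩⟩
  refine (Finset.card_le_card hsub).trans (Finset.card_image_le.trans ?_)
  rw [Finset.card_univ, ← Nat.card_eq_fintype_card]
  exact le_of_eq rfl

theorem sum_swap4 {α : Type*} [Fintype α] {γ : α → Type*} (bl : ∀ u, Finset (γ u))
    (ind : α → α → ∀ u, γ u → ℝ) (w : ∀ u, γ u → ℝ) :
    ∑ z : α, ∑ x : α, ∑ u : α, ∑ β ∈ bl u, ind z x u β * w u β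
      = ∑ u : α, ∑ β ∈ bl u, (∑ z : α, ∑ x : α, ind z x u β) * w u β := by
  calc ∑ z : α, ∑ x : α, ∑ u : α, ∑ β ∈ bl u, ind z x u β * w u β
      = ∑ z : α, ∑ u : α, ∑ x : α, ∑ β ∈ bl u, ind z x u β * w u β :=
        Finset.sum_congr rfl (fun z _ => Finset.sum_comm)
    _ = ∑ u : α, ∑ z : α, ∑ x : α, ∑ β ∈ bl u, ind z x u β * w u β := Finset.sum_comm
    _ = ∑ u : α, ∑ β ∈ bl u, (∑ z : α, ∑ x : α, ind z x u β) * w u β := by
        apply Finset.sum_congr rfl
        intro u _
        calc ∑ z : α, ∑ x : α, ∑ β ∈ bl u, ind z x u β * w u β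
            = ∑ z : α, ∑ β ∈ bl u, ∑ x : α, ind z x u β * w u β :=
              Finset.sum_congr rfl (fun z _ => Finset.sum_comm)
          _ = ∑ β ∈ bl u, ∑ z : α, ∑ x : α, ind z x u β * w u β := Finset.sum_comm
          _ = ∑ β ∈ bl u, (∑ z : α, ∑ x : α, ind z x u β) * w u β := by
              apply Finset.sum_congr rfl
              intro β _
              rw [Finset.sum_mul]
              apply Finset.sum_congr rfl
              intro z _
              rw [Finset.sum_mul]

open Classical in
theorem upper_bound (hM : IsPModular p M) {B : Set (IrrCharacter G)}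
    {D : Subgroup G} {e : Set (IrrCharacter (Subgroup.centralizer (D : Set G)))}
    (hmax : IsMaximalBrauerPair p M B D e)
    [∀ Q : Subgroup G, Fintype (Subgroup.centralizer (Q : Set G))]
    (fb : ∀ Q : Subgroup G, Set (IrrCharacter (Subgroup.centralizer (Q : Set G))))
    (Z : Subgroup G) (hZD : Z ≤ D) (hZc : D ≤ Subgroup.centralizer (Z : Set G))
    (hfb : ∀ z ∈ Z, SubpairLE p M (Subgroup.zpowers z) (fb (Subgroup.zpowers z)) D e)
    (T H : Subgroup G)
    (hT : ∀ g : G, g ∈ Subgroup.normalizer (D : Set G) →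
      StabilizesBlock (Subgroup.centralizer (D : Set G)) e g → g ∈ T)
    (hHZ : ∀ h ∈ H, ∀ z ∈ Z, h * z = z * h)
    (χ : G → ℂ) (hχ : IsClassFunction G χ) (hnorm : ∑ g : G, ‖χ g‖ ^ 2 ≤ (Nat.card G : ℝ)) :
    ∑ z : G, (if z ∈ Z then
        gnorm p (Subgroup.centralizer ((Subgroup.zpowers z : Subgroup G) : Set G))
          (fb (Subgroup.zpowers z)) z χ else 0) ≤ (H.relIndex T : ℝ) := by
  have hp : p.Prime := Fact.out
  have hPe : IsBrauerPair p M D e := hmax.1.1
  have hZp : IsPGroup p Z := hPe.1.to_le hZD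
  obtain ⟨X, hX⟩ : ∃ X : G → BrauerPairIdx G,
      X = fun z => ⟨Subgroup.zpowers z, fb (Subgroup.zpowers z)⟩ := ⟨_, rfl⟩
  obtain ⟨gn, hgn⟩ : ∃ gn : BrauerPairIdx G → G → ℝ,
      gn = fun Y u => gnorm p (Subgroup.centralizer (Y.1 : Set G)) Y.2 u χ := ⟨_, rfl⟩
  have hgn0 : ∀ Y u, 0 ≤ gn Y u := by
    intro Y u
    rw [hgn]
    exact gnorm_nonneg _ _ _ _ _
  have hconj : ∀ (Y : BrauerPairIdx G) (x u : G),
      gn (helper80.conjPair x Y) (x * u * x⁻¹) = gn Y u := by
    intro Y x u
    rw [hgn]
    exact gnorm_conjBlock p Y.1 x Y.2 u χ hχ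
  have hcollapse : ∀ (Y : BrauerPairIdx G) (u : G), Y.1 = Subgroup.zpowers u → IsPBlock M Y.2 →
      ∑ β ∈ helper80.blocks M
          (Subgroup.centralizer ((Subgroup.zpowers u : Subgroup G) : Set G)),
        (if Y = ⟨Subgroup.zpowers u, β⟩ then gn ⟨Subgroup.zpowers u, β⟩ u else 0) = gn Y u := by
    rintro ⟨Q, f⟩ u hQ hf
    dsimp only at hQ hf
    subst hQ
    rw [Finset.sum_eq_single f]
    · rw [if_pos rfl]
    · intro β _ hβ
      rw [if_neg]
      intro h
      apply hβ
      have := (Sigma.mk.inj_iff.mp h).2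
      exact (eq_of_heq this).symm
    · intro h
      exact absurd (helper80.mem_blocks.mpr hf) h
  have hA : ∀ z ∈ Z, ∀ x : G, gn (X z) z = ∑ u : G,
      ∑ β ∈ helper80.blocks M
          (Subgroup.centralizer ((Subgroup.zpowers u : Subgroup G) : Set G)),
        (if x * z * x⁻¹ = u ∧ helper80.conjPair x (X z) = ⟨Subgroup.zpowers u, β⟩
          then gn ⟨Subgroup.zpowers u, β⟩ u else 0) := by
    intro z hz x
    rw [Finset.sum_eq_single (x * z * x⁻¹)]
    · have h1 : (helper80.conjPair x (X z)).1 = Subgroup.zpowers (x * z * x⁻¹) := by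
        rw [hX]
        show (Subgroup.zpowers z).map (MulAut.conj x).toMonoidHom = _
        rw [MonoidHom.map_zpowers]
        rfl
      have h2 : IsPBlock M (helper80.conjPair x (X z)).2 := by
        rw [hX]
        exact helper80.isPBlock_conjBlock _ x
          (helper80.subpairLE_isBrauerPair ⟨_, _⟩ ⟨D, e⟩ (hfb z hz) hPe).2
      rw [← hconj (X z) x z, ← hcollapse _ _ h1 h2]
      apply Finset.sum_congr rfl
      intro β _
      simp only [true_and]
    · intro u _ hu
      apply Finset.sum_eq_zero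
      intro β _
      rw [if_neg]
      rintro ⟨h, -⟩
      exact hu h.symm
    · intro h
      exact absurd (Finset.mem_univ _) h
  have hfiber : ∀ (u : G) (β : Set (IrrCharacter
        (Subgroup.centralizer ((Subgroup.zpowers u : Subgroup G) : Set G)))),
      ∑ z : G, ∑ x : G, (if z ∈ Z ∧ x * z * x⁻¹ = u ∧
          helper80.conjPair x (X z) = ⟨Subgroup.zpowers u, β⟩ then (1 : ℝ) else 0)
        ≤ (if (∃ k : ℕ, orderOf u = p ^ k) then (H.relIndex T : ℝ) *
            (Nat.card (Subgroup.centralizer ((Subgroup.zpowers u : Subgroup G) : Set G)) : ℝ)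
          else 0) := by
    intro u β
    by_cases hex : ∃ z₀ x₀ : G, z₀ ∈ Z ∧ x₀ * z₀ * x₀⁻¹ = u ∧
        helper80.conjPair x₀ (X z₀) = ⟨Subgroup.zpowers u, β⟩
    · obtain ⟨z₀, x₀, hz₀, hx₀, hp₀⟩ := hex
      have hu : ∃ k : ℕ, orderOf u = p ^ k := by
        obtain ⟨k, hk⟩ := IsPGroup.iff_orderOf.mp hZp ⟨z₀, hz₀⟩
        refine ⟨k, ?_⟩
        rw [← hx₀, ← hk, ← Subgroup.orderOf_coe]
        exact MulEquiv.orderOf_eq (MulAut.conj x₀) z₀
      rw [if_pos hu]
      have horb : ∀ z x : G, z ∈ Z → x * z * x⁻¹ = u →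
          helper80.conjPair x (X z) = ⟨Subgroup.zpowers u, β⟩ →
          ∃ t ∈ T, z = t * z₀ * t⁻¹ := by
        intro z x hz hx hpz
        have hpair : helper80.conjPair (x₀⁻¹ * x) (X z) = X z₀ := by
          rw [← helper80.conjPair_mul, hpz, ← hp₀, helper80.conjPair_inv_conjPair]
        have hle := hfb z hz
        have hley : SubpairLE p M
            ((Subgroup.zpowers z).map (MulAut.conj (x₀⁻¹ * x)).toMonoidHom)
            (conjBlock (Subgroup.zpowers z) (x₀⁻¹ * x) (fb (Subgroup.zpowers z))) D e := by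
          have h1 : Relation.ReflTransGen (NormalSubpairRel p M)
              (helper80.conjPair (x₀⁻¹ * x) (X z)) ⟨D, e⟩ := by
            rw [hpair, hX]
            exact hfb z₀ hz₀
          rw [hX] at h1
          exact h1
        have hcen : D ≤ Subgroup.centralizer ((Subgroup.zpowers z : Subgroup G) : Set G) :=
          hZc.trans (Subgroup.centralizer_le (Subgroup.zpowers_le.mpr hz))
        have hceny : D ≤ Subgroup.centralizer
            (((Subgroup.zpowers z).map (MulAut.conj (x₀⁻¹ * x)).toMonoidHom : Subgroup G)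
              : Set G) := by
          have h1 : (Subgroup.zpowers z).map (MulAut.conj (x₀⁻¹ * x)).toMonoidHom
              = Subgroup.zpowers z₀ := by
            have := congrArg Sigma.fst hpair
            rw [hX] at this
            exact this
          rw [h1]
          exact hZc.trans (Subgroup.centralizer_le (Subgroup.zpowers_le.mpr hz₀))
        obtain ⟨g, hgN, hgS, hgu⟩ := fusion_central hM hmax hle hcen (x₀⁻¹ * x) hley hceny
        refine ⟨g⁻¹, T.inv_mem (hT g hgN hgS), ?_⟩
        have h1 := hgu z (Subgroup.mem_zpowers z)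
        have h2 : x₀⁻¹ * x * z * (x₀⁻¹ * x)⁻¹ = z₀ := by
          calc x₀⁻¹ * x * z * (x₀⁻¹ * x)⁻¹ = x₀⁻¹ * (x * z * x⁻¹) * x₀ := by group
            _ = x₀⁻¹ * (x₀ * z₀ * x₀⁻¹) * x₀ := by rw [hx, hx₀]
            _ = z₀ := by group
        rw [h2] at h1
        rw [← h1]
        group
      have h3 : ∀ z : G, ∑ x : G, (if z ∈ Z ∧ x * z * x⁻¹ = u ∧
            helper80.conjPair x (X z) = ⟨Subgroup.zpowers u, β⟩ then (1 : ℝ) else 0)
          ≤ (if (∃ t ∈ T, z = t * z₀ * t⁻¹) then
              (Nat.card (Subgroup.centralizer ((Subgroup.zpowers u : Subgroup G) : Set G)) : ℝ)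
            else 0) := by
        intro z
        by_cases hzo : ∃ t ∈ T, z = t * z₀ * t⁻¹
        · rw [if_pos hzo]
          calc ∑ x : G, (if z ∈ Z ∧ x * z * x⁻¹ = u ∧
                  helper80.conjPair x (X z) = ⟨Subgroup.zpowers u, β⟩ then (1 : ℝ) else 0)
              ≤ ∑ x : G, (if x * z * x⁻¹ = u then (1 : ℝ) else 0) := by
                apply Finset.sum_le_sum
                intro x _
                by_cases h : x * z * x⁻¹ = u
                · rw [if_pos h]
                  split_ifs <;> norm_num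
                · rw [if_neg h, if_neg (fun hh => h hh.2.1)]
            _ = ((Finset.univ.filter (fun x : G => x * z * x⁻¹ = u)).card : ℝ) := by
                rw [Finset.sum_boole]
            _ ≤ _ := by exact_mod_cast card_conj_le z u
        · rw [if_neg hzo]
          apply le_of_eq
          apply Finset.sum_eq_zero
          intro x _
          rw [if_neg]
          rintro ⟨hz, hx, hpz⟩
          exact hzo (horb z x hz hx hpz)
      refine (Finset.sum_le_sum (fun z _ => h3 z)).trans ?_
      rw [← Finset.sum_filter, Finset.sum_const, nsmul_eq_mul]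
      apply mul_le_mul_of_nonneg_right _ (Nat.cast_nonneg _)
      exact_mod_cast orbit_card_le T H z₀ (fun h hh => hHZ h hh z₀ hz₀)
    · push Not at hex
      have h0 : ∑ z : G, ∑ x : G, (if z ∈ Z ∧ x * z * x⁻¹ = u ∧
          helper80.conjPair x (X z) = ⟨Subgroup.zpowers u, β⟩ then (1 : ℝ) else 0) = 0 := by
        apply Finset.sum_eq_zero
        intro z _
        apply Finset.sum_eq_zero
        intro x _
        rw [if_neg]
        rintro ⟨h1, h2, h3⟩
        exact hex z x h1 h2 h3
      rw [h0]
      split_ifs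
      · positivity
      · exact le_rfl
  have hG : (0 : ℝ) < (Nat.card G : ℝ) := by exact_mod_cast Nat.card_pos
  have hmain : (Nat.card G : ℝ) * ∑ z : G, (if z ∈ Z then gn (X z) z else 0)
      ≤ (H.relIndex T : ℝ) * ∑ g : G, ‖χ g‖ ^ 2 := by
    calc (Nat.card G : ℝ) * ∑ z : G, (if z ∈ Z then gn (X z) z else 0)
        = ∑ z : G, ∑ _x : G, (if z ∈ Z then gn (X z) z else 0) := by
          rw [Finset.mul_sum]
          apply Finset.sum_congr rfl
          intro z _
          rw [Finset.sum_const, Finset.card_univ, nsmul_eq_mul, Nat.card_eq_fintype_card]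
      _ = ∑ z : G, ∑ x : G, ∑ u : G, ∑ β ∈ helper80.blocks M
            (Subgroup.centralizer ((Subgroup.zpowers u : Subgroup G) : Set G)),
            (if z ∈ Z ∧ x * z * x⁻¹ = u ∧
              helper80.conjPair x (X z) = ⟨Subgroup.zpowers u, β⟩ then (1 : ℝ) else 0)
              * gn ⟨Subgroup.zpowers u, β⟩ u := by
          apply Finset.sum_congr rfl
          intro z _
          apply Finset.sum_congr rfl
          intro x _
          by_cases hz : z ∈ Z
          · rw [if_pos hz, hA z hz x]
            apply Finset.sum_congr rfl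
            intro u _
            apply Finset.sum_congr rfl
            intro β _
            by_cases h : x * z * x⁻¹ = u ∧
                helper80.conjPair x (X z) = ⟨Subgroup.zpowers u, β⟩
            · rw [if_pos h, if_pos ⟨hz, h⟩, one_mul]
            · rw [if_neg h, if_neg (fun hh => h hh.2), zero_mul]
          · rw [if_neg hz]
            symm
            apply Finset.sum_eq_zero
            intro u _
            apply Finset.sum_eq_zero
            intro β _
            rw [if_neg (fun hh => hz hh.1), zero_mul]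
      _ = ∑ u : G, ∑ β ∈ helper80.blocks M
            (Subgroup.centralizer ((Subgroup.zpowers u : Subgroup G) : Set G)),
            (∑ z : G, ∑ x : G, (if z ∈ Z ∧ x * z * x⁻¹ = u ∧
              helper80.conjPair x (X z) = ⟨Subgroup.zpowers u, β⟩ then (1 : ℝ) else 0))
              * gn ⟨Subgroup.zpowers u, β⟩ u :=
          sum_swap4 (fun u => helper80.blocks M
            (Subgroup.centralizer ((Subgroup.zpowers u : Subgroup G) : Set G)))
            (fun z x u β => if z ∈ Z ∧ x * z * x⁻¹ = u ∧
              helper80.conjPair x (X z) = ⟨Subgroup.zpowers u, β⟩ then (1 : ℝ) else 0)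
            (fun u β => gn ⟨Subgroup.zpowers u, β⟩ u)
      _ ≤ ∑ u : G, ∑ β ∈ helper80.blocks M
            (Subgroup.centralizer ((Subgroup.zpowers u : Subgroup G) : Set G)),
            (if (∃ k : ℕ, orderOf u = p ^ k) then (H.relIndex T : ℝ) *
              (Nat.card (Subgroup.centralizer ((Subgroup.zpowers u : Subgroup G) : Set G)) : ℝ)
              else 0) * gn ⟨Subgroup.zpowers u, β⟩ u := by
          apply Finset.sum_le_sum
          intro u _
          apply Finset.sum_le_sum
          intro β _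
          exact mul_le_mul_of_nonneg_right (hfiber u β) (hgn0 _ _)
      _ = ∑ u : G, (H.relIndex T : ℝ) * (if (∃ k : ℕ, orderOf u = p ^ k) then
            ∑ s : Subgroup.centralizer ((Subgroup.zpowers u : Subgroup G) : Set G),
              (if ¬ p ∣ orderOf s then ‖χ (u * (s : G))‖ ^ 2 else 0) else 0) := by
          apply Finset.sum_congr rfl
          intro u _
          rw [← Finset.mul_sum]
          have h1 := sum_blocks_gnorm hM
            (Subgroup.centralizer ((Subgroup.zpowers u : Subgroup G) : Set G)) u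
            (mem_centralizer_zpowers_iff u) χ hχ
          have h2 : ∑ β ∈ helper80.blocks M
              (Subgroup.centralizer ((Subgroup.zpowers u : Subgroup G) : Set G)),
              gn ⟨Subgroup.zpowers u, β⟩ u
              = ∑ β ∈ helper80.blocks M
                (Subgroup.centralizer ((Subgroup.zpowers u : Subgroup G) : Set G)),
                gnorm p (Subgroup.centralizer ((Subgroup.zpowers u : Subgroup G) : Set G))
                  β u χ := by
            rw [hgn]
          rw [h2, h1]
          have hK0 : (Nat.card (Subgroup.centralizer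
              ((Subgroup.zpowers u : Subgroup G) : Set G)) : ℝ) ≠ 0 :=
            Nat.cast_ne_zero.mpr Nat.card_pos.ne'
          split_ifs with hu
          · rw [mul_assoc, ← mul_assoc (Nat.card _ : ℝ), mul_inv_cancel₀ hK0, one_mul]
          · rw [zero_mul, mul_zero]
      _ = (H.relIndex T : ℝ) * ∑ u : G, (if (∃ k : ℕ, orderOf u = p ^ k) then
            ∑ s : Subgroup.centralizer ((Subgroup.zpowers u : Subgroup G) : Set G),
              (if ¬ p ∣ orderOf s then ‖χ (u * (s : G))‖ ^ 2 else 0) else 0) := by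
          rw [Finset.mul_sum]
      _ ≤ (H.relIndex T : ℝ) * ∑ g : G, ‖χ g‖ ^ 2 := by
          apply mul_le_mul_of_nonneg_left _ (Nat.cast_nonneg _)
          exact sum_sections_le hp (fun g => ‖χ g‖ ^ 2) (fun g => by positivity)
            (fun u => Subgroup.centralizer ((Subgroup.zpowers u : Subgroup G) : Set G))
            (fun u g hg => (mem_centralizer_zpowers_iff u g).mp hg)
  have hfin : (Nat.card G : ℝ) * ∑ z : G, (if z ∈ Z then gn (X z) z else 0)
      ≤ (Nat.card G : ℝ) * (H.relIndex T : ℝ) := by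
    refine hmain.trans ?_
    rw [mul_comm]
    exact mul_le_mul_of_nonneg_right hnorm (Nat.cast_nonneg _)
  have hres := le_of_mul_le_mul_left hfin hG
  rw [hgn, hX] at hres
  exact hres

end HtUpper

end Cfsg.Agent.Lib.helper81
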