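import Mathlib
import Cfsg.Prelude.Def_Blocks
import Cfsg.Agent.Lib.helper81.Blocks
import Cfsg.Agent.Lib.helper4.Induction
import Cfsg.Agent.Lib.helper80.LocalInt
import Cfsg.Agent.S0932

/-!
# Induced blocks and multiplicities in induced characters (helper81)
-/

set_option autoImplicit false

namespace Cfsg.Agent.Lib.helper81

open Cfsg Cfsg.Agent.Lib.helper20
open scoped ComplexConjugate

universe u

section

variable {G : Type u} [Group G] [Fintype G] {M : Ideal AlgInt}

open Classical in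
/-- Pairing a class function with the coefficients of a block idempotent picks out the
multiplicities in the block, weighted by degrees. -/
theorem sum_blockCoeff_mul_classFun (B : Set (IrrCharacter G)) {F : G → ℂ}
    (hF : IsClassFunction G F) :
    ∑ g : G, blockCoeff B g * F g
      = ∑ χ : IrrCharacter G,
          if χ ∈ B then classInner F (χ : G → ℂ) * (χ : G → ℂ) 1 else 0 := by
  have hexp := Cfsg.Agent.Lib.helper4.classFunction_eq_sum_irr hF
  have h1 : ∀ g : G, F g = ∑ χ : IrrCharacter G, classInner F (χ : G → ℂ) * (χ : G → ℂ) g := by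
    intro g
    have := congrFun hexp g
    rw [Finset.sum_apply] at this
    simpa using this
  have h2 : ∀ χ : IrrCharacter G, ∑ g : G, blockCoeff B g * (χ : G → ℂ) g
      = if χ ∈ B then (χ : G → ℂ) 1 else 0 := by
    intro χ
    have h3 := omega_blockIdem B χ
    unfold omega at h3
    simp_rw [coeff_blockIdem] at h3
    rw [div_eq_iff (irr_one_ne_zero χ)] at h3
    rw [h3]
    split_ifs <;> simp
  calc ∑ g : G, blockCoeff B g * F g
      = ∑ g : G, ∑ χ : IrrCharacter G,
          classInner F (χ : G → ℂ) * (blockCoeff B g * (χ : G → ℂ) g) := by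
        refine Finset.sum_congr rfl (fun g _ => ?_)
        rw [h1 g, Finset.mul_sum]
        refine Finset.sum_congr rfl (fun χ _ => ?_)
        ring
    _ = ∑ χ : IrrCharacter G, classInner F (χ : G → ℂ) *
          ∑ g : G, blockCoeff B g * (χ : G → ℂ) g := by
        rw [Finset.sum_comm]
        refine Finset.sum_congr rfl (fun χ _ => ?_)
        rw [Finset.mul_sum]
    _ = _ := by
        refine Finset.sum_congr rfl (fun χ _ => ?_)
        rw [h2 χ]
        split_ifs <;> simp

open Classical in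
/-- If the block `b` of `H` induces the block `B` of `G`, then for `ζ ∈ b` the sum over `χ ∈ B` of
`⟨ζ^G, χ⟩ χ(1)`, divided by `ζ^G(1)`, is congruent to `1` modulo the local ideal. -/
theorem induced_block_sum (hM : M.IsPrime) (H : Subgroup G) {b : Set (IrrCharacter ↥H)}
    {B : Set (IrrCharacter G)} (hind : IsInducedBlock M H b B) {ζ : IrrCharacter ↥H}
    (hζ : ζ ∈ b) :
    MemLocalIdeal M ((∑ χ : IrrCharacter G,
        if χ ∈ B then classInner (indFun H (ζ : ↥H → ℂ)) (χ : G → ℂ) * (χ : G → ℂ) 1 else 0)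
          / indFun H (ζ : ↥H → ℂ) 1 - 1) := by
  obtain ⟨hb, hB, hcong⟩ := hind
  obtain ⟨χ₀, hχ₀⟩ := isPBlock_nonempty hM hB
  set F : G → ℂ := indFun H (ζ : ↥H → ℂ) with hFdef
  have hFcl : IsClassFunction G F := Cfsg.Agent.Lib.helper4.isClassFunction_indFun H _
  have hFconj : ∀ x y : G, IsConj x y → F x = F y := by
    intro x y hxy
    obtain ⟨c, rfl⟩ := isConj_iff.mp hxy
    exact (hFcl x c).symm
  have hζchar : IsCharacter ↥H (ζ : ↥H → ℂ) :=
    Cfsg.Agent.Lib.helper20.isCharacter_of_isIrrCharacter ζ.2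
  have hc : ∀ g : G, MemLocalIdeal M (centralChar F g - centralChar (χ₀ : G → ℂ) g) := by
    intro g
    rw [hFdef, ← Cfsg.Agent.S0932.result H (ζ : ↥H → ℂ) hζchar g]
    exact hcong ζ hζ χ₀ hχ₀ g
  have h1 := memLocalIdeal_omega_sub hM F (χ₀ : G → ℂ) hFconj (irr_conjInv χ₀) hc
    (blockIdem B) (isCentralElt_blockIdem B) (localCoeff_blockIdem hM hB)
  rw [omega_blockIdem, if_pos hχ₀] at h1
  unfold omega at h1
  simp_rw [coeff_blockIdem] at h1
  rw [sum_blockCoeff_mul_classFun B hFcl] at h1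
  exact h1

end

/-- Arithmetic core: if `(∑ᵢ cᵢ) / N ≡ 1` modulo the local ideal and `p ^ e` exactly divides
`N`, then some `cᵢ` is not divisible by `p ^ (e + 1)`. -/
theorem exists_not_dvd_of_sum_div {p : ℕ} {M : Ideal AlgInt} (hM : IsPModular p M)
    {ι : Type*} [Fintype ι] (c : ι → ℕ) (N e : ℕ) (hN : N ≠ 0) (he : N.factorization p = e)
    (h : MemLocalIdeal M (((∑ i, c i : ℕ) : ℂ) / (N : ℂ) - 1)) :
    ∃ i, ¬ p ^ (e + 1) ∣ c i := by
  have hp : p.Prime := hM.1
  have hMp : M.IsPrime := isPrime_of_isPModular hM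
  by_contra hcon
  push Not at hcon
  have hdvd : p ^ (e + 1) ∣ ∑ i, c i := Finset.dvd_sum (fun i _ => hcon i)
  obtain ⟨T, hT⟩ := hdvd
  have hN' : N = p ^ e * (N / p ^ e) := by
    rw [← he]
    exact (Nat.ordProj_mul_ordCompl_eq_self N p).symm
  have hnd : ¬ p ∣ N / p ^ e := by
    rw [← he]
    exact Nat.not_dvd_ordCompl hp hN
  set N' := N / p ^ e with hN'def
  have hN'0 : (N' : ℂ) ≠ 0 := by
    intro h0
    have : N' = 0 := by exact_mod_cast h0
    rw [this] at hnd
    exact hnd (dvd_zero p)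
  have h3 : MemLocalIdeal M (((∑ i, c i : ℕ) : ℂ) / (N : ℂ)) := by
    have h4 : ((∑ i, c i : ℕ) : ℂ) / (N : ℂ) = (((p * T : ℕ) : AlgInt) : ℂ) / ((N' : ℕ) : ℂ) := by
      have hpe : ((p : ℂ) ^ e) ≠ 0 := pow_ne_zero _ (by exact_mod_cast hp.ne_zero)
      rw [hT]
      conv_lhs => rw [hN']
      push_cast
      rw [div_eq_div_iff (mul_ne_zero hpe hN'0) hN'0]
      ring
    rw [h4]
    apply Cfsg.Agent.Lib.helper80.memLocalIdeal_div_natCast hM _ hnd
    exact Cfsg.Agent.Lib.helper80.natCast_mem hM (Dvd.intro T rfl)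
  have h5 := memLocalIdeal_sub hMp h3 h
  rw [sub_sub_cancel] at h5
  exact not_memLocalIdeal_one h5

end Cfsg.Agent.Lib.helper81
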