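import Mathlib

/-!
# Landau's theorem (helper81)

* `exists_bound_of_sum_inv` : `k` positive integers whose reciprocals sum to a fixed `q > 0` are
  bounded in terms of `k` and `q`.
* `exists_card_bound_of_card_conjClasses` : the order of a finite group is bounded in terms of
  the number of its conjugacy classes.
-/

set_option autoImplicit false

namespace Cfsg.Agent.Lib.helper81

universe u

/-- Positive integers `n₁, …, n_k` with `∑ 1 / nᵢ = q` are bounded in terms of `k` and `q`. -/
theorem exists_bound_of_sum_inv (k : ℕ) : ∀ q : ℚ, 0 < q → ∃ N : ℕ, ∀ s : Multiset ℕ,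
    Multiset.card s = k → (∀ n ∈ s, 0 < n) →
    (s.map (fun n : ℕ => (1 : ℚ) / n)).sum = q → ∀ n ∈ s, n ≤ N := by
  induction k with
  | zero =>
    intro q _
    refine ⟨0, fun s hs _ _ n hn => ?_⟩
    rw [Multiset.card_eq_zero] at hs
    rw [hs] at hn
    exact absurd hn (Multiset.notMem_zero n)
  | succ k ih =>
    intro q hq
    classical
    choose f hf using ih
    obtain ⟨m₀, hm₀⟩ : ∃ m₀ : ℕ, m₀ = ⌊((k + 1 : ℕ) : ℚ) / q⌋₊ := ⟨_, rfl⟩
    refine ⟨max m₀ ((Finset.range (m₀ + 1)).sup
      (fun m : ℕ => if h : 0 < q - 1 / (m : ℚ) then f (q - 1 / (m : ℚ)) h else 0)), ?_⟩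
    intro s hcard hpos hsum n hn
    obtain ⟨m, hm, hmin⟩ := Finset.exists_min_image s.toFinset (fun n => n)
      ⟨n, Multiset.mem_toFinset.mpr hn⟩
    rw [Multiset.mem_toFinset] at hm
    have hmin' : ∀ n' ∈ s, m ≤ n' := fun n' hn' => hmin n' (Multiset.mem_toFinset.mpr hn')
    have hmpos : 0 < m := hpos m hm
    have hmposQ : (0 : ℚ) < (m : ℚ) := by exact_mod_cast hmpos
    -- `m ≤ m₀`
    have hle : q ≤ ((k + 1 : ℕ) : ℚ) * (1 / (m : ℚ)) := by
      rw [← hsum]
      have h1 : (s.map (fun n : ℕ => (1 : ℚ) / n)).sum ≤ (s.map (fun _ : ℕ => (1 : ℚ) / m)).sum := by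
        apply Multiset.sum_map_le_sum_map
        intro n' hn'
        have hn'pos : (0 : ℚ) < (n' : ℚ) := by exact_mod_cast hpos n' hn'
        have hmn : (m : ℚ) ≤ (n' : ℚ) := by exact_mod_cast hmin' n' hn'
        exact one_div_le_one_div_of_le hmposQ hmn
      rw [Multiset.map_const', Multiset.sum_replicate, hcard, nsmul_eq_mul] at h1
      exact h1
    have hmle : m ≤ m₀ := by
      rw [hm₀]
      apply Nat.le_floor
      rw [le_div_iff₀ hq]
      have h2 : ((k + 1 : ℕ) : ℚ) * (1 / (m : ℚ)) = ((k + 1 : ℕ) : ℚ) / (m : ℚ) := by ring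
      rw [h2, le_div_iff₀ hmposQ] at hle
      linarith
    -- split off `m`
    have hs : s = m ::ₘ s.erase m := (Multiset.cons_erase hm).symm
    have hcard' : Multiset.card (s.erase m) = k := by
      have := Multiset.card_erase_of_mem hm
      rw [hcard] at this
      simpa using this
    have hsum' : ((s.erase m).map (fun n : ℕ => (1 : ℚ) / n)).sum = q - 1 / (m : ℚ) := by
      have h3 := hsum
      rw [hs, Multiset.map_cons, Multiset.sum_cons] at h3
      linarith
    have hpos' : ∀ n' ∈ s.erase m, 0 < n' := fun n' hn' => hpos n' (Multiset.mem_of_mem_erase hn')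
    rw [hs, Multiset.mem_cons] at hn
    rcases hn with rfl | hn
    · exact le_trans hmle (le_max_left _ _)
    · have hn0 : (0 : ℚ) < (n : ℚ) := by exact_mod_cast hpos' n hn
      have hq' : 0 < q - 1 / (m : ℚ) := by
        rw [← hsum']
        have h4 : (1 : ℚ) / n ≤ ((s.erase m).map (fun n : ℕ => (1 : ℚ) / n)).sum := by
          apply Multiset.single_le_sum
          · intro x hx
            rw [Multiset.mem_map] at hx
            obtain ⟨n', -, rfl⟩ := hx
            positivity
          · exact Multiset.mem_map_of_mem _ hn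
        have h5 : (0 : ℚ) < 1 / n := by positivity
        linarith
      have h6 := hf (q - 1 / (m : ℚ)) hq' (s.erase m) hcard' hpos' hsum' n hn
      refine le_trans h6 (le_trans ?_ (le_max_right _ _))
      have h7 := Finset.le_sup (f := fun m : ℕ => if h : 0 < q - 1 / (m : ℚ) then
        f (q - 1 / (m : ℚ)) h else 0) (Finset.mem_range.mpr (Nat.lt_succ_of_le hmle))
      simp only [dif_pos hq'] at h7
      exact h7

/-- **Landau's theorem**: the order of a finite group is bounded in terms of the number of its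
conjugacy classes. -/
theorem exists_card_bound_of_card_conjClasses (K : ℕ) : ∃ N : ℕ, ∀ (G : Type u) [Group G]
    [Finite G], Nat.card (ConjClasses G) ≤ K → Nat.card G ≤ N := by
  classical
  choose f hf using fun k : ℕ => exists_bound_of_sum_inv k 1 one_pos
  refine ⟨(Finset.range (K + 1)).sup f, ?_⟩
  intro G _ _ hK
  have := Fintype.ofFinite G
  have : Fintype (ConjClasses G) := Fintype.ofFinite _
  have hG0 : (Nat.card G : ℚ) ≠ 0 := by exact_mod_cast Nat.card_pos.ne'
  obtain ⟨c, hc⟩ : ∃ c : ConjClasses G → ℕ, c = fun x =>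
      Nat.card (Subgroup.centralizer ({Quotient.out x} : Set G)) := ⟨_, rfl⟩
  have hcpos : ∀ x : ConjClasses G, 0 < c x := by
    intro x
    rw [hc]
    exact Nat.card_pos
  have hcinv : ∀ x : ConjClasses G, (1 : ℚ) / (c x) = (x.carrier.ncard : ℚ) / (Nat.card G : ℚ) := by
    intro x
    have h1 : x = ConjClasses.mk (Quotient.out x) := (Quotient.out_eq x).symm
    have h2 : x.carrier.ncard = (Subgroup.centralizer ({Quotient.out x} : Set G)).index := by
      conv_lhs => rw [h1]
      rw [← ConjAct.orbit_eq_carrier_conjClasses, ← MulAction.index_stabilizer,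
        ConjAct.stabilizer_eq_centralizer]
      rfl
    have h3 := Subgroup.card_mul_index (Subgroup.centralizer ({Quotient.out x} : Set G))
    have h4 : (c x : ℚ) * (x.carrier.ncard : ℚ) = (Nat.card G : ℚ) := by
      rw [hc, h2]
      exact_mod_cast h3
    have hc0 : (c x : ℚ) ≠ 0 := by exact_mod_cast (hcpos x).ne'
    rw [div_eq_div_iff hc0 hG0, one_mul, mul_comm]
    exact h4.symm
  obtain ⟨s, hs⟩ : ∃ s : Multiset ℕ, s = (Finset.univ : Finset (ConjClasses G)).val.map c :=
    ⟨_, rfl⟩
  have hscard : Multiset.card s = Nat.card (ConjClasses G) := by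
    rw [hs, Multiset.card_map, Nat.card_eq_fintype_card]
    rfl
  have hspos : ∀ n ∈ s, 0 < n := by
    intro n hn
    rw [hs, Multiset.mem_map] at hn
    obtain ⟨x, -, rfl⟩ := hn
    exact hcpos x
  have hssum : (s.map (fun n : ℕ => (1 : ℚ) / n)).sum = 1 := by
    rw [hs, Multiset.map_map]
    show ∑ x : ConjClasses G, (1 : ℚ) / (c x) = 1
    rw [Finset.sum_congr rfl (fun x _ => hcinv x), ← Finset.sum_div, div_eq_one_iff_eq hG0]
    have h5 := Group.sum_card_conj_classes_eq_card (G := G)
    rw [finsum_eq_sum_of_fintype] at h5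
    exact_mod_cast h5
  -- the class of the identity
  have h1mem : Nat.card G ∈ s := by
    rw [hs, Multiset.mem_map]
    refine ⟨ConjClasses.mk (1 : G), Finset.mem_univ _, ?_⟩
    rw [hc]
    have h6 : Quotient.out (ConjClasses.mk (1 : G)) = 1 := by
      have h7 : ConjClasses.mk (Quotient.out (ConjClasses.mk (1 : G))) = ConjClasses.mk (1 : G) :=
        Quotient.out_eq _
      rw [ConjClasses.mk_eq_mk_iff_isConj] at h7
      exact (isConj_one_right.mp h7.symm)
    show Nat.card (Subgroup.centralizer ({Quotient.out (ConjClasses.mk (1 : G))} : Set G))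
      = Nat.card G
    rw [h6]
    have h8 : Subgroup.centralizer ({(1 : G)} : Set G) = ⊤ := by
      ext g
      simp [Subgroup.mem_centralizer_iff]
    rw [h8, Subgroup.card_top]
  have h9 := hf (Nat.card (ConjClasses G)) s hscard hspos hssum (Nat.card G) h1mem
  exact le_trans h9 (Finset.le_sup (f := f) (Finset.mem_range.mpr (Nat.lt_succ_of_le hK)))

end Cfsg.Agent.Lib.helper81
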