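import Mathlib
import Cfsg.Prelude.Def_Blocks
import Cfsg.Agent.Lib.helper81.PQuotBlock
import Cfsg.Agent.Lib.helper81.WBO
import Cfsg.Agent.Lib.helper77.BlockCover

/-!
# Stabilizers of covered blocks in `p`-power overgroups (helper81)

* `memLocalIdeal_sum_of_coset_invariant`: a sum over a finite group of a function that is
  invariant modulo the local ideal under right translation by a subgroup of order divisible by
  `p` lies in the local ideal;
* `clifford_sum_rel`, `card_mul_centralChar_eq_rel`: for `N ≤ L`, `ψ ∈ Irr(L)` over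
  `θ ∈ Irr(N)` and `y ∈ N`: `|C_L(y)| ω_ψ(y) = |C_N(y)| ∑_{q ∈ L/N} ω_{θ^q}(y)`;
* `le_of_stab_of_defect_le`: if `L/N` is a `p`-group and a block of `L` covering the block `c`
  of `N` has a defect group inside `N`, then the stabilizer of `c` in `L` is `N`.
-/

set_option autoImplicit false

namespace Cfsg.Agent.Lib.helper81

open Cfsg
open scoped ComplexConjugate

universe u

section CosetSum

/-- A sum over a finite group of a function invariant modulo the local ideal under right
translation by a subgroup of order divisible by `p` lies in the local ideal. -/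
theorem memLocalIdeal_sum_of_coset_invariant {p : ℕ} [Fact p.Prime] {M : Ideal AlgInt}
    (hM : IsPModular p M) {Q : Type*} [Group Q] [Fintype Q] (Z : Subgroup Q)
    (hZ : p ∣ Nat.card Z) (F : Q → ℂ) (hF : ∀ q, MemLocalRing M (F q))
    (hinv : ∀ q : Q, ∀ z ∈ Z, MemLocalIdeal M (F (q * z) - F q)) :
    MemLocalIdeal M (∑ q, F q) := by
  classical
  have hMp := helper20.isPrime_of_isPModular hM
  have : Fintype (Q ⧸ Z) := Fintype.ofFinite _
  rw [← Finset.sum_fiberwise (s := Finset.univ)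
    (g := fun q : Q => (QuotientGroup.mk q : Q ⧸ Z)) (f := F)]
  apply helper20.memLocalIdeal_sum hMp
  intro r _
  obtain ⟨t, ht⟩ : ∃ t : Q, t = Quotient.out r := ⟨_, rfl⟩
  have htr : (QuotientGroup.mk t : Q ⧸ Z) = r := by
    rw [ht]
    exact QuotientGroup.out_eq' r
  have hfib : (Finset.univ.filter (fun q : Q => (QuotientGroup.mk q : Q ⧸ Z) = r))
      = Finset.univ.image (fun z : Z => t * (z : Q)) := by
    ext q
    simp only [Finset.mem_filter, Finset.mem_univ, true_and, Finset.mem_image]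
    constructor
    · intro hq
      rw [← htr] at hq
      have h1 : t⁻¹ * q ∈ Z := QuotientGroup.eq.mp hq.symm
      exact ⟨⟨t⁻¹ * q, h1⟩, by simp⟩
    · rintro ⟨z, rfl⟩
      rw [← htr]
      exact QuotientGroup.mk_mul_of_mem t z.2
  rw [hfib, Finset.sum_image (by
    intro a _ b _ hab
    exact Subtype.ext (mul_left_cancel hab))]
  have e : ∑ z : Z, F (t * (z : Q))
      = ∑ z : Z, (F (t * (z : Q)) - F t) + (Nat.card Z : ℂ) * F t := by
    rw [Finset.sum_sub_distrib, Finset.sum_const, Finset.card_univ, nsmul_eq_mul,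
      Nat.card_eq_fintype_card]
    ring
  rw [e]
  apply helper20.memLocalIdeal_add hMp
  · apply helper20.memLocalIdeal_sum hMp
    intro z _
    exact hinv t z z.2
  · exact helper20.memLocalIdeal_mul_right hMp (helper80.memLocalIdeal_natCast hM hZ) (hF t)

end CosetSum

section Rel

variable {G : Type u} [Group G] [Fintype G] (N : Subgroup G) [hN : N.Normal] [Fintype N]
  (L : Subgroup G) [Fintype L]

/-- Clifford's theorem in summation form, relative version: for `ψ ∈ Irr(L)` over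
`θ ∈ Irr(N)` and `y ∈ N`: `|L| ψ(y) θ(1) = ψ(1) ∑_{s ∈ L} θ^s(y)`. -/
theorem clifford_sum_rel (hNL : N ≤ L) {ψ : IrrCharacter L} {θ : IrrCharacter N}
    (h : classInner (fun n : N => (ψ : L → ℂ) ⟨n, hNL n.2⟩) (θ : N → ℂ) ≠ 0) (y : N) :
    (Nat.card L : ℂ) * (ψ : L → ℂ) ⟨y, hNL y.2⟩ * (θ : N → ℂ) 1
      = (∑ s : L, helper82.cconj N (s : G) (θ : N → ℂ) y) * (ψ : L → ℂ) 1 := by
  classical
  obtain ⟨a, ha⟩ : ∃ a : N → ℂ, a = fun n =>
      ∑ s : L, if MulAut.conjNormal ((s : G)⁻¹) y = n then (1 : ℂ) else 0 := ⟨_, rfl⟩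
  have hainv : ∀ t ∈ L, ∀ n : N, a ⟨t * n * t⁻¹, hN.conj_mem n n.2 t⟩ = a n := by
    intro t ht n
    rw [ha]
    refine Fintype.sum_equiv (Equiv.mulRight (⟨t, ht⟩ : L)) _ _ (fun s => ?_)
    have hiff : (MulAut.conjNormal ((s : G)⁻¹) y = (⟨t * n * t⁻¹, hN.conj_mem n n.2 t⟩ : N))
        ↔ (MulAut.conjNormal ((((Equiv.mulRight (⟨t, ht⟩ : L)) s : L) : G)⁻¹) y = n) := by
      rw [Subtype.ext_iff, Subtype.ext_iff]
      simp only [MulAut.conjNormal_apply, Equiv.coe_mulRight, Subgroup.coe_mul, inv_inv,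
        mul_inv_rev]
      constructor
      · intro h1
        have h2 : t⁻¹ * (s : G)⁻¹ * (y : G) * ((s : G) * t)
            = t⁻¹ * ((s : G)⁻¹ * (y : G) * (s : G)) * t := by group
        rw [h2, h1]
        group
      · intro h1
        have h2 : (s : G)⁻¹ * (y : G) * (s : G)
            = t * (t⁻¹ * (s : G)⁻¹ * (y : G) * ((s : G) * t)) * t⁻¹ := by group
        rw [h2, h1]
    by_cases hc : MulAut.conjNormal ((s : G)⁻¹) y = (⟨t * n * t⁻¹, hN.conj_mem n n.2 t⟩ : N)
    · rw [if_pos hc, if_pos (hiff.mp hc)]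
    · rw [if_neg hc, if_neg (fun h' => hc (hiff.mpr h'))]
  have hψcf : IsClassFunction L (ψ : L → ℂ) := helper4.isClassFunction_of_isIrrCharacter ψ.2
  have hS1 : ∑ n : N, a n * (ψ : L → ℂ) ⟨n, hNL n.2⟩
      = (Nat.card L : ℂ) * (ψ : L → ℂ) ⟨y, hNL y.2⟩ := by
    rw [ha]
    simp only [Finset.sum_mul]
    rw [Finset.sum_comm]
    have h1 : ∀ s : L, ∑ n : N, (if MulAut.conjNormal ((s : G)⁻¹) y = n then (1 : ℂ) else 0)
        * (ψ : L → ℂ) ⟨n, hNL n.2⟩ = (ψ : L → ℂ) ⟨y, hNL y.2⟩ := by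
      intro s
      simp only [ite_mul, one_mul, zero_mul]
      rw [Finset.sum_ite_eq, if_pos (Finset.mem_univ _)]
      have h2 := hψcf ⟨y, hNL y.2⟩ s⁻¹
      rw [← h2]
      refine congrArg (ψ : L → ℂ) (Subtype.ext ?_)
      simp
    rw [Finset.sum_congr rfl (fun s _ => h1 s), Finset.sum_const, Finset.card_univ,
      nsmul_eq_mul, Nat.card_eq_fintype_card]
  have hS2 : ∑ n : N, a n * (θ : N → ℂ) n
      = ∑ s : L, helper82.cconj N (s : G) (θ : N → ℂ) y := by
    rw [ha]
    simp only [Finset.sum_mul]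
    rw [Finset.sum_comm]
    refine Finset.sum_congr rfl (fun s _ => ?_)
    simp only [ite_mul, one_mul, zero_mul]
    rw [Finset.sum_ite_eq, if_pos (Finset.mem_univ _)]
    rfl
  have key := helper77.sum_mul_restrict_eq_rel N L hNL h a hainv
  rw [hS1, hS2] at key
  exact key

/-- For `N ≤ L`, `ψ ∈ Irr(L)` over `θ ∈ Irr(N)` and `y ∈ N`:
`|C_L(y)| ω_ψ(y) = |C_N(y)| ∑_{q ∈ L/N} ω_{θ^q}(y)`. -/
theorem card_mul_centralChar_eq_rel [Fintype (L ⧸ N.subgroupOf L)] (hNL : N ≤ L)
    {ψ : IrrCharacter L} {θ : IrrCharacter N}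
    (h : classInner (fun n : N => (ψ : L → ℂ) ⟨n, hNL n.2⟩) (θ : N → ℂ) ≠ 0) (y : N) :
    (Nat.card (Subgroup.centralizer ({(⟨y, hNL y.2⟩ : L)} : Set L)) : ℂ)
        * centralChar (ψ : L → ℂ) ⟨y, hNL y.2⟩
      = (Nat.card (Subgroup.centralizer ({y} : Set N)) : ℂ)
        * ∑ q : L ⧸ N.subgroupOf L,
            centralChar (helper77.cjIrr N ((Quotient.out q : L) : G) θ : N → ℂ) y := by
  classical
  have hψ1 := irr_one_ne_zero ψ
  have hθ1 := irr_one_ne_zero θ
  have hcl := clifford_sum_rel N L hNL h y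
  have hθcf : IsClassFunction N (θ : N → ℂ) := helper4.isClassFunction_of_isIrrCharacter θ.2
  have hsum : ∑ s : L, helper82.cconj N (s : G) (θ : N → ℂ) y
      = (Nat.card (N.subgroupOf L) : ℂ) * ∑ q : L ⧸ N.subgroupOf L,
          helper82.cconj N ((Quotient.out q : L) : G) (θ : N → ℂ) y := by
    have h1 : ∀ s : L, helper82.cconj N (s : G) (θ : N → ℂ) y
        = (fun q : L ⧸ N.subgroupOf L =>
            helper82.cconj N ((Quotient.out q : L) : G) (θ : N → ℂ) y) (QuotientGroup.mk s) := by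
      intro s
      obtain ⟨m, hm⟩ := QuotientGroup.mk_out_eq_mul (N.subgroupOf L) s
      show _ = helper82.cconj N
        ((Quotient.out (QuotientGroup.mk s : L ⧸ N.subgroupOf L) : L) : G) (θ : N → ℂ) y
      rw [hm, Subgroup.coe_mul, helper82.cconj_mul,
        helper82.cconj_of_mem N hθcf (Subgroup.mem_subgroupOf.mp m.2)]
    rw [Finset.sum_congr rfl (fun s _ => h1 s)]
    exact helper84.sum_comp_fiber (fun s : L => (QuotientGroup.mk s : L ⧸ N.subgroupOf L))
      (N.subgroupOf L) (fun a c => by rw [eq_comm, QuotientGroup.eq]) Finset.univ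
      (fun a => by
        simp only [Finset.mem_univ, true_iff]
        exact QuotientGroup.mk_surjective a)
      (fun q : L ⧸ N.subgroupOf L =>
        helper82.cconj N ((Quotient.out q : L) : G) (θ : N → ℂ) y)
  have hcardN : Nat.card (N.subgroupOf L) = Nat.card N :=
    Nat.card_congr (Subgroup.subgroupOfEquivOfLe hNL).toEquiv
  have hCL := Subgroup.card_mul_index (Subgroup.centralizer ({(⟨y, hNL y.2⟩ : L)} : Set L))
  have hCN := Subgroup.card_mul_index (Subgroup.centralizer ({y} : Set N))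
  have hCL' : (Nat.card (Subgroup.centralizer ({(⟨y, hNL y.2⟩ : L)} : Set L)) : ℂ)
      * ((Subgroup.centralizer ({(⟨y, hNL y.2⟩ : L)} : Set L)).index : ℂ) = (Nat.card L : ℂ) := by
    exact_mod_cast hCL
  have hCN' : (Nat.card (Subgroup.centralizer ({y} : Set N)) : ℂ)
      * ((Subgroup.centralizer ({y} : Set N)).index : ℂ) = (Nat.card N : ℂ) := by
    exact_mod_cast hCN
  rw [hsum, hcardN] at hcl
  unfold centralChar
  simp only [helper77.cjIrr_one_apply, helper77.cjIrr_coe]
  rw [← Finset.sum_div, ← Finset.mul_sum]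
  have e1 : (Nat.card (Subgroup.centralizer ({(⟨y, hNL y.2⟩ : L)} : Set L)) : ℂ)
      * (((Subgroup.centralizer ({(⟨y, hNL y.2⟩ : L)} : Set L)).index : ℂ)
        * (ψ : L → ℂ) ⟨y, hNL y.2⟩ / (ψ : L → ℂ) 1)
      = (Nat.card L : ℂ) * (ψ : L → ℂ) ⟨y, hNL y.2⟩ / (ψ : L → ℂ) 1 := by
    rw [← hCL']
    ring
  have e2 : (Nat.card (Subgroup.centralizer ({y} : Set N)) : ℂ)
      * ((((Subgroup.centralizer ({y} : Set N)).index : ℂ)
        * (∑ q : L ⧸ N.subgroupOf L,
            helper82.cconj N ((Quotient.out q : L) : G) (θ : N → ℂ) y))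
        / (θ : N → ℂ) 1)
      = ((Nat.card N : ℂ)
        * (∑ q : L ⧸ N.subgroupOf L,
            helper82.cconj N ((Quotient.out q : L) : G) (θ : N → ℂ) y))
        / (θ : N → ℂ) 1 := by
    rw [← hCN']
    ring
  rw [e1, e2, div_eq_div_iff hψ1 hθ1]
  exact hcl

/-- If `L/N` is a `p`-group and a block `b` of `L` covering the block `c` of `N` has a defect
group inside `N`, then every subgroup stabilizing `c` meets `L` inside `N`. -/
theorem le_of_stab_of_defect_le {p : ℕ} [Fact p.Prime] {M : Ideal AlgInt} (hM : IsPModular p M)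
    (hNL : N ≤ L) (hidx : ∃ k : ℕ, (N.subgroupOf L).index = p ^ k)
    {b : Set (IrrCharacter L)} (hb : IsPBlock M b) {c : Set (IrrCharacter N)}
    (hc : IsPBlock M c)
    (hcov : ∃ ψ ∈ b, ∃ θ ∈ c,
      classInner (fun n : N => (ψ : L → ℂ) ⟨n, hNL n.2⟩) (θ : N → ℂ) ≠ 0)
    {Q : Subgroup L} (hQ : IsDefectGroup p M b Q) (hQN : Q ≤ N.subgroupOf L)
    (S : Subgroup G) (hS : ∀ s ∈ S, ∀ θ ∈ c, helper77.cjIrr N s θ ∈ c) :
    S ⊓ L ≤ N := by
  classical
  have : Fintype (L ⧸ N.subgroupOf L) := Fintype.ofFinite _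
  have hMp := helper20.isPrime_of_isPModular hM
  have hp : p.Prime := Fact.out
  obtain ⟨y, hy, P, rfl⟩ := hQ
  obtain ⟨ψ, hψ, θ, hθ, hψθ⟩ := hcov
  have hθcf : IsClassFunction N (θ : N → ℂ) := helper4.isClassFunction_of_isIrrCharacter θ.2
  -- `y` is `p`-regular, hence in `N`
  have hyreg : ¬ p ∣ orderOf y := by
    intro hdvd
    apply hy.2.1
    rw [blockCoeff_block_eq_zero_of_singular hM hb hdvd]
    exact helper20.memLocalIdeal_zero hMp
  have hyN : y ∈ N.subgroupOf L := mem_of_pRegular_of_pow_index (N.subgroupOf L) hidx hyreg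
  have hyN' : (y : G) ∈ N := Subgroup.mem_subgroupOf.mp hyN
  -- `C_L(y) ≤ N`
  have hCN : Subgroup.centralizer ({y} : Set L) ≤ N.subgroupOf L := by
    have h1 : (N.subgroupOf L).relIndex (Subgroup.centralizer ({y} : Set L))
        ∣ (N.subgroupOf L).index := Subgroup.relIndex_dvd_index_of_normal _ _
    obtain ⟨k, hk⟩ := hidx
    rw [hk] at h1
    obtain ⟨j, -, hj⟩ := (Nat.dvd_prime_pow hp).mp h1
    have h2 : (P : Subgroup (Subgroup.centralizer ({y} : Set L)))
        ≤ (N.subgroupOf L).subgroupOf (Subgroup.centralizer ({y} : Set L)) := by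
      intro z hz
      rw [Subgroup.mem_subgroupOf]
      apply hQN
      exact ⟨z, hz, rfl⟩
    have h3 : ((N.subgroupOf L).subgroupOf (Subgroup.centralizer ({y} : Set L))).index
        ∣ (P : Subgroup (Subgroup.centralizer ({y} : Set L))).index :=
      Subgroup.index_dvd_of_le h2
    have h4 : ¬ p ∣ (P : Subgroup (Subgroup.centralizer ({y} : Set L))).index :=
      P.not_dvd_index
    have hj0 : j = 0 := by
      by_contra hne
      apply h4
      refine dvd_trans ?_ h3
      show p ∣ (N.subgroupOf L).relIndex (Subgroup.centralizer ({y} : Set L))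
      rw [hj]
      exact dvd_pow_self p hne
    rw [hj0, pow_zero] at hj
    exact Subgroup.relIndex_eq_one.mp hj
  intro x hx
  by_contra hxN
  obtain ⟨hxS, hxL⟩ := hx
  obtain ⟨Z, hZ⟩ : ∃ Z : Subgroup (L ⧸ N.subgroupOf L),
      Z = (S.subgroupOf L).map (QuotientGroup.mk' (N.subgroupOf L)) := ⟨_, rfl⟩
  have hZp : p ∣ Nat.card Z := by
    have h1 : Nat.card Z ∣ Nat.card (L ⧸ N.subgroupOf L) := Subgroup.card_subgroup_dvd_card Z
    rw [← Subgroup.index_eq_card] at h1
    obtain ⟨k, hk⟩ := hidx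
    rw [hk] at h1
    obtain ⟨j, -, hj⟩ := (Nat.dvd_prime_pow hp).mp h1
    have hj0 : j ≠ 0 := by
      rintro rfl
      rw [pow_zero] at hj
      have hbot : Z = ⊥ := Subgroup.card_eq_one.mp hj
      have hmem : (QuotientGroup.mk (⟨x, hxL⟩ : L) : L ⧸ N.subgroupOf L) ∈ Z := by
        rw [hZ]
        exact ⟨⟨x, hxL⟩, Subgroup.mem_subgroupOf.mpr hxS, rfl⟩
      rw [hbot, Subgroup.mem_bot, QuotientGroup.eq_one_iff] at hmem
      exact hxN (Subgroup.mem_subgroupOf.mp hmem)
    rw [hj]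
    exact dvd_pow_self p hj0
  obtain ⟨yN, hyNdef⟩ : ∃ yN : N, yN = ⟨(y : G), hyN'⟩ := ⟨_, rfl⟩
  have hyL : (⟨yN, hNL yN.2⟩ : L) = y := by
    rw [hyNdef]
  obtain ⟨F, hF⟩ : ∃ F : L ⧸ N.subgroupOf L → ℂ, F = fun q =>
      centralChar (helper77.cjIrr N ((Quotient.out q : L) : G) θ : N → ℂ) yN := ⟨_, rfl⟩
  have hsumJ : MemLocalIdeal M (∑ q, F q) := by
    apply memLocalIdeal_sum_of_coset_invariant hM Z hZp F
    · intro q
      rw [hF]
      exact helper80.memLocalRing_centralChar hMp _ _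
    · intro q z hz
      rw [hZ] at hz
      obtain ⟨u, hu, rfl⟩ := hz
      obtain ⟨t, ht⟩ : ∃ t : L, t = Quotient.out q := ⟨_, rfl⟩
      have hq : q = QuotientGroup.mk t := by
        rw [ht]
        exact (QuotientGroup.out_eq' q).symm
      obtain ⟨m, hm⟩ := QuotientGroup.mk_out_eq_mul (N.subgroupOf L) (t * u)
      have e1 : q * (QuotientGroup.mk' (N.subgroupOf L)) u
          = (QuotientGroup.mk (t * u) : L ⧸ N.subgroupOf L) := by
        rw [hq]
        rfl
      rw [hF]
      show MemLocalIdeal M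
        (centralChar (helper77.cjIrr N
            ((Quotient.out (q * (QuotientGroup.mk' (N.subgroupOf L)) u) : L) : G) θ : N → ℂ) yN
          - centralChar (helper77.cjIrr N ((Quotient.out q : L) : G) θ : N → ℂ) yN)
      rw [e1, hm, ← ht]
      have e2 : helper77.cjIrr N (((t * u * (m : L) : L)) : G) θ
          = helper77.cjIrr N (t : G) (helper77.cjIrr N (u : G) θ) := by
        rw [Subgroup.coe_mul, Subgroup.coe_mul, helper77.cjIrr_mul, helper77.cjIrr_mul]
        have e3 : helper77.cjIrr N ((m : L) : G) θ = θ :=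
          Subtype.ext (helper82.cconj_of_mem N hθcf (Subgroup.mem_subgroupOf.mp m.2))
        rw [e3]
      rw [e2]
      exact helper77.sameBlock_cjIrr N (t : G)
        (helper80.sameBlock_of_mem hMp hc (hS u (Subgroup.mem_subgroupOf.mp hu) θ hθ) hθ) yN
  have hform := card_mul_centralChar_eq_rel N L hNL hψθ yN
  rw [hyL] at hform
  have hcard : Nat.card (Subgroup.centralizer ({y} : Set L))
      = Nat.card (Subgroup.centralizer ({yN} : Set N)) := by
    have hmap : (Subgroup.centralizer ({yN} : Set N)).map (Subgroup.inclusion hNL)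
        = Subgroup.centralizer ({y} : Set L) := by
      ext z
      rw [Subgroup.mem_map]
      constructor
      · rintro ⟨n, hn, rfl⟩
        rw [Subgroup.mem_centralizer_singleton_iff] at hn ⊢
        apply Subtype.ext
        have h1 := congrArg (fun w : N => (w : G)) hn
        rw [← hyL]
        exact h1
      · intro hz
        have hzN : (z : G) ∈ N := Subgroup.mem_subgroupOf.mp (hCN hz)
        refine ⟨⟨(z : G), hzN⟩, ?_, Subtype.ext rfl⟩
        rw [Subgroup.mem_centralizer_singleton_iff] at hz ⊢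
        apply Subtype.ext
        have h1 := congrArg (fun w : L => (w : G)) hz
        rw [hyNdef]
        exact h1
    rw [← hmap, Subgroup.card_map_of_injective (Subgroup.inclusion_injective hNL)]
  have hne : (Nat.card (Subgroup.centralizer ({yN} : Set N)) : ℂ) ≠ 0 := by
    exact_mod_cast Nat.card_pos.ne'
  rw [hcard] at hform
  have hfin : centralChar (ψ : L → ℂ) y = ∑ q, F q := by
    rw [hF]
    exact mul_left_cancel₀ hne hform
  apply hy.2.2 ψ hψ
  rw [hfin]
  exact hsumJ

end Rel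

end Cfsg.Agent.Lib.helper81
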