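import Mathlib
import Cfsg.Prelude.Def_Blocks
import Cfsg.Prelude.Def_Local

/-!
# A normal subgroup detecting exactly one of two primes in a `p`-solvable group (helper81)
-/

set_option autoImplicit false

namespace Cfsg.Agent.Lib.helper81

open Cfsg

/-- In a finite `p`-solvable group of order divisible by `p`, for any prime `q ≠ p` there is a
normal subgroup whose order is divisible by exactly one of `p`, `q`. -/
theorem exists_normal_one_prime {G : Type*} [Group G] [Finite G] (p q : ℕ) [Fact p.Prime]
    [Fact q.Prime] (hpq : p ≠ q) (hpG : p ∣ Nat.card G) (hS : IsPSolvable p G) :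
    ∃ K : Subgroup G, K.Normal ∧ ((p ∣ Nat.card K ∧ ¬ q ∣ Nat.card K) ∨
      (q ∣ Nat.card K ∧ ¬ p ∣ Nat.card K)) := by
  have hp := (Fact.out : p.Prime)
  have hq := (Fact.out : q.Prime)
  obtain ⟨n, H, h0, hlast, hmono, hnorm, hstep⟩ := hS
  have key : ∀ i : Fin (n + 1), (¬ p ∣ Nat.card (H i) ∧ ¬ q ∣ Nat.card (H i)) ∨
      ∃ K : Subgroup G, K.Normal ∧ ((p ∣ Nat.card K ∧ ¬ q ∣ Nat.card K) ∨
        (q ∣ Nat.card K ∧ ¬ p ∣ Nat.card K)) := by
    intro i
    induction i using Fin.induction with
    | zero =>
      left
      rw [h0, Subgroup.card_bot]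
      exact ⟨hp.one_lt.ne' ∘ Nat.dvd_one.mp, hq.one_lt.ne' ∘ Nat.dvd_one.mp⟩
    | succ i ih =>
      rcases ih with ⟨hp', hq'⟩ | hK
      · have hle : H i.castSucc ≤ H i.succ := hmono (Fin.castSucc_le_succ i)
        have hcard : Nat.card (H i.castSucc) * (H i.castSucc).relIndex (H i.succ)
            = Nat.card (H i.succ) := by
          have := Subgroup.relIndex_mul_relIndex (⊥ : Subgroup G) (H i.castSucc) (H i.succ)
            bot_le hle
          rwa [Subgroup.relIndex_bot_left, Subgroup.relIndex_bot_left] at this
        rcases hstep i with ⟨m, hm⟩ | hcop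
        · by_cases hm0 : m = 0
          · left
            rw [hm, hm0, pow_zero, mul_one] at hcard
            rw [← hcard]
            exact ⟨hp', hq'⟩
          · right
            refine ⟨H i.succ, hnorm _, Or.inl ⟨?_, ?_⟩⟩
            · rw [← hcard, hm]
              exact Dvd.dvd.mul_left (dvd_pow_self p hm0) _
            · rw [← hcard, hm]
              intro hdvd
              rcases (Nat.Prime.dvd_mul hq).mp hdvd with h1 | h1
              · exact hq' h1
              · exact hpq ((Nat.prime_dvd_prime_iff_eq hq hp).mp (hq.dvd_of_dvd_pow h1)).symm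
        · by_cases hq'' : q ∣ (H i.castSucc).relIndex (H i.succ)
          · right
            refine ⟨H i.succ, hnorm _, Or.inr ⟨?_, ?_⟩⟩
            · rw [← hcard]
              exact Dvd.dvd.mul_left hq'' _
            · rw [← hcard]
              intro hdvd
              rcases (Nat.Prime.dvd_mul hp).mp hdvd with h1 | h1
              · exact hp' h1
              · exact (Nat.Prime.coprime_iff_not_dvd hp).mp hcop.symm h1
          · left
            rw [← hcard]
            constructor
            · intro hdvd
              rcases (Nat.Prime.dvd_mul hp).mp hdvd with h1 | h1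
              · exact hp' h1
              · exact (Nat.Prime.coprime_iff_not_dvd hp).mp hcop.symm h1
            · intro hdvd
              rcases (Nat.Prime.dvd_mul hq).mp hdvd with h1 | h1
              · exact hq' h1
              · exact hq'' h1
      · right; exact hK
  rcases key (Fin.last n) with ⟨hp', _⟩ | hK
  · rw [hlast, Subgroup.card_top] at hp'
    exact absurd hpG hp'
  · exact hK

/-- In a normal subgroup `K` of order prime to `q`, conjugates `g, h` of an element of `K` never
have `g * h⁻¹` a non-identity `q`-element. -/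
theorem not_q_element_of_normal {G : Type*} [Group G] [Finite G] (q : ℕ) [Fact q.Prime]
    (K : Subgroup G) [K.Normal] (hK : ¬ q ∣ Nat.card K) (u : G) (hu : u ∈ K) (g h : G)
    (hg : IsConj u g) (hh : IsConj u h) (hne : g * h⁻¹ ≠ 1) (k : ℕ)
    (hk : orderOf (g * h⁻¹) = q ^ k) : False := by
  obtain ⟨c, rfl⟩ := isConj_iff.mp hg
  obtain ⟨d, rfl⟩ := isConj_iff.mp hh
  have hmem : c * u * c⁻¹ * (d * u * d⁻¹)⁻¹ ∈ K :=
    K.mul_mem (Subgroup.Normal.conj_mem inferInstance u hu c)
      (K.inv_mem (Subgroup.Normal.conj_mem inferInstance u hu d))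
  have hk0 : k ≠ 0 := by
    rintro rfl
    rw [pow_zero] at hk
    exact hne (orderOf_eq_one_iff.mp hk)
  have hdvd : orderOf (c * u * c⁻¹ * (d * u * d⁻¹)⁻¹) ∣ Nat.card K := by
    have := orderOf_dvd_natCard (⟨_, hmem⟩ : K)
    rwa [Subgroup.orderOf_mk] at this
  rw [hk] at hdvd
  exact hK ((dvd_pow_self q hk0).trans hdvd)

end Cfsg.Agent.Lib.helper81
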