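import Mathlib
import Cfsg.Prelude.Def_Blocks
import Cfsg.Agent.Lib.helper81.CharTools

/-!
# Real elements with odd centralizer force a character of even degree (helper81)
-/

set_option autoImplicit false

namespace Cfsg.Agent.Lib.helper81

open Cfsg
open scoped ComplexConjugate

universe u

/-- `(∑ aᵢ)² = ∑ aᵢ² + 2E` with `E` an algebraic integer when the `aᵢ` are. -/
theorem sq_sum_eq_sum_sq_add {ι : Type*} (s : Finset ι) (f : ι → ℂ)
    (hf : ∀ i ∈ s, IsIntegral ℤ (f i)) :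
    ∃ E : ℂ, IsIntegral ℤ E ∧ (∑ i ∈ s, f i) ^ 2 = ∑ i ∈ s, (f i) ^ 2 + 2 * E := by
  classical
  induction s using Finset.induction_on with
  | empty => exact ⟨0, isIntegral_zero, by simp⟩
  | insert a s ha ih =>
    obtain ⟨E, hE, hEq⟩ := ih (fun i hi => hf i (Finset.mem_insert_of_mem hi))
    refine ⟨E + f a * ∑ i ∈ s, f i, hE.add ((hf a (Finset.mem_insert_self a s)).mul
      (IsIntegral.sum (R := ℤ) (s := s) f
        (fun i hi => hf i (Finset.mem_insert_of_mem hi)))), ?_⟩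
    rw [Finset.sum_insert ha, Finset.sum_insert ha, add_sq, hEq]
    ring

variable {G : Type u} [Group G] [Fintype G]

/-- If `u ≠ 1` is conjugate to its inverse and `C_G(u)` has odd order, then `G` has an
irreducible character of even degree. -/
theorem exists_even_degree_of_real_of_odd_centralizer (u : G) (hu : u ≠ 1)
    (hreal : IsConj u u⁻¹)
    (hodd : Odd (Nat.card (Subgroup.centralizer ({u} : Set G)))) :
    ∃ χ : IrrCharacter G, Even (charDegree (χ : G → ℂ)) := by
  classical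
  by_contra hcon
  push Not at hcon
  have hdeg : ∀ χ : IrrCharacter G, ∃ e : ℕ, charDegree (χ : G → ℂ) = 2 * e + 1 := by
    intro χ
    exact Nat.not_even_iff_odd.mp (hcon χ)
  choose e he using hdeg
  have h1 := sum_irr_degree_mul u
  rw [if_neg hu] at h1
  have h2 := irr_col_orth u u
  rw [if_pos (IsConj.refl u)] at h2
  have h3 : ∀ χ : IrrCharacter G, conj ((χ : G → ℂ) u) = (χ : G → ℂ) u := by
    intro χ
    rw [← irr_inv]
    exact classFun_of_isConj (irr_classFun χ) hreal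
  simp_rw [h3] at h2
  -- `∑ χ(u) = -2 ∑ e_χ χ(u)`
  have h4 : ∑ χ : IrrCharacter G, (χ : G → ℂ) u
      = -2 * ∑ χ : IrrCharacter G, (e χ : ℂ) * (χ : G → ℂ) u := by
    have h5 : ∑ χ : IrrCharacter G, (χ : G → ℂ) 1 * (χ : G → ℂ) u
        = 2 * ∑ χ : IrrCharacter G, (e χ : ℂ) * (χ : G → ℂ) u
          + ∑ χ : IrrCharacter G, (χ : G → ℂ) u := by
      rw [Finset.mul_sum, ← Finset.sum_add_distrib]
      refine Finset.sum_congr rfl (fun χ _ => ?_)
      rw [irr_one_eq_charDegree, he χ]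
      push_cast
      ring
    rw [h1] at h5
    linear_combination -h5
  obtain ⟨E, hE, hEq⟩ := sq_sum_eq_sum_sq_add Finset.univ
    (fun χ : IrrCharacter G => (χ : G → ℂ) u) (fun χ _ => irr_isIntegral χ u)
  have hA : IsIntegral ℤ (∑ χ : IrrCharacter G, (e χ : ℂ) * (χ : G → ℂ) u) :=
    IsIntegral.sum (R := ℤ) (fun χ : IrrCharacter G => (e χ : ℂ) * (χ : G → ℂ) u)
      (fun χ _ => (isIntegral_natCast (R := ℤ) (B := ℂ) (e χ)).mul (irr_isIntegral χ u))
  have h6 : (Nat.card (Subgroup.centralizer ({u} : Set G)) : ℂ) / ((2 : ℕ) : ℂ)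
      = 2 * (∑ χ : IrrCharacter G, (e χ : ℂ) * (χ : G → ℂ) u) ^ 2 - E := by
    rw [← h2]
    have h7 : ∑ χ : IrrCharacter G, (χ : G → ℂ) u * (χ : G → ℂ) u
        = ∑ χ : IrrCharacter G, ((χ : G → ℂ) u) ^ 2 :=
      Finset.sum_congr rfl (fun χ _ => (sq _).symm)
    rw [h7]
    rw [h4] at hEq
    push_cast
    linear_combination (-1 / 2 : ℂ) * hEq
  have h8 : IsIntegral ℤ ((Nat.card (Subgroup.centralizer ({u} : Set G)) : ℂ) / ((2 : ℕ) : ℂ)) := by
    rw [h6]
    have h10 : IsIntegral ℤ (2 : ℂ) := by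
      have := isIntegral_natCast (R := ℤ) (B := ℂ) 2
      simpa using this
    exact (h10.mul (hA.pow 2)).sub hE
  have h9 := dvd_of_isIntegral_div (by norm_num) h8
  exact (Nat.not_even_iff_odd.mpr hodd) (even_iff_two_dvd.mpr h9)

end Cfsg.Agent.Lib.helper81
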