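import Mathlib
import Cfsg.Agent.Lib.helper81.S0197Defs

/-!
# S0197, piece PII: the main case of the pattern lemma (helper81)
-/

set_option autoImplicit false

namespace Cfsg.Agent.Lib.helper81.S0197

open Cfsg

section lists

variable {ι : Type*} [Fintype ι] [DecidableEq ι]

theorem list_sum_le (h : ι → ℤ) (hn : ∀ k, 0 ≤ h k) (l : List ι) (hl : l.Nodup) :
    (l.map h).sum ≤ ∑ k, h k := by
  rw [← List.sum_toFinset h hl]
  exact Finset.sum_le_univ_sum_of_nonneg hn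

theorem sum_eq_list (F : ι → ℤ) (l : List ι) (hl : l.Nodup) (h0 : ∀ k, k ∉ l → F k = 0) :
    ∑ k, F k = (l.map F).sum := by
  rw [← List.sum_toFinset F hl]
  symm
  apply Finset.sum_subset (Finset.subset_univ _)
  intro k _ hk
  exact h0 k (by simpa using hk)

theorem zero_off_list (h : ι → ℤ) (hn : ∀ k, 0 ≤ h k) (l : List ι) (hl : l.Nodup)
    (he : ∑ k, h k ≤ (l.map h).sum) : ∀ k, k ∉ l → h k = 0 := by
  intro k hk
  by_contra hne
  have hpos : 0 < h k := lt_of_le_of_ne (hn k) (Ne.symm hne)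
  have := list_sum_le h hn (k :: l) (List.nodup_cons.mpr ⟨hk, hl⟩)
  rw [List.map_cons, List.sum_cons] at this
  linarith

theorem exists_off_list (h : ι → ℤ) (l : List ι) (hl : l.Nodup)
    (hlt : (l.map h).sum < ∑ k, h k) : ∃ k, k ∉ l ∧ h k ≠ 0 := by
  by_contra hcon
  have h0 : ∀ k, k ∉ l → h k = 0 := by
    intro k hk
    by_contra hne
    exact hcon ⟨k, hk, hne⟩
  have := sum_eq_list h l hl h0
  omega

end lists

section pII

variable {ι : Type*} [Fintype ι] {χ0 : ι} {T Y W a b f : ι → ℤ} {g : ℤ}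

theorem pII_setup (h : Arith ι χ0 T Y W a b f g) (i4 i5 : ι) (h45 : i4 ≠ i5) (hb4 : b i4 = 1)
    (hb5 : b i5 = -1) (hT : T i4 = T i5)
    (hY : Y i4 = Y i5) (hW : W i4 = W i5) (ha : a i4 = a i5) (ha4 : a i4 = 0) :
    ∃ (δB : ℤ) (o1 o2 o3 e1 : ι), (δB = 1 ∨ δB = -1) ∧ T i4 = 2 * δB ∧ W i4 = -δB ∧ Y i4 = 0 ∧
      [χ0, o1, o2, o3, e1, i4, i5].Nodup ∧
      (a o1 = 1 ∨ a o1 = -1) ∧ (a o2 = 1 ∨ a o2 = -1) ∧ (a o3 = 1 ∨ a o3 = -1) ∧
      (Y o1 = 1 ∨ Y o1 = -1) ∧ (Y o2 = 1 ∨ Y o2 = -1) ∧ (Y o3 = 1 ∨ Y o3 = -1) ∧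
      (∀ k, k ∉ [χ0, o1, o2, o3] → a k = 0) ∧ (Y e1 = 2 ∨ Y e1 = -2) ∧
      (∀ k, k ∉ [χ0, o1, o2, o3, e1] → Y k = 0) := by
  classical
  have h04 : χ0 ≠ i4 := by rintro rfl; have := h.b0; omega
  have h05 : χ0 ≠ i5 := by rintro rfl; have := h.b0; omega
  have nd3 : [χ0, i4, i5].Nodup := by simp [h04, h05, h45]
  -- values at i4
  have hY4 : Y i4 = 0 := by
    have h1 := list_sum_le (fun k => Y k ^ 2) (fun k => sq_nonneg _) _ nd3
    rw [h.sYY] at h1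
    simp only [List.map_cons, List.map_nil, List.sum_cons, List.sum_nil] at h1
    rw [h.Y0, ← hY] at h1
    have h2 := h.cYa i4
    rw [ha4] at h2
    have h3 : -1 ≤ Y i4 ∧ Y i4 ≤ 1 := by constructor <;> nlinarith
    omega
  have hT4 : T i4 = 2 ∨ T i4 = -2 := by
    have h1 := list_sum_le (fun k => T k ^ 2) (fun k => sq_nonneg _) _ nd3
    rw [h.sTT] at h1
    simp only [List.map_cons, List.map_nil, List.sum_cons, List.sum_nil] at h1
    rw [h.T0, ← hT] at h1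
    have h2 := h.cTY i4
    rw [hY4, hb4] at h2
    have h3 : -4 ≤ T i4 ∧ T i4 ≤ 4 := by constructor <;> nlinarith
    omega
  have hW4 : -1 ≤ W i4 ∧ W i4 ≤ 1 := by
    have h1 := list_sum_le (fun k => W k ^ 2) (fun k => sq_nonneg _) _ nd3
    rw [h.sWW] at h1
    simp only [List.map_cons, List.map_nil, List.sum_cons, List.sum_nil] at h1
    rw [h.W0, ← hW] at h1
    constructor <;> nlinarith
  have hW4c := h.cWT i4
  obtain ⟨δB, hδ, hT4', hW4'⟩ : ∃ δB : ℤ, (δB = 1 ∨ δB = -1) ∧ T i4 = 2 * δB ∧ W i4 = -δB := by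
    rcases hT4 with h2 | h2
    · exact ⟨1, Or.inl rfl, by omega, by omega⟩
    · exact ⟨-1, Or.inr rfl, by omega, by omega⟩
  -- the rows with `a ≠ 0`
  have ha_bd : ∀ k, a k = 0 ∨ a k = 1 ∨ a k = -1 := by
    intro k
    by_cases hk : k = χ0
    · rw [hk, h.a0]; simp
    · have h1 := list_sum_le (fun k => a k ^ 2) (fun k => sq_nonneg _) [χ0, k]
        (by simp [Ne.symm hk])
      rw [h.saa] at h1
      simp only [List.map_cons, List.map_nil, List.sum_cons, List.sum_nil] at h1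
      rw [h.a0] at h1
      have h3 : -1 ≤ a k ∧ a k ≤ 1 := by constructor <;> nlinarith
      omega
  have ha_sq : ∀ k, a k ≠ 0 → a k ^ 2 = 1 := by
    intro k hk
    rcases ha_bd k with h1 | h1 | h1
    · exact absurd h1 hk
    · rw [h1]; norm_num
    · rw [h1]; norm_num
  obtain ⟨o1, ho1, hao1⟩ := exists_off_list (fun k => a k ^ 2) [χ0] (by simp) (by
    simp only [List.map_cons, List.map_nil, List.sum_cons, List.sum_nil]
    rw [h.saa, h.a0]; norm_num)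
  have hao1' : a o1 ≠ 0 := by
    intro h0; apply hao1; simp [h0]
  have h0o1 : χ0 ≠ o1 := by
    intro h0; apply ho1; simp [h0]
  obtain ⟨o2, ho2, hao2⟩ := exists_off_list (fun k => a k ^ 2) [χ0, o1] (by simp [h0o1]) (by
    simp only [List.map_cons, List.map_nil, List.sum_cons, List.sum_nil]
    rw [h.saa, h.a0, ha_sq o1 hao1']; norm_num)
  have hao2' : a o2 ≠ 0 := by
    intro h0; apply hao2; simp [h0]
  have h0o2 : χ0 ≠ o2 := by
    intro h0; apply ho2; simp [h0]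
  have h12 : o1 ≠ o2 := by
    intro h0; apply ho2; simp [h0]
  obtain ⟨o3, ho3, hao3⟩ := exists_off_list (fun k => a k ^ 2) [χ0, o1, o2]
    (by simp [h0o1, h0o2, h12]) (by
    simp only [List.map_cons, List.map_nil, List.sum_cons, List.sum_nil]
    rw [h.saa, h.a0, ha_sq o1 hao1', ha_sq o2 hao2']; norm_num)
  have hao3' : a o3 ≠ 0 := by
    intro h0; apply hao3; simp [h0]
  have h0o3 : χ0 ≠ o3 := by
    intro h0; apply ho3; simp [h0]
  have h13 : o1 ≠ o3 := by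
    intro h0; apply ho3; simp [h0]
  have h23 : o2 ≠ o3 := by
    intro h0; apply ho3; simp [h0]
  have ndO : [χ0, o1, o2, o3].Nodup := by simp [h0o1, h0o2, h0o3, h12, h13, h23]
  have haO : ∀ k, k ∉ [χ0, o1, o2, o3] → a k = 0 := by
    intro k hk
    have := zero_off_list (fun k => a k ^ 2) (fun k => sq_nonneg _) _ ndO (by
      simp only [List.map_cons, List.map_nil, List.sum_cons, List.sum_nil]
      rw [h.saa, h.a0, ha_sq o1 hao1', ha_sq o2 hao2', ha_sq o3 hao3']; norm_num) k hk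
    simpa using this
  have hpm : ∀ k, a k ≠ 0 → (a k = 1 ∨ a k = -1) := by
    intro k hk
    rcases ha_bd k with h1 | h1 | h1
    · exact absurd h1 hk
    · exact Or.inl h1
    · exact Or.inr h1
  -- `Y` on the odd rows
  have hYsum := list_sum_le (fun k => Y k ^ 2) (fun k => sq_nonneg _) _ ndO
  rw [h.sYY] at hYsum
  simp only [List.map_cons, List.map_nil, List.sum_cons, List.sum_nil] at hYsum
  rw [h.Y0] at hYsum
  have hYodd : ∀ k, a k ≠ 0 → Y k ^ 2 ≤ 7 → (Y k = 1 ∨ Y k = -1) := by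
    intro k hk hle
    have h2 := h.cYa k
    have h3 : -2 ≤ Y k ∧ Y k ≤ 2 := by constructor <;> nlinarith
    rcases hpm k hk with h1 | h1 <;> rw [h1] at h2 <;> omega
  have hY1 := hYodd o1 hao1' (by nlinarith [sq_nonneg (Y o2), sq_nonneg (Y o3)])
  have hY2 := hYodd o2 hao2' (by nlinarith [sq_nonneg (Y o1), sq_nonneg (Y o3)])
  have hY3 := hYodd o3 hao3' (by nlinarith [sq_nonneg (Y o2), sq_nonneg (Y o1)])
  have hYsq : ∀ k, (Y k = 1 ∨ Y k = -1) → Y k ^ 2 = 1 := by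
    intro k hk
    rcases hk with h1 | h1 <;> rw [h1] <;> norm_num
  obtain ⟨e1, he1, hYe1⟩ := exists_off_list (fun k => Y k ^ 2) [χ0, o1, o2, o3] ndO (by
    simp only [List.map_cons, List.map_nil, List.sum_cons, List.sum_nil]
    rw [h.sYY, h.Y0, hYsq o1 hY1, hYsq o2 hY2, hYsq o3 hY3]; norm_num)
  have hYe1' : Y e1 ≠ 0 := by
    intro h0; apply hYe1; simp [h0]
  have h0e : χ0 ≠ e1 := by
    intro h0; apply he1; simp [h0]
  have h1e : o1 ≠ e1 := by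
    intro h0; apply he1; simp [h0]
  have h2e : o2 ≠ e1 := by
    intro h0; apply he1; simp [h0]
  have h3e : o3 ≠ e1 := by
    intro h0; apply he1; simp [h0]
  have ndY : [χ0, o1, o2, o3, e1].Nodup := by
    simp [h0o1, h0o2, h0o3, h12, h13, h23, h0e, h1e, h2e, h3e]
  have hae1 : a e1 = 0 := haO e1 he1
  have hYe : Y e1 = 2 ∨ Y e1 = -2 := by
    have h1 := list_sum_le (fun k => Y k ^ 2) (fun k => sq_nonneg _) _ ndY
    rw [h.sYY] at h1
    simp only [List.map_cons, List.map_nil, List.sum_cons, List.sum_nil] at h1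
    rw [h.Y0, hYsq o1 hY1, hYsq o2 hY2, hYsq o3 hY3] at h1
    have h2 := h.cYa e1
    rw [hae1] at h2
    have h3 : -2 ≤ Y e1 ∧ Y e1 ≤ 2 := by constructor <;> nlinarith
    omega
  have hYO : ∀ k, k ∉ [χ0, o1, o2, o3, e1] → Y k = 0 := by
    intro k hk
    have := zero_off_list (fun k => Y k ^ 2) (fun k => sq_nonneg _) _ ndY (by
      simp only [List.map_cons, List.map_nil, List.sum_cons, List.sum_nil]
      rw [h.sYY, h.Y0, hYsq o1 hY1, hYsq o2 hY2, hYsq o3 hY3]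
      rcases hYe with h1 | h1 <;> rw [h1] <;> norm_num) k hk
    simpa using this
  -- distinctness from i4, i5
  have ha5 : a i5 = 0 := by rw [← ha]; exact ha4
  have hY5 : Y i5 = 0 := by rw [← hY]; exact hY4
  have h14 : o1 ≠ i4 := by rintro rfl; exact hao1' ha4
  have h15 : o1 ≠ i5 := by rintro rfl; exact hao1' ha5
  have h24 : o2 ≠ i4 := by rintro rfl; exact hao2' ha4
  have h25 : o2 ≠ i5 := by rintro rfl; exact hao2' ha5
  have h34 : o3 ≠ i4 := by rintro rfl; exact hao3' ha4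
  have h35 : o3 ≠ i5 := by rintro rfl; exact hao3' ha5
  have he4 : e1 ≠ i4 := by rintro rfl; exact hYe1' hY4
  have he5 : e1 ≠ i5 := by rintro rfl; exact hYe1' hY5
  refine ⟨δB, o1, o2, o3, e1, hδ, hT4', hW4', hY4, ?_, hpm o1 hao1', hpm o2 hao2', hpm o3 hao3',
    hY1, hY2, hY3, haO, hYe, hYO⟩
  simp [h0o1, h0o2, h0o3, h12, h13, h23, h0e, h1e, h2e, h3e, h04, h05, h14, h15, h24, h25, h34,
    h35, he4, he5, h45]

omit [Fintype ι] in
theorem tau_of {Tk Yk : ℤ} (hY : Yk = 1 ∨ Yk = -1) (hc : (4 : ℤ) ∣ Tk - Yk - 2 * 0) :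
    ∃ τ : ℤ, Tk = τ * Yk ∧ (4 : ℤ) ∣ τ - 1 ∧ Tk * Yk = τ ∧ Tk ^ 2 = τ ^ 2 := by
  rcases hY with h1 | h1
  · rw [h1] at hc ⊢
    exact ⟨Tk, by ring, by simpa using hc, by ring, rfl⟩
  · rw [h1] at hc ⊢
    refine ⟨-Tk, by ring, ?_, by ring, by ring⟩
    have : -Tk - 1 = -(Tk - -1 - 2 * 0) := by ring
    rw [this]
    exact (dvd_neg).mpr hc

theorem tau_solve (τp τm τm' c2 : ℤ) (h1 : (4 : ℤ) ∣ τp - 1) (h2 : (4 : ℤ) ∣ τm - 1)
    (h3 : (4 : ℤ) ∣ τm' - 1) (h4 : (4 : ℤ) ∣ c2 - 2) (ha : 1 + τp - τm - τm' = 0)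
    (hb : 1 + τp + τm + τm' + 2 * c2 = 0) (hsq : τp ^ 2 + τm ^ 2 + τm' ^ 2 + c2 ^ 2 ≤ 39) :
    (τp = -3 ∧ τm = 1 ∧ τm' = -3 ∧ c2 = 2) ∨ (τp = -3 ∧ τm = -3 ∧ τm' = 1 ∧ c2 = 2) ∨
    (τp = 1 ∧ τm = 1 ∧ τm' = 1 ∧ c2 = -2) ∨ (τp = 1 ∧ τm = -3 ∧ τm' = 5 ∧ c2 = -2) ∨
    (τp = 1 ∧ τm = 5 ∧ τm' = -3 ∧ c2 = -2) := by
  have hm' : τm' = 1 + τp - τm := by omega
  have hc2 : c2 = -1 - τp := by omega
  subst hm' hc2
  have hbp1 : -6 ≤ τp := by nlinarith [sq_nonneg τm, sq_nonneg (1 + τp - τm), sq_nonneg (-1 - τp)]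
  have hbp2 : τp ≤ 6 := by nlinarith [sq_nonneg τm, sq_nonneg (1 + τp - τm), sq_nonneg (-1 - τp)]
  have hbm1 : -6 ≤ τm := by nlinarith [sq_nonneg τp, sq_nonneg (1 + τp - τm), sq_nonneg (-1 - τp)]
  have hbm2 : τm ≤ 6 := by nlinarith [sq_nonneg τp, sq_nonneg (1 + τp - τm), sq_nonneg (-1 - τp)]
  clear ha hb
  interval_cases τp <;> first
    | omega
    | (interval_cases τm <;> omega)

/-- The data of the main case after the rows with `a ≠ 0` and `Y ≠ 0` have been found. -/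
structure CoreHyp (χ0 : ι) (T Y W a b : ι → ℤ) (i4 i5 : ι) (δB : ℤ) (p m m' e1 : ι) : Prop where
  b4 : b i4 = 1
  b5 : b i5 = -1
  bO : ∀ k, k ≠ i4 → k ≠ i5 → b k = 0
  T4 : T i4 = 2 * δB
  T5 : T i5 = 2 * δB
  W4 : W i4 = -δB
  W5 : W i5 = -δB
  Y4 : Y i4 = 0
  Y5 : Y i5 = 0
  a4 : a i4 = 0
  a5 : a i5 = 0
  dB : δB = 1 ∨ δB = -1
  nd : [χ0, p, m, m', e1, i4, i5].Nodup
  Yp : Y p = 1 ∨ Y p = -1
  ap : a p = Y p
  Ym : Y m = 1 ∨ Y m = -1
  am : a m = -Y m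
  Ym' : Y m' = 1 ∨ Y m' = -1
  am' : a m' = -Y m'
  aO : ∀ k, k ∉ [χ0, p, m, m'] → a k = 0
  Ye : Y e1 = 2 ∨ Y e1 = -2
  YO : ∀ k, k ∉ [χ0, p, m, m', e1] → Y k = 0

omit [Fintype ι] in
theorem CoreHyp.swap {i4 i5 : ι} {δB : ℤ} {p m m' e1 : ι}
    (hc : CoreHyp χ0 T Y W a b i4 i5 δB p m m' e1) : CoreHyp χ0 T Y W a b i4 i5 δB p m' m e1 :=
  { b4 := hc.b4, b5 := hc.b5, bO := hc.bO, T4 := hc.T4, T5 := hc.T5, W4 := hc.W4, W5 := hc.W5,
    Y4 := hc.Y4, Y5 := hc.Y5, a4 := hc.a4, a5 := hc.a5, dB := hc.dB,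
    nd := by
      have := hc.nd
      simp only [List.nodup_cons, List.mem_cons, List.not_mem_nil, or_false, not_or,
        List.nodup_nil, and_true] at this ⊢
      obtain ⟨⟨h1, h2, h3, h4, h5, h6⟩, ⟨h7, h8, h9, h10, h11⟩, ⟨h12, h13, h14, h15⟩,
        ⟨h16, h17, h18⟩, ⟨h19, h20⟩, h21⟩ := this
      exact ⟨⟨h1, h3, h2, h4, h5, h6⟩, ⟨h8, h7, h9, h10, h11⟩, ⟨Ne.symm h12, h16, h17, h18⟩,
        ⟨h13, h14, h15⟩, ⟨h19, h20⟩, h21⟩
    Yp := hc.Yp, ap := hc.ap, Ym := hc.Ym', am := hc.am', Ym' := hc.Ym, am' := hc.am,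
    aO := fun k hk => hc.aO k (by
      simp only [List.mem_cons, List.not_mem_nil, or_false, not_or] at hk ⊢
      tauto)
    Ye := hc.Ye
    YO := fun k hk => hc.YO k (by
      simp only [List.mem_cons, List.not_mem_nil, or_false, not_or] at hk ⊢
      tauto) }

theorem core_tau (h : Arith ι χ0 T Y W a b f g) {i4 i5 : ι} {δB : ℤ} {p m m' e1 : ι}
    (hc : CoreHyp χ0 T Y W a b i4 i5 δB p m m' e1) :
    (T p = -3 * Y p ∧ T m = Y m ∧ T m' = -3 * Y m' ∧ T e1 = Y e1) ∨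
    (T p = -3 * Y p ∧ T m = -3 * Y m ∧ T m' = Y m' ∧ T e1 = Y e1) ∨
    (T p = Y p ∧ T m = Y m ∧ T m' = Y m' ∧ T e1 = -Y e1) ∨
    (T p = Y p ∧ T m = -3 * Y m ∧ T m' = 5 * Y m' ∧ T e1 = -Y e1) ∨
    (T p = Y p ∧ T m = 5 * Y m ∧ T m' = -3 * Y m' ∧ T e1 = -Y e1) := by
  classical
  have hnd := hc.nd
  simp only [List.nodup_cons, List.mem_cons, List.not_mem_nil, or_false, not_or,
    List.nodup_nil, and_true] at hnd
  obtain ⟨⟨h0p, h0m, h0m', h0e, h04, h05⟩, ⟨hpm, hpm', hpe, hp4, hp5⟩, ⟨hmm', hme, hm4, hm5⟩,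
    ⟨hm'e, hm'4, hm'5⟩, ⟨he4, he5⟩, h45⟩ := hnd
  have ndO : [χ0, p, m, m'].Nodup := by simp [h0p, h0m, h0m', hpm, hpm', hmm']
  have ndY : [χ0, p, m, m', e1].Nodup := by
    simp [h0p, h0m, h0m', hpm, hpm', hmm', h0e, hpe, hme, hm'e]
  -- congruences
  have cp := h.cTY p
  rw [hc.bO p hp4 hp5] at cp
  have cm := h.cTY m
  rw [hc.bO m hm4 hm5] at cm
  have cm' := h.cTY m'
  rw [hc.bO m' hm'4 hm'5] at cm'
  have ce := h.cTY e1
  rw [hc.bO e1 he4 he5] at ce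
  simp only [mul_zero, sub_zero] at ce
  -- sums
  have sTa := sum_eq_list (fun k => T k * a k) _ ndO (fun k hk => by simp [hc.aO k hk])
  rw [h.sTa] at sTa
  simp only [List.map_cons, List.map_nil, List.sum_cons, List.sum_nil] at sTa
  rw [h.T0, h.a0, hc.ap, hc.am, hc.am'] at sTa
  have sTY := sum_eq_list (fun k => T k * Y k) _ ndY (fun k hk => by simp [hc.YO k hk])
  rw [h.sTY] at sTY
  simp only [List.map_cons, List.map_nil, List.sum_cons, List.sum_nil] at sTY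
  rw [h.T0, h.Y0] at sTY
  have sTT := list_sum_le (fun k => T k ^ 2) (fun k => sq_nonneg _) _ hc.nd
  rw [h.sTT] at sTT
  simp only [List.map_cons, List.map_nil, List.sum_cons, List.sum_nil] at sTT
  rw [h.T0, hc.T4, hc.T5] at sTT
  have hδ2 : δB ^ 2 = 1 := by rcases hc.dB with h1 | h1 <;> rw [h1] <;> norm_num
  obtain ⟨τp, hτp, hτp4, hτpY, hτpsq⟩ := tau_of hc.Yp cp
  obtain ⟨τm, hτm, hτm4, hτmY, hτmsq⟩ := tau_of hc.Ym cm
  obtain ⟨τm', hτm', hτm'4, hτm'Y, hτm'sq⟩ := tau_of hc.Ym' cm'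
  obtain ⟨c2, hc2, hc24, hc2Y, hc2sq⟩ : ∃ c2 : ℤ, T e1 * 2 = c2 * Y e1 ∧ (4 : ℤ) ∣ c2 - 2 ∧
      T e1 * Y e1 = 2 * c2 ∧ T e1 ^ 2 = c2 ^ 2 := by
    rcases hc.Ye with h1 | h1
    · rw [h1] at ce ⊢
      exact ⟨T e1, by ring, ce, by ring, rfl⟩
    · rw [h1] at ce ⊢
      refine ⟨-T e1, by ring, ?_, by ring, by ring⟩
      have : -T e1 - 2 = -(T e1 - -2) := by ring
      rw [this]
      exact (dvd_neg).mpr ce
  rw [mul_neg, mul_neg, hτpY, hτmY, hτm'Y] at sTa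
  rw [hτpY, hτmY, hτm'Y, hc2Y] at sTY
  rw [hτpsq, hτmsq, hτm'sq, hc2sq] at sTT
  have hsq : τp ^ 2 + τm ^ 2 + τm' ^ 2 + c2 ^ 2 ≤ 39 := by nlinarith
  have hD := tau_solve τp τm τm' c2 hτp4 hτm4 hτm'4 hc24 (by linarith) (by linarith) hsq
  have hTe : ∀ c : ℤ, c2 = c → T e1 * 2 = c * Y e1 := fun c hcc => by rw [← hcc]; exact hc2
  rcases hD with ⟨h1, h2, h3, h4⟩ | ⟨h1, h2, h3, h4⟩ | ⟨h1, h2, h3, h4⟩ | ⟨h1, h2, h3, h4⟩ |
    ⟨h1, h2, h3, h4⟩
  · refine Or.inl ⟨?_, ?_, ?_, ?_⟩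
    · rw [hτp, h1]
    · rw [hτm, h2, one_mul]
    · rw [hτm', h3]
    · have := hTe _ h4; linarith
  · refine Or.inr (Or.inl ⟨?_, ?_, ?_, ?_⟩)
    · rw [hτp, h1]
    · rw [hτm, h2]
    · rw [hτm', h3, one_mul]
    · have := hTe _ h4; linarith
  · refine Or.inr (Or.inr (Or.inl ⟨?_, ?_, ?_, ?_⟩))
    · rw [hτp, h1, one_mul]
    · rw [hτm, h2, one_mul]
    · rw [hτm', h3, one_mul]
    · have := hTe _ h4; linarith
  · refine Or.inr (Or.inr (Or.inr (Or.inl ⟨?_, ?_, ?_, ?_⟩)))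
    · rw [hτp, h1, one_mul]
    · rw [hτm, h2]
    · rw [hτm', h3]
    · have := hTe _ h4; linarith
  · refine Or.inr (Or.inr (Or.inr (Or.inr ⟨?_, ?_, ?_, ?_⟩)))
    · rw [hτp, h1, one_mul]
    · rw [hτm, h2]
    · rw [hτm', h3]
    · have := hTe _ h4; linarith

omit [Fintype ι] in
theorem W_sq_ge (hW : ∀ i, (3 : ℤ) ∣ W i - T i) (k : ι) (hk : ¬ (3 : ℤ) ∣ T k) :
    1 ≤ W k ^ 2 := by
  have hne : W k ≠ 0 := by
    intro h0
    have := hW k
    rw [h0, zero_sub] at this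
    exact hk ((dvd_neg).mp this)
  have : 0 < W k ^ 2 := by positivity
  omega

theorem core_A1 (h : Arith ι χ0 T Y W a b f g) {i4 i5 : ι} {δB : ℤ} {p m m' e1 : ι}
    (hc : CoreHyp χ0 T Y W a b i4 i5 δB p m m' e1) (hTp : T p = Y p) (hTm : T m = Y m)
    (hTm' : T m' = Y m') (hTe : T e1 = -Y e1) : False := by
  classical
  have hWp := W_sq_ge h.cWT p (by rw [hTp]; rcases hc.Yp with h1 | h1 <;> rw [h1] <;> omega)
  have hWm := W_sq_ge h.cWT m (by rw [hTm]; rcases hc.Ym with h1 | h1 <;> rw [h1] <;> omega)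
  have hWm' := W_sq_ge h.cWT m' (by rw [hTm']; rcases hc.Ym' with h1 | h1 <;> rw [h1] <;> omega)
  have hWe := W_sq_ge h.cWT e1 (by rw [hTe]; rcases hc.Ye with h1 | h1 <;> rw [h1] <;> omega)
  have hδ2 : δB ^ 2 = 1 := by rcases hc.dB with h1 | h1 <;> rw [h1] <;> norm_num
  have s := list_sum_le (fun k => W k ^ 2) (fun k => sq_nonneg _) _ hc.nd
  rw [h.sWW] at s
  simp only [List.map_cons, List.map_nil, List.sum_cons, List.sum_nil] at s
  rw [h.W0, hc.W4, hc.W5] at s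
  nlinarith

theorem core_A2 (h : Arith ι χ0 T Y W a b f g) {i4 i5 : ι} {δB : ℤ} {p m m' e1 : ι}
    (hc : CoreHyp χ0 T Y W a b i4 i5 δB p m m' e1) (hTp : T p = Y p) (hTm' : T m' = 5 * Y m')
    (hTe : T e1 = -Y e1) : False := by
  classical
  have hnd := hc.nd
  simp only [List.nodup_cons, List.mem_cons, List.not_mem_nil, or_false, not_or,
    List.nodup_nil, and_true] at hnd
  obtain ⟨⟨h0p, h0m, h0m', h0e, h04, h05⟩, ⟨hpm, hpm', hpe, hp4, hp5⟩, ⟨hmm', hme, hm4, hm5⟩,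
    ⟨hm'e, hm'4, hm'5⟩, ⟨he4, he5⟩, h45⟩ := hnd
  have nd6 : [χ0, p, m', e1, i4, i5].Nodup := by
    simp [h0p, h0m', h0e, h04, h05, hpm', hpe, hp4, hp5, hm'e, hm'4, hm'5, he4, he5, h45]
  have hWp := W_sq_ge h.cWT p (by rw [hTp]; rcases hc.Yp with h1 | h1 <;> rw [h1] <;> omega)
  have hWm' := W_sq_ge h.cWT m' (by rw [hTm']; rcases hc.Ym' with h1 | h1 <;> rw [h1] <;> omega)
  have hWe := W_sq_ge h.cWT e1 (by rw [hTe]; rcases hc.Ye with h1 | h1 <;> rw [h1] <;> omega)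
  have hδ2 : δB ^ 2 = 1 := by rcases hc.dB with h1 | h1 <;> rw [h1] <;> norm_num
  have s := list_sum_le (fun k => W k ^ 2) (fun k => sq_nonneg _) _ nd6
  rw [h.sWW] at s
  simp only [List.map_cons, List.map_nil, List.sum_cons, List.sum_nil] at s
  rw [h.W0, hc.W4, hc.W5] at s
  have hWoff := zero_off_list (fun k => W k ^ 2) (fun k => sq_nonneg _) _ nd6 (by
    simp only [List.map_cons, List.map_nil, List.sum_cons, List.sum_nil]
    rw [h.sWW, h.W0, hc.W4, hc.W5]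
    nlinarith)
  have sTW := sum_eq_list (fun k => T k * W k) _ nd6 (fun k hk => by
    have := hWoff k hk
    simp only [pow_eq_zero_iff, ne_eq, OfNat.ofNat_ne_zero, not_false_eq_true] at this
    simp [this])
  rw [h.sTW] at sTW
  simp only [List.map_cons, List.map_nil, List.sum_cons, List.sum_nil] at sTW
  rw [h.T0, h.W0, hc.T4, hc.T5, hc.W4, hc.W5] at sTW
  have hWp1 : W p ^ 2 ≤ 1 := by nlinarith
  have hWm'1 : W m' ^ 2 ≤ 1 := by nlinarith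
  have hWe1 : W e1 ^ 2 ≤ 1 := by nlinarith
  have bp : -1 ≤ W p ∧ W p ≤ 1 := by constructor <;> nlinarith
  have bm' : -1 ≤ W m' ∧ W m' ≤ 1 := by constructor <;> nlinarith
  have be : -1 ≤ W e1 ∧ W e1 ≤ 1 := by constructor <;> nlinarith
  have cp := h.cWT p
  have cm' := h.cWT m'
  have ce := h.cWT e1
  have e1' : T p * W p = 1 := by
    rcases hc.Yp with h1 | h1
    · have hT1 : T p = 1 := by rw [hTp, h1]
      have hW1 : W p = 1 := by omega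
      rw [hT1, hW1]; norm_num
    · have hT1 : T p = -1 := by rw [hTp, h1]
      have hW1 : W p = -1 := by omega
      rw [hT1, hW1]; norm_num
  have e2' : T m' * W m' = -5 := by
    rcases hc.Ym' with h1 | h1
    · have hT1 : T m' = 5 := by rw [hTm', h1]; norm_num
      have hW1 : W m' = -1 := by omega
      rw [hT1, hW1]; norm_num
    · have hT1 : T m' = -5 := by rw [hTm', h1]; norm_num
      have hW1 : W m' = 1 := by omega
      rw [hT1, hW1]; norm_num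
  have e3' : T e1 * W e1 = -2 := by
    rcases hc.Ye with h1 | h1
    · have hT1 : T e1 = -2 := by rw [hTe, h1]
      have hW1 : W e1 = 1 := by omega
      rw [hT1, hW1]; norm_num
    · have hT1 : T e1 = 2 := by rw [hTe, h1]; norm_num
      have hW1 : W e1 = -1 := by omega
      rw [hT1, hW1]; norm_num
  rw [e1', e2', e3'] at sTW
  nlinarith

theorem core_B (h : Arith ι χ0 T Y W a b f g) {i4 i5 : ι} {δB : ℤ} {p m m' e1 : ι}
    (hc : CoreHyp χ0 T Y W a b i4 i5 δB p m m' e1) (hTp : T p = -3 * Y p) (hTm : T m = Y m)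
    (hTm' : T m' = -3 * Y m') (hTe : T e1 = Y e1) : Pattern ι χ0 T Y W a b := by
  classical
  have hnd := hc.nd
  simp only [List.nodup_cons, List.mem_cons, List.not_mem_nil, or_false, not_or,
    List.nodup_nil, and_true] at hnd
  obtain ⟨⟨h0p, h0m, h0m', h0e, h04, h05⟩, ⟨hpm, hpm', hpe, hp4, hp5⟩, ⟨hmm', hme, hm4, hm5⟩,
    ⟨hm'e, hm'4, hm'5⟩, ⟨he4, he5⟩, h45⟩ := hnd
  have hδ2 : δB ^ 2 = 1 := by rcases hc.dB with h1 | h1 <;> rw [h1] <;> norm_num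
  have hYp2 : Y p ^ 2 = 1 := by rcases hc.Yp with h1 | h1 <;> rw [h1] <;> norm_num
  have hYm2 : Y m ^ 2 = 1 := by rcases hc.Ym with h1 | h1 <;> rw [h1] <;> norm_num
  have hYm'2 : Y m' ^ 2 = 1 := by rcases hc.Ym' with h1 | h1 <;> rw [h1] <;> norm_num
  have hYe2 : Y e1 ^ 2 = 4 := by rcases hc.Ye with h1 | h1 <;> rw [h1] <;> norm_num
  -- the eighth row
  obtain ⟨r, hr, hTr⟩ := exists_off_list (fun k => T k ^ 2) _ hc.nd (by
    simp only [List.map_cons, List.map_nil, List.sum_cons, List.sum_nil]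
    rw [h.sTT, h.T0, hTp, hTm, hTm', hTe, hc.T4, hc.T5]
    nlinarith)
  have hTr' : T r ≠ 0 := by
    intro h0; apply hTr; simp [h0]
  have hnd8 : [r, χ0, p, m, m', e1, i4, i5].Nodup := List.nodup_cons.mpr ⟨hr, hc.nd⟩
  simp only [List.mem_cons, List.not_mem_nil, or_false, not_or] at hr
  obtain ⟨hr0, hrp, hrm, hrm', hre, hr4, hr5⟩ := hr
  have har : a r = 0 := hc.aO r (by simp [hr0, hrp, hrm, hrm'])
  have hYr : Y r = 0 := hc.YO r (by simp [hr0, hrp, hrm, hrm', hre])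
  have hbr : b r = 0 := hc.bO r hr4 hr5
  have cr := h.cTY r
  rw [hYr, hbr] at cr
  have s8 := list_sum_le (fun k => T k ^ 2) (fun k => sq_nonneg _) _ hnd8
  rw [h.sTT] at s8
  simp only [List.map_cons, List.map_nil, List.sum_cons, List.sum_nil] at s8
  rw [h.T0, hTp, hTm, hTm', hTe, hc.T4, hc.T5] at s8
  have hTr2 : T r ^ 2 ≤ 16 := by nlinarith
  have hTrb : -4 ≤ T r ∧ T r ≤ 4 := by constructor <;> nlinarith
  obtain ⟨ρ, hρ, hTrρ⟩ : ∃ ρ : ℤ, (ρ = 1 ∨ ρ = -1) ∧ T r = 4 * ρ := by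
    have : T r = 4 ∨ T r = -4 := by omega
    rcases this with h1 | h1
    · exact ⟨1, Or.inl rfl, by omega⟩
    · exact ⟨-1, Or.inr rfl, by omega⟩
  have hρ2 : ρ ^ 2 = 1 := by rcases hρ with h1 | h1 <;> rw [h1] <;> norm_num
  have hToff := zero_off_list (fun k => T k ^ 2) (fun k => sq_nonneg _) _ hnd8 (by
    simp only [List.map_cons, List.map_nil, List.sum_cons, List.sum_nil]
    rw [h.sTT, h.T0, hTp, hTm, hTm', hTe, hc.T4, hc.T5, hTrρ]
    nlinarith)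
  -- the column `W`
  have nd6 : [χ0, m, e1, i4, i5, r].Nodup := by
    simp [h0m, h0e, h04, h05, Ne.symm hr0, hme, hm4, hm5, Ne.symm hrm, he4, he5, Ne.symm hre,
      h45, Ne.symm hr4, Ne.symm hr5]
  have hWm := W_sq_ge h.cWT m (by rw [hTm]; rcases hc.Ym with h1 | h1 <;> rw [h1] <;> omega)
  have hWe := W_sq_ge h.cWT e1 (by rw [hTe]; rcases hc.Ye with h1 | h1 <;> rw [h1] <;> omega)
  have hWr := W_sq_ge h.cWT r (by rw [hTrρ]; rcases hρ with h1 | h1 <;> rw [h1] <;> omega)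
  have s := list_sum_le (fun k => W k ^ 2) (fun k => sq_nonneg _) _ nd6
  rw [h.sWW] at s
  simp only [List.map_cons, List.map_nil, List.sum_cons, List.sum_nil] at s
  rw [h.W0, hc.W4, hc.W5] at s
  have hWoff : ∀ k, k ∉ [χ0, m, e1, i4, i5, r] → W k = 0 := by
    intro k hk
    have := zero_off_list (fun k => W k ^ 2) (fun k => sq_nonneg _) _ nd6 (by
      simp only [List.map_cons, List.map_nil, List.sum_cons, List.sum_nil]
      rw [h.sWW, h.W0, hc.W4, hc.W5]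
      nlinarith) k hk
    simpa using this
  have hWp : W p = 0 := hWoff p (by
    simp [Ne.symm h0p, hpm, hpe, hp4, hp5, Ne.symm hrp])
  have hWm' : W m' = 0 := hWoff m' (by
    simp [Ne.symm h0m', Ne.symm hmm', hm'e, hm'4, hm'5, Ne.symm hrm'])
  have hWm1 : W m ^ 2 ≤ 1 := by nlinarith
  have hWe1 : W e1 ^ 2 ≤ 1 := by nlinarith
  have hWr1 : W r ^ 2 ≤ 1 := by nlinarith
  have bm : -1 ≤ W m ∧ W m ≤ 1 := by constructor <;> nlinarith
  have be : -1 ≤ W e1 ∧ W e1 ≤ 1 := by constructor <;> nlinarith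
  have br : -1 ≤ W r ∧ W r ≤ 1 := by constructor <;> nlinarith
  have cWm := h.cWT m
  have cWe := h.cWT e1
  have cWr := h.cWT r
  have hWmv : W m = Y m := by
    rcases hc.Ym with h1 | h1 <;> rw [hTm, h1] at cWm <;> rw [h1] <;> omega
  obtain ⟨θ, hθ, hYθ⟩ : ∃ θ : ℤ, (θ = 1 ∨ θ = -1) ∧ Y e1 = 2 * θ := by
    rcases hc.Ye with h1 | h1
    · exact ⟨1, Or.inl rfl, by omega⟩
    · exact ⟨-1, Or.inr rfl, by omega⟩
  have hWev : W e1 = -θ := by
    rw [hTe, hYθ] at cWe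
    rcases hθ with h1 | h1 <;> rw [h1] at cWe ⊢ <;> omega
  have hWrv : W r = ρ := by
    rw [hTrρ] at cWr
    rcases hρ with h1 | h1 <;> rw [h1] at cWr ⊢ <;> omega
  -- the two rows with `b ≠ 0`, in the order of the table
  obtain ⟨x3, x4, hx, h3T, h3Y, h3W, h3a, h3b, h4T, h4Y, h4W, h4a, h4b⟩ : ∃ x3 x4 : ι,
      ((x3 = i4 ∧ x4 = i5) ∨ (x3 = i5 ∧ x4 = i4)) ∧ T x3 = 2 * δB ∧ Y x3 = 0 ∧ W x3 = -δB ∧
      a x3 = 0 ∧ b x3 = δB ∧ T x4 = 2 * δB ∧ Y x4 = 0 ∧ W x4 = -δB ∧ a x4 = 0 ∧ b x4 = -δB := by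
    rcases hc.dB with hd | hd
    · refine ⟨i4, i5, Or.inl ⟨rfl, rfl⟩, hc.T4, hc.Y4, hc.W4, hc.a4, ?_, hc.T5, hc.Y5, hc.W5,
        hc.a5, ?_⟩
      · rw [hc.b4, hd]
      · rw [hc.b5, hd]
    · refine ⟨i5, i4, Or.inr ⟨rfl, rfl⟩, hc.T5, hc.Y5, hc.W5, hc.a5, ?_, hc.T4, hc.Y4, hc.W4,
        hc.a4, ?_⟩
      · rw [hc.b5, hd]
      · rw [hc.b4, hd]; norm_num
  have key : ∀ k, k ≠ i4 → k ≠ i5 → k ≠ x3 ∧ k ≠ x4 := by
    intro k h1 h2
    rcases hx with ⟨rfl, rfl⟩ | ⟨rfl, rfl⟩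
    · exact ⟨h1, h2⟩
    · exact ⟨h2, h1⟩
  have key' : ∀ k, k ≠ x3 → k ≠ x4 → k ≠ i4 ∧ k ≠ i5 := by
    intro k h1 h2
    rcases hx with ⟨rfl, rfl⟩ | ⟨rfl, rfl⟩
    · exact ⟨h1, h2⟩
    · exact ⟨h2, h1⟩
  have h34 : x3 ≠ x4 := by
    rcases hx with ⟨rfl, rfl⟩ | ⟨rfl, rfl⟩
    · exact h45.1
    · exact fun hh => h45.1 hh.symm
  obtain ⟨k03, k04⟩ := key χ0 h04 h05
  obtain ⟨kp3, kp4⟩ := key p hp4 hp5
  obtain ⟨km3, km4⟩ := key m hm4 hm5
  obtain ⟨km'3, km'4⟩ := key m' hm'4 hm'5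
  obtain ⟨ke3, ke4⟩ := key e1 he4 he5
  obtain ⟨kr3, kr4⟩ := key r hr4 hr5
  have ndx : [χ0, m, e1, x3, x4, p, m', r].Nodup := by
    simp only [List.nodup_cons, List.mem_cons, List.not_mem_nil, or_false, not_or,
      List.nodup_nil, and_true, not_false_eq_true]
    refine ⟨⟨?_, ?_, ?_, ?_, ?_, ?_, ?_⟩, ⟨?_, ?_, ?_, ?_, ?_, ?_⟩, ⟨?_, ?_, ?_, ?_, ?_⟩,
      ⟨?_, ?_, ?_, ?_⟩, ⟨?_, ?_, ?_⟩, ⟨?_, ?_⟩, ?_⟩ <;>
      first | assumption | (apply Ne.symm; assumption)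
  have T0 := h.T0
  have Y0 := h.Y0
  have W0 := h.W0
  have a0 := h.a0
  have b0 := h.b0
  have ap := hc.ap
  have am := hc.am
  have am' := hc.am'
  have bp := hc.bO p hp4 hp5
  have bm0 := hc.bO m hm4 hm5
  have bm' := hc.bO m' hm'4 hm'5
  have be0 := hc.bO e1 he4 he5
  have ae := hc.aO e1 (by simp [Ne.symm h0e, Ne.symm hpe, Ne.symm hme, Ne.symm hm'e])
  refine ⟨![χ0, m, e1, x3, x4, p, m', r], ![1, Y m, θ, δB, δB, -Y p, -Y m', ρ], ?_, rfl, ?_, ?_,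
    ?_⟩
  · exact List.nodup_ofFn.mp (by simpa using ndx)
  · intro j
    have hYm := hc.Ym
    have hYp := hc.Yp
    have hYm' := hc.Ym'
    have hdB := hc.dB
    fin_cases j <;> simp <;> omega
  · intro j
    fin_cases j <;> simp [UT, UY, UW, Ua, Ub] <;> omega
  · intro k hk
    have hk' : ∀ j, k ≠ ![χ0, m, e1, x3, x4, p, m', r] j := fun j hkj => hk ⟨j, hkj.symm⟩
    have k0 : k ≠ χ0 := hk' 0
    have k1 : k ≠ m := hk' 1
    have k2 : k ≠ e1 := hk' 2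
    have k3 : k ≠ x3 := hk' 3
    have k4 : k ≠ x4 := hk' 4
    have k5 : k ≠ p := hk' 5
    have k6 : k ≠ m' := hk' 6
    have k7 : k ≠ r := hk' 7
    obtain ⟨ki4, ki5⟩ := key' k k3 k4
    refine ⟨?_, ?_, ?_, ?_, ?_⟩
    · have := hToff k (by simp [k0, k1, k2, k5, k6, k7, ki4, ki5])
      simpa using this
    · exact hc.YO k (by simp [k0, k1, k2, k5, k6])
    · exact hWoff k (by simp [k0, k1, k2, k7, ki4, ki5])
    · exact hc.aO k (by simp [k0, k1, k5, k6])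
    · exact hc.bO k ki4 ki5

theorem core_all (h : Arith ι χ0 T Y W a b f g) {i4 i5 : ι} {δB : ℤ} {p m m' e1 : ι}
    (hc : CoreHyp χ0 T Y W a b i4 i5 δB p m m' e1) : Pattern ι χ0 T Y W a b := by
  rcases core_tau h hc with ⟨h1, h2, h3, h4⟩ | ⟨h1, h2, h3, h4⟩ | ⟨h1, h2, h3, h4⟩ |
    ⟨h1, h2, h3, h4⟩ | ⟨h1, h2, h3, h4⟩
  · exact core_B h hc h1 h2 h3 h4
  · exact core_B h hc.swap h1 h3 h2 h4
  · exact (core_A1 h hc h1 h2 h3 h4).elim
  · exact (core_A2 h hc h1 h3 h4).elim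
  · exact (core_A2 h hc.swap h1 h2 h4).elim

omit [Fintype ι] in
theorem sgn_cases {y x : ℤ} (hy : y = 1 ∨ y = -1) (hx : x = 1 ∨ x = -1) :
    (y * x = 1 ∧ x = y) ∨ (y * x = -1 ∧ x = -y) := by
  rcases hy with rfl | rfl <;> rcases hx with rfl | rfl <;> simp

/-- **S0197, piece PII**: the main case of the pattern lemma. -/
theorem pat_caseII (h : Arith ι χ0 T Y W a b f g) (i4 i5 : ι) (h45 : i4 ≠ i5) (hb4 : b i4 = 1)
    (hb5 : b i5 = -1) (hb : ∀ k, k ≠ i4 → k ≠ i5 → b k = 0) (hT : T i4 = T i5)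
    (hY : Y i4 = Y i5) (hW : W i4 = W i5) (ha : a i4 = a i5) (ha4 : a i4 = 0) :
    Pattern ι χ0 T Y W a b := by
  classical
  obtain ⟨δB, o1, o2, o3, e1, hδ, hT4, hW4, hY4, hnd, ha1, ha2, ha3, hY1, hY2, hY3, haO, hYe,
    hYO⟩ := pII_setup h i4 i5 h45 hb4 hb5 hT hY hW ha ha4
  have hnd' := hnd
  simp only [List.nodup_cons, List.mem_cons, List.not_mem_nil, or_false, not_or,
    List.nodup_nil, and_true, not_false_eq_true] at hnd'
  obtain ⟨⟨h01, h02, h03, h0e, h04, h05⟩, ⟨h12, h13, h1e, h14, h15⟩, ⟨h23, h2e, h24, h25⟩,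
    ⟨h3e, h34, h35⟩, ⟨he4, he5⟩, h45'⟩ := hnd'
  have ndO : [χ0, o1, o2, o3].Nodup := by simp [h01, h02, h03, h12, h13, h23]
  have sYa := sum_eq_list (fun k => Y k * a k) _ ndO (fun k hk => by simp [haO k hk])
  rw [h.sYa] at sYa
  simp only [List.map_cons, List.map_nil, List.sum_cons, List.sum_nil] at sYa
  rw [h.Y0, h.a0] at sYa
  have base : ∀ p m m' : ι, [χ0, p, m, m', e1, i4, i5].Nodup → (Y p = 1 ∨ Y p = -1) →
      a p = Y p → (Y m = 1 ∨ Y m = -1) → a m = -Y m → (Y m' = 1 ∨ Y m' = -1) → a m' = -Y m' →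
      (∀ k, k ∉ [χ0, p, m, m'] → a k = 0) → (∀ k, k ∉ [χ0, p, m, m', e1] → Y k = 0) →
      Pattern ι χ0 T Y W a b := by
    intro p m m' nd Yp ap Ym am Ym' am' aO YO
    exact core_all h
      { b4 := hb4, b5 := hb5, bO := hb, T4 := hT4, T5 := by rw [← hT]; exact hT4, W4 := hW4,
        W5 := by rw [← hW]; exact hW4, Y4 := hY4, Y5 := by rw [← hY]; exact hY4, a4 := ha4,
        a5 := by rw [← ha]; exact ha4, dB := hδ, nd := nd, Yp := Yp, ap := ap, Ym := Ym,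
        am := am, Ym' := Ym', am' := am', aO := aO, Ye := hYe, YO := YO }
  rcases sgn_cases hY1 ha1 with ⟨s1, v1⟩ | ⟨s1, v1⟩ <;>
    rcases sgn_cases hY2 ha2 with ⟨s2, v2⟩ | ⟨s2, v2⟩ <;>
    rcases sgn_cases hY3 ha3 with ⟨s3, v3⟩ | ⟨s3, v3⟩ <;> rw [s1, s2, s3] at sYa
  · omega
  · omega
  · omega
  · exact base o1 o2 o3 hnd hY1 v1 hY2 v2 hY3 v3 haO hYO
  · omega
  · refine base o2 o1 o3 ?_ hY2 v2 hY1 v1 hY3 v3 (fun k hk => haO k ?_) (fun k hk => hYO k ?_)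
    · simp only [List.nodup_cons, List.mem_cons, List.not_mem_nil, or_false, not_or,
        List.nodup_nil, and_true, not_false_eq_true]
      refine ⟨⟨?_, ?_, ?_, ?_, ?_, ?_⟩, ⟨?_, ?_, ?_, ?_, ?_⟩, ⟨?_, ?_, ?_, ?_⟩, ⟨?_, ?_, ?_⟩,
        ⟨?_, ?_⟩, ?_⟩ <;> first | assumption | (apply Ne.symm; assumption)
    · simp only [List.mem_cons, List.not_mem_nil, or_false, not_or] at hk ⊢
      tauto
    · simp only [List.mem_cons, List.not_mem_nil, or_false, not_or] at hk ⊢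
      tauto
  · refine base o3 o1 o2 ?_ hY3 v3 hY1 v1 hY2 v2 (fun k hk => haO k ?_) (fun k hk => hYO k ?_)
    · simp only [List.nodup_cons, List.mem_cons, List.not_mem_nil, or_false, not_or,
        List.nodup_nil, and_true, not_false_eq_true]
      refine ⟨⟨?_, ?_, ?_, ?_, ?_, ?_⟩, ⟨?_, ?_, ?_, ?_, ?_⟩, ⟨?_, ?_, ?_, ?_⟩, ⟨?_, ?_, ?_⟩,
        ⟨?_, ?_⟩, ?_⟩ <;> first | assumption | (apply Ne.symm; assumption)
    · simp only [List.mem_cons, List.not_mem_nil, or_false, not_or] at hk ⊢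
      tauto
    · simp only [List.mem_cons, List.not_mem_nil, or_false, not_or] at hk ⊢
      tauto
  · omega

end pII

end Cfsg.Agent.Lib.helper81.S0197
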