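import Mathlib
import Cfsg.Agent.Lib.helper81.S4484Defs
import Cfsg.Agent.Lib.helper7.S4484SP3
import Cfsg.Agent.Lib.helper43.S4484SP4
import Cfsg.Agent.Lib.helper43.S4484TAU
import Cfsg.Agent.Lib.helper11.S4484AN3
import Cfsg.Agent.Lib.helper61.S4484NT1
import Cfsg.Agent.Lib.helper61.S4484NT2
import Cfsg.Agent.Lib.helper61.S4484NT3
import Cfsg.Agent.Lib.helper57.S4484ALG

/-!
# S4484: the commuting lemma (helper81)

`comm_of_few_eigen`: in a complex representation of a finite group, two elements `S, S'` with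
`S ^ p = S' ^ p = 1` having at most `m`, `m'` distinct eigenvalues commute (in the representation)
as soon as `p ^ (m + m' - 2) < 2 ^ (p - 1)`.
-/

set_option autoImplicit false

namespace Cfsg.Agent.Lib.helper81.S4484

open Cfsg Cfsg.Agent.Lib.helper83 Cfsg.Agent.Lib.helper79 Cfsg.Agent.Lib.helper81
open Cfsg.Agent.Lib.helper7.S4484 Cfsg.Agent.Lib.helper43.S4484 Cfsg.Agent.Lib.helper11.S4484
  Cfsg.Agent.Lib.helper61.S4484 Cfsg.Agent.Lib.helper57.S4484
open scoped Matrix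

universe u

theorem repMat_pow' {G : Type u} [Group G] {n : ℕ} (ρ : Representation ℂ G (Fin n → ℂ)) (g : G)
    (k : ℕ) : repMat ρ (g ^ k) = repMat ρ g ^ k := by
  induction k with
  | zero => simp [repMat_one]
  | succ k ih => rw [pow_succ, repMat_mul, ih, pow_succ]

theorem ringHom_aeval_int (τ : ℂ →+* ℂ) (z : ℂ) (F : Polynomial ℤ) :
    τ (Polynomial.aeval z F) = Polynomial.aeval (τ z) F := by
  rw [Polynomial.aeval_def, Polynomial.aeval_def, Polynomial.hom_eval₂]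
  congr 1
  exact RingHom.ext_int _ _

theorem pow_mod_of_pow_eq_one (lam : ℂ) (p s : ℕ) (hl : lam ^ p = 1) :
    lam ^ s = lam ^ (s % p) := by
  conv_lhs => rw [← Nat.div_add_mod s p]
  rw [pow_add, pow_mul, hl, one_pow, one_mul]

theorem map_trace_pow {n : ℕ} (τ : ℂ →+* ℂ) (X : Matrix (Fin n) (Fin n) ℂ) (k : ℕ) :
    τ ((X ^ k).trace) = ((X.map τ) ^ k).trace := by
  have h1 := AddMonoidHom.map_trace (τ : ℂ →+ ℂ) (X ^ k)
  have h2 : (τ.mapMatrix) (X ^ k) = (τ.mapMatrix X) ^ k := map_pow _ _ _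
  simp only [RingHom.mapMatrix_apply] at h2
  rw [← h2]
  exact h1

theorem map_expr {n : ℕ} (τ : ℂ →+* ℂ) (P P' : Matrix (Fin n) (Fin n) ℂ) :
    (P * P' * P * (1 - P')).map τ = P.map τ * P'.map τ * P.map τ * (1 - P'.map τ) := by
  have h := map_mul τ.mapMatrix (P * P' * P) (1 - P')
  simp only [RingHom.mapMatrix_apply] at h
  rw [h]
  have h2 := map_mul τ.mapMatrix (P * P') P
  have h3 := map_mul τ.mapMatrix P P'
  have h4 := map_sub τ.mapMatrix (1 : Matrix (Fin n) (Fin n) ℂ) P'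
  have h5 := map_one (τ.mapMatrix (m := Fin n))
  simp only [RingHom.mapMatrix_apply] at h2 h3 h4 h5
  rw [h2, h3, h4, h5]

theorem proj_comm_core {G : Type u} [Group G] [Finite G] {n : ℕ}
    (ρ : Representation ℂ G (Fin n → ℂ)) (p : ℕ) (hp : p.Prime) (hpG : p ∣ Nat.card G)
    (S S' : G) (hS : S ^ p = 1) (hS' : S' ^ p = 1) (E E' : Finset ℂ)
    (hE : ∀ lam ∈ E, lam ^ p = 1) (hE' : ∀ lam ∈ E', lam ^ p = 1)
    (hPE : ∀ lam : ℂ, lam ^ p = 1 → lam ∉ E → proj (repMat ρ S) p lam = 0)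
    (hPE' : ∀ lam : ℂ, lam ^ p = 1 → lam ∉ E' → proj (repMat ρ S') p lam = 0)
    (h : p ^ (E.card + E'.card - 2) < 2 ^ (p - 1))
    (lam lam' : ℂ) (hlE : lam ∈ E) (hlE' : lam' ∈ E') :
    proj (repMat ρ S) p lam * proj (repMat ρ S') p lam' =
      proj (repMat ρ S') p lam' * proj (repMat ρ S) p lam := by
  classical
  have hl := hE lam hlE
  have hl' := hE' lam' hlE'
  have hMp : repMat ρ S ^ p = 1 := by rw [← repMat_pow', hS, repMat_one]
  have hM'p : repMat ρ S' ^ p = 1 := by rw [← repMat_pow', hS', repMat_one]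
  have hNpos : 0 < Nat.card G := Nat.card_pos
  obtain ⟨ζ, hζ⟩ : ∃ ζ : ℂ, IsPrimitiveRoot ζ (Nat.card G) :=
    ⟨_, Complex.isPrimitiveRoot_exp (Nat.card G) hNpos.ne'⟩
  obtain ⟨k, hk, hkb⟩ := exists_pow_bound p n (E.card + E'.card - 2) hp h
  set α : ℂ := ∏ mu ∈ E.erase lam, (lam - mu) with hα
  set α' : ℂ := ∏ mu ∈ E'.erase lam', (lam' - mu) with hα'
  have hα0 : α ≠ 0 := by
    rw [hα, Finset.prod_ne_zero_iff]
    intro mu hmu
    exact sub_ne_zero.mpr (Finset.ne_of_mem_erase hmu).symm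
  have hα'0 : α' ≠ 0 := by
    rw [hα', Finset.prod_ne_zero_iff]
    intro mu hmu
    exact sub_ne_zero.mpr (Finset.ne_of_mem_erase hmu).symm
  set P := proj (repMat ρ S) p lam with hP
  set P' := proj (repMat ρ S') p lam' with hP'
  have hA : Polynomial.aeval (repMat ρ S)
      (∏ mu ∈ E.erase lam, (Polynomial.X - Polynomial.C mu)) = α • P :=
    aeval_prod_eq (repMat ρ S) p hp.pos hMp E hE hPE lam hl
  have hA' : Polynomial.aeval (repMat ρ S')
      (∏ mu ∈ E'.erase lam', (Polynomial.X - Polynomial.C mu)) = α' • P' :=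
    aeval_prod_eq (repMat ρ S') p hp.pos hM'p E' hE' hPE' lam' hl'
  set Y : Matrix (Fin n) (Fin n) ℂ :=
    (α • P) * (α' • P') * (α • P) * (α' • (1 : Matrix (Fin n) (Fin n) ℂ) - α' • P') with hYdef
  have hY : Y = (α ^ 2 * α' ^ 2) • (P * P' * P * (1 - P')) := by
    rw [hYdef, ← smul_sub]
    simp only [Matrix.smul_mul, Matrix.mul_smul, smul_smul]
    congr 1
    ring
  have hYk : (Y ^ k).trace = (α ^ 2 * α' ^ 2) ^ k * ((P * P' * P * (1 - P')) ^ k).trace := by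
    rw [hY, smul_pow, Matrix.trace_smul, smul_eq_mul]
  obtain ⟨r, hr0, hrn, hrtr, hrcomm⟩ := ana_bound ρ p hp S S' hS hS' lam lam' hl hl' k hk
  -- membership in the `ℤ[ζ]`-algebra
  set 𝒜 := Algebra.adjoin ℤ
    (Set.range (repMat ρ) ∪ {ζ • (1 : Matrix (Fin n) (Fin n) ℂ)}) with h𝒜
  have hroot : ∀ mu : ℂ, mu ^ p = 1 → mu • (1 : Matrix (Fin n) (Fin n) ℂ) ∈ 𝒜 := by
    intro mu hmu
    have hmuN : mu ^ Nat.card G = 1 := by
      obtain ⟨d, hd⟩ := hpG
      rw [hd, pow_mul, hmu, one_pow]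
    obtain ⟨t, -, ht⟩ := hζ.eq_pow_of_pow_eq_one hmuN
    have h1 : mu • (1 : Matrix (Fin n) (Fin n) ℂ) = (ζ • (1 : Matrix (Fin n) (Fin n) ℂ)) ^ t := by
      rw [smul_pow, one_pow, ht]
    rw [h1]
    exact 𝒜.pow_mem (Algebra.subset_adjoin (Or.inr rfl)) t
  have hAmem : ∀ (T : G) (E₀ : Finset ℂ), (∀ mu ∈ E₀, mu ^ p = 1) →
      Polynomial.aeval (repMat ρ T) (∏ mu ∈ E₀, (Polynomial.X - Polynomial.C mu)) ∈ 𝒜 := by
    intro T E₀
    induction E₀ using Finset.induction_on with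
    | empty =>
      intro _
      rw [Finset.prod_empty, map_one]
      exact 𝒜.one_mem
    | insert a s ha ih =>
      intro hE₀
      rw [Finset.prod_insert ha, map_mul, map_sub, Polynomial.aeval_X, Polynomial.aeval_C,
        Algebra.algebraMap_eq_smul_one]
      exact 𝒜.mul_mem
        (𝒜.sub_mem (Algebra.subset_adjoin (Or.inl ⟨T, rfl⟩))
          (hroot a (hE₀ a (Finset.mem_insert_self a s))))
        (ih (fun mu hmu => hE₀ mu (Finset.mem_insert_of_mem hmu)))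
  have hαP : α • P ∈ 𝒜 := by
    rw [← hA]
    exact hAmem S _ (fun mu hmu => hE mu (Finset.mem_of_mem_erase hmu))
  have hα'P' : α' • P' ∈ 𝒜 := by
    rw [← hA']
    exact hAmem S' _ (fun mu hmu => hE' mu (Finset.mem_of_mem_erase hmu))
  have hscal : ∀ (E₀ : Finset ℂ), (∀ mu ∈ E₀, mu ^ p = 1) →
      (∏ mu ∈ E₀, (lam' - mu)) • (1 : Matrix (Fin n) (Fin n) ℂ) ∈ 𝒜 := by
    intro E₀
    induction E₀ using Finset.induction_on with
    | empty =>
      intro _
      rw [Finset.prod_empty, one_smul]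
      exact 𝒜.one_mem
    | insert a s ha ih =>
      intro hE₀
      have h1 : (∏ mu ∈ insert a s, (lam' - mu)) • (1 : Matrix (Fin n) (Fin n) ℂ) =
          (lam' • (1 : Matrix (Fin n) (Fin n) ℂ) - a • 1) *
            ((∏ mu ∈ s, (lam' - mu)) • (1 : Matrix (Fin n) (Fin n) ℂ)) := by
        rw [Finset.prod_insert ha, ← sub_smul, smul_mul_assoc, one_mul, smul_smul]
      rw [h1]
      exact 𝒜.mul_mem
        (𝒜.sub_mem (hroot lam' hl') (hroot a (hE₀ a (Finset.mem_insert_self a s))))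
        (ih (fun mu hmu => hE₀ mu (Finset.mem_insert_of_mem hmu)))
  have hα'1 : α' • (1 : Matrix (Fin n) (Fin n) ℂ) ∈ 𝒜 :=
    hscal _ (fun mu hmu => hE' mu (Finset.mem_of_mem_erase hmu))
  have hYmem : Y ^ k ∈ 𝒜 :=
    𝒜.pow_mem (𝒜.mul_mem (𝒜.mul_mem (𝒜.mul_mem hαP hα'P') hαP) (𝒜.sub_mem hα'1 hα'P')) k
  obtain ⟨F, hF⟩ := trace_mem_adjoin ρ ζ hζ (Y ^ k) hYmem
  -- the bounds
  set R : ℕ → ℝ := fun t =>
    ((∏ mu ∈ E.erase lam, ‖lam ^ t - mu ^ t‖) ^ 2 *
      (∏ mu ∈ E'.erase lam', ‖lam' ^ t - mu ^ t‖) ^ 2) ^ k * ((n : ℝ) / 4 ^ k) with hRdef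
  have hR0 : ∀ t, 0 ≤ R t := by
    intro t
    rw [hRdef]
    positivity
  have hR : ∀ s : ℕ, s.Coprime (Nat.card G) → ‖Polynomial.aeval (ζ ^ s) F‖ ≤ R (s % p) := by
    intro s hs
    obtain ⟨τ, hτ⟩ := exists_ringEquiv_complex_pow (Nat.card G) hNpos s hs
    have hτp : ∀ mu : ℂ, mu ^ p = 1 → (τ : ℂ →+* ℂ) mu = mu ^ (s % p) := by
      intro mu hmu
      have hmuN : mu ^ Nat.card G = 1 := by
        obtain ⟨d, hd⟩ := hpG
        rw [hd, pow_mul, hmu, one_pow]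
      have := hτ mu hmuN
      rw [pow_mod_of_pow_eq_one mu p s hmu] at this
      exact this
    have h1 : (τ : ℂ →+* ℂ) ((Y ^ k).trace) = Polynomial.aeval (ζ ^ s) F := by
      have hz : (τ : ℂ →+* ℂ) ζ = ζ ^ s := hτ ζ hζ.pow_eq_one
      rw [hF, ringHom_aeval_int, hz]
    have hτl : ((τ : ℂ →+* ℂ) lam) ^ p = 1 := by rw [← map_pow, hl, map_one]
    have hτl' : ((τ : ℂ →+* ℂ) lam') ^ p = 1 := by rw [← map_pow, hl', map_one]
    obtain ⟨rτ, hrτ0, hrτn, hrτtr, -⟩ := ana_bound (conjRep (τ : ℂ →+* ℂ) ρ) p hp S S' hS hS'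
      ((τ : ℂ →+* ℂ) lam) ((τ : ℂ →+* ℂ) lam') hτl hτl' k hk
    have h2 : (τ : ℂ →+* ℂ) (((P * P' * P * (1 - P')) ^ k).trace) = (rτ : ℂ) := by
      rw [map_trace_pow, map_expr, hP, hP', proj_map, proj_map, ← repMat_conjRep,
        ← repMat_conjRep]
      exact hrτtr
    have h3 : (τ : ℂ →+* ℂ) α = ∏ mu ∈ E.erase lam, (lam ^ (s % p) - mu ^ (s % p)) := by
      rw [hα, map_prod]
      refine Finset.prod_congr rfl (fun mu hmu => ?_)
      rw [map_sub, hτp lam hl, hτp mu (hE mu (Finset.mem_of_mem_erase hmu))]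
    have h3' : (τ : ℂ →+* ℂ) α' = ∏ mu ∈ E'.erase lam', (lam' ^ (s % p) - mu ^ (s % p)) := by
      rw [hα', map_prod]
      refine Finset.prod_congr rfl (fun mu hmu => ?_)
      rw [map_sub, hτp lam' hl', hτp mu (hE' mu (Finset.mem_of_mem_erase hmu))]
    have h4 : Polynomial.aeval (ζ ^ s) F =
        ((τ : ℂ →+* ℂ) α ^ 2 * (τ : ℂ →+* ℂ) α' ^ 2) ^ k * (rτ : ℂ) := by
      rw [← h1, hYk, map_mul, map_pow, map_mul, map_pow, map_pow, h2]
    rw [h4, norm_mul, norm_pow, norm_mul, norm_pow, norm_pow, h3, h3', norm_prod, norm_prod,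
      Complex.norm_real, Real.norm_of_nonneg hrτ0, hRdef]
    exact mul_le_mul_of_nonneg_left hrτn (by positivity)
  have hcardE : (E.erase lam).card + (E'.erase lam').card = E.card + E'.card - 2 := by
    rw [Finset.card_erase_of_mem hlE, Finset.card_erase_of_mem hlE']
    have h1 : 1 ≤ E.card := Finset.card_pos.mpr ⟨lam, hlE⟩
    have h2 : 1 ≤ E'.card := Finset.card_pos.mpr ⟨lam', hlE'⟩
    omega
  have hprod : ∏ t ∈ Finset.Ico 1 p, R t < 1 := by
    have h1 : ∏ t ∈ Finset.Ico 1 p, (∏ mu ∈ E.erase lam, ‖lam ^ t - mu ^ t‖) =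
        (p : ℝ) ^ (E.erase lam).card := by
      rw [Finset.prod_comm]
      rw [Finset.prod_congr rfl (fun mu hmu => prod_norm_sub p hp lam mu hl
        (hE mu (Finset.mem_of_mem_erase hmu)) (Finset.ne_of_mem_erase hmu).symm)]
      rw [Finset.prod_const]
    have h1' : ∏ t ∈ Finset.Ico 1 p, (∏ mu ∈ E'.erase lam', ‖lam' ^ t - mu ^ t‖) =
        (p : ℝ) ^ (E'.erase lam').card := by
      rw [Finset.prod_comm]
      rw [Finset.prod_congr rfl (fun mu hmu => prod_norm_sub p hp lam' mu hl'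
        (hE' mu (Finset.mem_of_mem_erase hmu)) (Finset.ne_of_mem_erase hmu).symm)]
      rw [Finset.prod_const]
    have h2 : ∏ t ∈ Finset.Ico 1 p, R t =
        ((n : ℝ) / 4 ^ k) ^ (p - 1) * ((p : ℝ) ^ (2 * (E.card + E'.card - 2))) ^ k := by
      rw [hRdef]
      simp only
      rw [Finset.prod_mul_distrib, Finset.prod_pow, Finset.prod_mul_distrib, Finset.prod_pow,
        Finset.prod_pow, h1, h1', Finset.prod_const, Nat.card_Ico, ← hcardE]
      ring
    rw [h2]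
    exact hkb
  have hzero := norm_small_eq_zero (Nat.card G) p hp hpG hNpos ζ hζ F R hR0 hR hprod
  rw [← hF, hYk, hrtr] at hzero
  have hr : r = 0 := by
    rcases mul_eq_zero.mp hzero with h1 | h1
    · exact absurd h1 (pow_ne_zero _ (mul_ne_zero (pow_ne_zero _ hα0) (pow_ne_zero _ hα'0)))
    · exact_mod_cast h1
  exact hrcomm hr

/-- **Commuting lemma.** -/
theorem comm_of_few_eigen {G : Type u} [Group G] [Finite G] {n : ℕ}
    (ρ : Representation ℂ G (Fin n → ℂ)) (p : ℕ) (hp : p.Prime) (S S' : G)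
    (hS : S ^ p = 1) (hS' : S' ^ p = 1) (E E' : Finset ℂ)
    (hE : ∀ lam ∈ E, lam ^ p = 1) (hE' : ∀ lam ∈ E', lam ^ p = 1)
    (hPE : ∀ lam : ℂ, lam ^ p = 1 → lam ∉ E → proj (repMat ρ S) p lam = 0)
    (hPE' : ∀ lam : ℂ, lam ^ p = 1 → lam ∉ E' → proj (repMat ρ S') p lam = 0)
    (h : p ^ (E.card + E'.card - 2) < 2 ^ (p - 1)) :
    repMat ρ S * repMat ρ S' = repMat ρ S' * repMat ρ S := by
  classical
  by_cases hpG : p ∣ Nat.card G
  · have hMp : repMat ρ S ^ p = 1 := by rw [← repMat_pow', hS, repMat_one]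
    have hM'p : repMat ρ S' ^ p = 1 := by rw [← repMat_pow', hS', repMat_one]
    apply comm_of_proj_comm _ _ p hp.pos hMp hM'p
    intro lam lam' hl hl'
    by_cases h1 : lam ∈ E
    · by_cases h2 : lam' ∈ E'
      · exact proj_comm_core ρ p hp hpG S S' hS hS' E E' hE hE' hPE hPE' h lam lam' h1 h2
      · rw [hPE' lam' hl' h2, mul_zero, zero_mul]
    · rw [hPE lam hl h1, mul_zero, zero_mul]
  · have hS1 : S = 1 := by
      have h1 : orderOf S ∣ p := orderOf_dvd_of_pow_eq_one hS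
      have h2 : orderOf S ∣ Nat.card G := orderOf_dvd_natCard S
      rcases (Nat.dvd_prime hp).mp h1 with h3 | h3
      · exact orderOf_eq_one_iff.mp h3
      · exact absurd (h3 ▸ h2) hpG
    rw [hS1, repMat_one, one_mul, mul_one]

end Cfsg.Agent.Lib.helper81.S4484
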