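import Mathlib
import Cfsg.Agent.Lib.helper89.S60Defs

set_option autoImplicit false

namespace Cfsg.Agent.Lib.helper89.S60

open Matrix Cfsg Cfsg.Geo

/-- AAVG (racer copy, helper81): Schur averaging over `R` (verbatim statement of `s60_avg`). -/
theorem h81_s60_avg {F : Type*} [Field F] [Fintype F] (h2 : (2 : F) ≠ 0) (R : Subgroup (GL (Fin 4) F))
    (hRi : ActsAbsolutelyIrreducibly (matrixSet R)) (hR6 : Nat.card R = 64) (A : Matrix (Fin 4) (Fin 4) F) :
    ∑ᶠ s : R, ((s : GL (Fin 4) F) : Matrix (Fin 4) (Fin 4) F) * A * (((s : GL (Fin 4) F)⁻¹ : GL (Fin 4) F) : Matrix (Fin 4) (Fin 4) F) = (16 * Matrix.trace A) • (1 : Matrix (Fin 4) (Fin 4) F) := by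
  classical
  have : Fintype ↥R := Fintype.ofFinite _
  rw [finsum_eq_sum_of_fintype]
  obtain ⟨T, hT⟩ : ∃ T : Matrix (Fin 4) (Fin 4) F, T = ∑ s : R, ((s : GL (Fin 4) F) : Matrix (Fin 4) (Fin 4) F) * A *
      (((s : GL (Fin 4) F)⁻¹ : GL (Fin 4) F) : Matrix (Fin 4) (Fin 4) F) := ⟨_, rfl⟩
  rw [← hT]
  have hcomm : ∀ m ∈ matrixSet R, T * m = m * T := by
    rintro _ ⟨t, ht, rfl⟩
    have h1 : (t : Matrix (Fin 4) (Fin 4) F) * T = ∑ s : R,
        ((((⟨t, ht⟩ : R) * s : R) : GL (Fin 4) F) : Matrix (Fin 4) (Fin 4) F) * A *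
          ((((((⟨t, ht⟩ : R) * s : R) : GL (Fin 4) F))⁻¹ : GL (Fin 4) F) : Matrix (Fin 4) (Fin 4) F) *
          (t : Matrix (Fin 4) (Fin 4) F) := by
      rw [hT, Finset.mul_sum]
      apply Finset.sum_congr rfl
      intro s _
      simp [mul_assoc]
    have h2 : (∑ s : R,
        ((((⟨t, ht⟩ : R) * s : R) : GL (Fin 4) F) : Matrix (Fin 4) (Fin 4) F) * A *
          ((((((⟨t, ht⟩ : R) * s : R) : GL (Fin 4) F))⁻¹ : GL (Fin 4) F) : Matrix (Fin 4) (Fin 4) F) *
          (t : Matrix (Fin 4) (Fin 4) F)) = T * (t : Matrix (Fin 4) (Fin 4) F) := by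
      rw [← Finset.sum_mul, hT]
      congr 1
      exact Fintype.sum_equiv (Equiv.mulLeft (⟨t, ht⟩ : R)) _ _ (fun s => rfl)
    rw [← h2, ← h1]
  obtain ⟨c, hc⟩ := hRi.2 T hcomm
  have htr : Matrix.trace T = 64 * Matrix.trace A := by
    rw [hT, Matrix.trace_sum]
    have hs : ∀ s : R, Matrix.trace (((s : GL (Fin 4) F) : Matrix (Fin 4) (Fin 4) F) * A *
        (((s : GL (Fin 4) F)⁻¹ : GL (Fin 4) F) : Matrix (Fin 4) (Fin 4) F)) = Matrix.trace A := by
      intro s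
      rw [Matrix.trace_mul_cycle, Units.inv_mul, one_mul]
    rw [Finset.sum_congr rfl (fun s _ => hs s), Finset.sum_const, Finset.card_univ,
      ← Nat.card_eq_fintype_card, hR6]
    simp
  rw [hc] at htr
  rw [Matrix.trace_smul, Matrix.trace_one, Fintype.card_fin] at htr
  have h4 : (4 : F) ≠ 0 := by
    have h : (4 : F) = 2 * 2 := by norm_num
    rw [h]; exact mul_ne_zero h2 h2
  have hc' : c = 16 * Matrix.trace A := by
    apply mul_right_cancel₀ h4
    push_cast at htr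
    simp only [smul_eq_mul] at htr
    linear_combination htr
  rw [hc, hc']

end Cfsg.Agent.Lib.helper89.S60
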