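import Mathlib
import Cfsg.Agent.Lib.helper89.S60Defs

set_option autoImplicit false

namespace Cfsg.Agent.Lib.helper89.S60

open Matrix Cfsg Cfsg.Geo

/-- ACEN (racer copy, helper81): the centre of `R` consists of scalars `c • 1` with `c ^ 4 = 1`, and contains
`w • 1` with `w * w = -1` (verbatim statement of `s60_center`). -/
theorem h81_s60_center {F : Type*} [Field F] [Fintype F] (h2 : (2 : F) ≠ 0) (R : Subgroup (GL (Fin 4) F))
    (hRs : IsSymplecticTypeGroup 2 R) (hRi : ActsAbsolutelyIrreducibly (matrixSet R))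
    (hRZ : Nat.card (Subgroup.center R) = 4) :
    (∃ w : F, w * w = -1 ∧ ∃ z ∈ R, (z : Matrix (Fin 4) (Fin 4) F) = w • (1 : Matrix (Fin 4) (Fin 4) F)) ∧
    ∀ s ∈ R, ∀ c : F, (s : Matrix (Fin 4) (Fin 4) F) = c • (1 : Matrix (Fin 4) (Fin 4) F) → c ^ 4 = 1 := by
  classical
  have hexp : Monoid.exponent R = 4 := by rw [hRs.exponent_eq]; rfl
  have key2 : ∀ s ∈ R, ∀ c : F, (s : Matrix (Fin 4) (Fin 4) F) = c • (1 : Matrix (Fin 4) (Fin 4) F) →
      c ^ 4 = 1 := by
    intro s hs c hc
    have h1 : (⟨s, hs⟩ : R) ^ 4 = 1 := by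
      have h0 := Monoid.pow_exponent_eq_one (⟨s, hs⟩ : R)
      rwa [hexp] at h0
    have h3 : (s : Matrix (Fin 4) (Fin 4) F) ^ 4 = 1 := by
      have := congrArg (fun g : R => ((g : GL (Fin 4) F) : Matrix (Fin 4) (Fin 4) F)) h1
      simpa using this
    rw [hc, smul_pow, one_pow] at h3
    have := congrFun (congrFun h3 0) 0
    simpa using this
  refine ⟨?_, key2⟩
  have hscalar : ∀ z : Subgroup.center R, ∃ c : F,
      (((z : R) : GL (Fin 4) F) : Matrix (Fin 4) (Fin 4) F) = c • (1 : Matrix (Fin 4) (Fin 4) F) := by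
    intro z
    have hcm : ∀ m ∈ matrixSet R, (((z : R) : GL (Fin 4) F) : Matrix (Fin 4) (Fin 4) F) * m =
        m * (((z : R) : GL (Fin 4) F) : Matrix (Fin 4) (Fin 4) F) := by
      rintro _ ⟨t, ht, rfl⟩
      have h := Subgroup.mem_center_iff.mp z.2 ⟨t, ht⟩
      have h' := congrArg (fun g : R => ((g : GL (Fin 4) F) : Matrix (Fin 4) (Fin 4) F)) h
      simpa using h'.symm
    exact hRi.2 _ hcm
  by_contra hcon
  push Not at hcon
  have hall : ∀ z : Subgroup.center R,
      (((z : R) : GL (Fin 4) F) : Matrix (Fin 4) (Fin 4) F) = 1 ∨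
      (((z : R) : GL (Fin 4) F) : Matrix (Fin 4) (Fin 4) F) = -1 := by
    intro z
    obtain ⟨c, hc⟩ := hscalar z
    have hc4 := key2 _ (z : R).2 c hc
    have h5 : (c ^ 2 - 1) * (c ^ 2 + 1) = 0 := by linear_combination hc4
    rcases mul_eq_zero.mp h5 with h | h
    · have h6 : (c - 1) * (c + 1) = 0 := by linear_combination h
      rcases mul_eq_zero.mp h6 with h' | h'
      · left; rw [hc, sub_eq_zero.mp h', one_smul]
      · right; rw [hc, eq_neg_of_add_eq_zero_left h', neg_smul, one_smul]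
    · exfalso
      exact hcon c (by linear_combination h) _ (z : R).2 hc
  have hinj : Function.Injective (fun z : Subgroup.center R =>
      decide ((((z : R) : GL (Fin 4) F) : Matrix (Fin 4) (Fin 4) F) = 1)) := by
    intro z z' h
    simp only [decide_eq_decide] at h
    have hm : (((z : R) : GL (Fin 4) F) : Matrix (Fin 4) (Fin 4) F) =
        (((z' : R) : GL (Fin 4) F) : Matrix (Fin 4) (Fin 4) F) := by
      rcases hall z with h1 | h1
      · rw [h1, h.mp h1]
      · rcases hall z' with h2' | h2'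
        · rw [h.mpr h2', h2']
        · rw [h1, h2']
    exact Subtype.ext (Subtype.ext (Units.ext hm))
  have hle := Nat.card_le_card_of_injective _ hinj
  rw [hRZ, Nat.card_eq_fintype_card, Fintype.card_bool] at hle
  omega

end Cfsg.Agent.Lib.helper89.S60
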