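import Mathlib
import Cfsg.Agent.Lib.helper89.S60Defs
import Cfsg.Agent.Lib.helper31.S60BFC
import Cfsg.Agent.Lib.helper29.S60BTF

/-!
S6000 split, piece N3 (racer helper81): for `q = 1 mod 3` the element `diag(ω, ω, ω, 1)` of `SL_4(F)` is a
derangement for the normalizer of `R`.
-/

set_option autoImplicit false

namespace Cfsg.Agent.Lib.helper89.S60

open Matrix Cfsg Cfsg.Geo

/-- powers of a conjugate -/
theorem h81_s60_conj_pow {G : Type*} [Group G] (g x : G) (n : ℕ) :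
    (g⁻¹ * x * g) ^ n = g⁻¹ * x ^ n * g := by
  have h := conj_pow (i := n) (a := g⁻¹) (b := x)
  rwa [inv_inv] at h

/-- the trace of a conjugate -/
theorem h81_s60_trace_conj {F : Type*} [Field F] (g x : GL (Fin 4) F) :
    Matrix.trace ((g⁻¹ * x * g : GL (Fin 4) F) : Matrix (Fin 4) (Fin 4) F)
      = Matrix.trace (x : Matrix (Fin 4) (Fin 4) F) := by
  rw [Units.val_mul, Units.val_mul, Matrix.trace_mul_comm, ← Matrix.mul_assoc, ← Units.val_mul,
    mul_inv_cancel, Units.val_one, Matrix.one_mul]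

/-- a primitive cube root of unity in a finite field with `q = 1 mod 3` -/
theorem h81_s60_omega {F : Type*} [Field F] [Fintype F] (hq : Fintype.card F % 3 = 1) :
    ∃ ω : F, ω ^ 3 = 1 ∧ ω ≠ 1 ∧ ω ^ 2 + ω + 1 = 0 := by
  classical
  have hcard : Fintype.card Fˣ = Fintype.card F - 1 := Fintype.card_units F
  have h3dvd : 3 ∣ Fintype.card Fˣ := by rw [hcard]; omega
  have : Fact (Nat.Prime 3) := ⟨by norm_num⟩
  obtain ⟨ωu, hωu⟩ := exists_prime_orderOf_dvd_card 3 h3dvd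
  have hω3u : ωu ^ 3 = 1 := by rw [← hωu]; exact pow_orderOf_eq_one ωu
  have hω1u : ωu ≠ 1 := by
    intro h
    rw [h, orderOf_one] at hωu
    omega
  have hω3 : (ωu : F) ^ 3 = 1 := by
    have h := congrArg (fun u : Fˣ => (u : F)) hω3u
    simpa using h
  have hω1 : (ωu : F) ≠ 1 := fun h => hω1u (Units.ext h)
  refine ⟨(ωu : F), hω3, hω1, ?_⟩
  have h0 : ((ωu : F) - 1) * ((ωu : F) ^ 2 + (ωu : F) + 1) = 0 := by linear_combination hω3
  exact (mul_eq_zero.mp h0).resolve_left (sub_ne_zero.mpr hω1)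

/-- N3 (racer copy, helper81; verbatim statement of `s60_nec_three`). -/
theorem h81_s60_nec_three {F : Type*} [Field F] [Fintype F] (h2 : (2 : F) ≠ 0) (R : Subgroup (GL (Fin 4) F)) (w : F) (hG : Good R w)
    (h3 : (3 : F) ≠ 0) (hq : Fintype.card F % 3 = 1) : Derang R 3 := by
  classical
  obtain ⟨ω, hω3, hω1, hω⟩ := h81_s60_omega hq
  have hmul : ∀ i : Fin 4, (![ω, ω, ω, 1] : Fin 4 → F) i * (![ω ^ 2, ω ^ 2, ω ^ 2, 1] : Fin 4 → F) i = 1 := by
    intro i
    fin_cases i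
    · show ω * ω ^ 2 = 1; linear_combination hω3
    · show ω * ω ^ 2 = 1; linear_combination hω3
    · show ω * ω ^ 2 = 1; linear_combination hω3
    · show (1 : F) * 1 = 1; ring
  have hD1 : Matrix.diagonal (![ω, ω, ω, 1] : Fin 4 → F) * Matrix.diagonal (![ω ^ 2, ω ^ 2, ω ^ 2, 1] : Fin 4 → F) = 1 := by
    rw [Matrix.diagonal_mul_diagonal, ← Matrix.diagonal_one]
    congr 1
    funext i
    exact hmul i
  have hD2 : Matrix.diagonal (![ω ^ 2, ω ^ 2, ω ^ 2, 1] : Fin 4 → F) * Matrix.diagonal (![ω, ω, ω, 1] : Fin 4 → F) = 1 := by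
    rw [Matrix.diagonal_mul_diagonal, ← Matrix.diagonal_one]
    congr 1
    funext i
    rw [mul_comm]
    exact hmul i
  obtain ⟨x, hxv, hxi⟩ : ∃ x : GL (Fin 4) F,
      (x : Matrix (Fin 4) (Fin 4) F) = Matrix.diagonal (![ω, ω, ω, 1] : Fin 4 → F) ∧
      ((x⁻¹ : GL (Fin 4) F) : Matrix (Fin 4) (Fin 4) F) = Matrix.diagonal (![ω ^ 2, ω ^ 2, ω ^ 2, 1] : Fin 4 → F) :=
    ⟨⟨_, _, hD1, hD2⟩, rfl, rfl⟩
  have hxSL : x ∈ specialLinear (Fin 4) F := by
    rw [specialLinear, MonoidHom.mem_ker]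
    apply Units.ext
    rw [Matrix.GeneralLinearGroup.val_det_apply, hxv, Matrix.det_diagonal, Fin.prod_univ_four]
    show ω * ω * ω * 1 = 1
    linear_combination hω3
  have hx3 : x ^ 3 = 1 := by
    apply Units.ext
    rw [Units.val_pow_eq_pow_val, Units.val_one, hxv, Matrix.diagonal_pow, ← Matrix.diagonal_one]
    congr 1
    funext i
    fin_cases i
    · show ω ^ 3 = 1; exact hω3
    · show ω ^ 3 = 1; exact hω3
    · show ω ^ 3 = 1; exact hω3
    · show (1 : F) ^ 3 = 1; ring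
  have hxs : ∀ z : F, (x : Matrix (Fin 4) (Fin 4) F) ≠ z • (1 : Matrix (Fin 4) (Fin 4) F) := by
    intro z hz
    rw [hxv] at hz
    have h00 := congrFun (congrFun hz 0) 0
    have h33 := congrFun (congrFun hz 3) 3
    simp at h00 h33
    exact hω1 (h00.trans h33.symm)
  have htx : Matrix.trace (x : Matrix (Fin 4) (Fin 4) F) = 3 * ω + 1 := by
    rw [hxv, Matrix.trace_diagonal, Fin.sum_univ_four]
    show ω + ω + ω + 1 = 3 * ω + 1
    ring
  have htxi : Matrix.trace ((x⁻¹ : GL (Fin 4) F) : Matrix (Fin 4) (Fin 4) F) = 3 * ω ^ 2 + 1 := by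
    rw [hxi, Matrix.trace_diagonal, Fin.sum_univ_four]
    show ω ^ 2 + ω ^ 2 + ω ^ 2 + 1 = 3 * ω ^ 2 + 1
    ring
  refine ⟨x, hxSL, hx3, hxs, ?_⟩
  intro g hy
  have hy3 : (g⁻¹ * x * g) ^ 3 = 1 := by
    rw [h81_s60_conj_pow, hx3]
    group
  have hty : Matrix.trace ((g⁻¹ * x * g : GL (Fin 4) F) : Matrix (Fin 4) (Fin 4) F) = 3 * ω + 1 := by
    rw [h81_s60_trace_conj, htx]
  have htyi : Matrix.trace (((g⁻¹ * x * g)⁻¹ : GL (Fin 4) F) : Matrix (Fin 4) (Fin 4) F) = 3 * ω ^ 2 + 1 := by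
    have e : (g⁻¹ * x * g)⁻¹ = g⁻¹ * x⁻¹ * g := by group
    rw [e, h81_s60_trace_conj, htxi]
  have : Fact (Nat.Prime 3) := ⟨by norm_num⟩
  obtain ⟨hdvd, h4dvd, hmod, -⟩ := s60_fix_count h2 R w hG 3 _ hy hy3
  have hF := s60_trace_formula h2 R w hG _ hy 3 (by decide) hy3
  rw [hty, htyi] at hF
  obtain ⟨c, hc⟩ : ∃ c : ℕ, c = Nat.card {s : GL (Fin 4) F // s ∈ R ∧ g⁻¹ * x * g * s = s * (g⁻¹ * x * g)} :=
    ⟨_, rfl⟩
  rw [← hc] at hdvd h4dvd hmod hF
  have hcle : c ≤ 64 := Nat.le_of_dvd (by norm_num) hdvd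
  have hc3 : c = 4 ∨ c = 16 ∨ c = 64 := by
    interval_cases c <;> omega
  have h28 : (4 : F) * ((3 * ω + 1) * (3 * ω ^ 2 + 1)) = 28 := by
    linear_combination 36 * hω3 + 12 * hω
  rw [h28] at hF
  rcases hc3 with h | h | h
  · rw [h] at hF
    have h0 : (2 : F) * 2 * 2 * 3 = 0 := by
      push_cast at hF
      linear_combination hF
    exact absurd h0 (mul_ne_zero (mul_ne_zero (mul_ne_zero h2 h2) h2) h3)
  · rw [h] at hF
    have h0 : (2 : F) * 2 * 3 = 0 := by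
      push_cast at hF
      linear_combination hF
    exact absurd h0 (mul_ne_zero (mul_ne_zero h2 h2) h3)
  · rw [h] at hF
    have h0 : (2 : F) * 2 * 3 * 3 = 0 := by
      push_cast at hF
      linear_combination -hF
    exact absurd h0 (mul_ne_zero (mul_ne_zero (mul_ne_zero h2 h2) h3) h3)

end Cfsg.Agent.Lib.helper89.S60
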