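import Mathlib
import Cfsg.Agent.Lib.helper89.S60Defs

/-!
S6000 split, piece NCHAR (racer helper81), core: the statement of BTV is a hypothesis.
-/

set_option autoImplicit false

namespace Cfsg.Agent.Lib.helper89.S60

open Matrix Cfsg Cfsg.Geo

/-- powers of `1 + N` with `N * N = 0` -/
theorem h81_one_add_nilp_pow {ι R : Type*} [Fintype ι] [DecidableEq ι] [CommRing R]
    (N : Matrix ι ι R) (hN : N * N = 0) (k : ℕ) : (1 + N) ^ k = 1 + k • N := by
  induction k with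
  | zero => simp
  | succ k ih =>
    rw [pow_succ, ih, add_mul, mul_add, mul_add, one_mul, mul_one, one_mul, smul_mul_assoc, hN,
      smul_zero, add_zero, succ_nsmul]
    abel

/-- A transvection of `SL_4(F)` of order `p`, not scalar. -/
theorem h81_s60_transv_exists {F : Type*} [Field F] (p : ℕ) [Fact p.Prime] [CharP F p] :
    ∃ x : GL (Fin 4) F, x ∈ specialLinear (Fin 4) F ∧ x ^ p = 1 ∧
      (∃ u v : Fin 4 → F, (x : Matrix (Fin 4) (Fin 4) F) = 1 + Matrix.vecMulVec u v) ∧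
      ∀ z : F, (x : Matrix (Fin 4) (Fin 4) F) ≠ z • (1 : Matrix (Fin 4) (Fin 4) F) := by
  classical
  obtain ⟨u, hu⟩ : ∃ u : Fin 4 → F, u = Pi.single 0 1 := ⟨_, rfl⟩
  obtain ⟨v, hv⟩ : ∃ v : Fin 4 → F, v = Pi.single 1 1 := ⟨_, rfl⟩
  have hA : Matrix.transvection (0 : Fin 4) (1 : Fin 4) (1 : F) = 1 + Matrix.vecMulVec u v := by
    rw [Matrix.transvection, hu, hv]
    congr 1
    ext i j
    simp only [Matrix.single_apply, Matrix.vecMulVec_apply, Pi.single_apply]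
    by_cases hi : i = 0 <;> by_cases hj : j = 1 <;> simp [hi, hj, eq_comm]
  have hdet : (1 + Matrix.vecMulVec u v : Matrix (Fin 4) (Fin 4) F).det = 1 := by
    rw [← hA]
    exact Matrix.det_transvection_of_ne 0 1 (by decide) 1
  have hdet0 : (1 + Matrix.vecMulVec u v : Matrix (Fin 4) (Fin 4) F).det ≠ 0 := by
    rw [hdet]; exact one_ne_zero
  obtain ⟨g, hg⟩ : ∃ g : GL (Fin 4) F, (g : Matrix (Fin 4) (Fin 4) F) = 1 + Matrix.vecMulVec u v :=
    ⟨Matrix.GeneralLinearGroup.mkOfDetNeZero _ hdet0, rfl⟩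
  have hNN : Matrix.vecMulVec u v * Matrix.vecMulVec u v = 0 := by
    rw [Matrix.vecMulVec_mul_vecMulVec]
    have h0 : v ⬝ᵥ u = 0 := by
      rw [hu, hv]
      simp
    rw [h0, zero_smul]
    ext i j
    simp [Matrix.vecMulVec_apply]
  refine ⟨g, ?_, ?_, ⟨u, v, hg⟩, ?_⟩
  · rw [specialLinear, MonoidHom.mem_ker]
    apply Units.ext
    rw [Matrix.GeneralLinearGroup.val_det_apply, hg, hdet]
    rfl
  · apply Units.ext
    rw [Units.val_pow_eq_pow_val, Units.val_one, hg, h81_one_add_nilp_pow _ hNN]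
    have hp0 : (p : F) = 0 := CharP.cast_eq_zero F p
    have h1 : p • Matrix.vecMulVec u v = (p : F) • Matrix.vecMulVec u v := by
      rw [Nat.cast_smul_eq_nsmul]
    rw [h1, hp0, zero_smul, add_zero]
  · intro z hz
    rw [hg] at hz
    have h1 := congrFun (congrFun hz 0) 1
    rw [hu, hv] at h1
    simp [Matrix.vecMulVec_apply] at h1

theorem h81_s60_nec_char_core {F : Type*} [Field F] [Fintype F] (h2 : (2 : F) ≠ 0)
    (R : Subgroup (GL (Fin 4) F)) (w : F) (hG : Good R w)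
    (p : ℕ) [Fact p.Prime] [CharP F p] (hp2 : p ≠ 2)
    (hBTV : ∀ (y : GL (Fin 4) F), y ∈ subgroupNormalizer R → ∀ (k : ℕ), Odd k → y ^ k = 1 →
      ∀ (u v : Fin 4 → F), (y : Matrix (Fin 4) (Fin 4) F) = 1 + Matrix.vecMulVec u v →
        ∀ s ∈ R, y * s = s * y) :
    Derang R p := by
  obtain ⟨x, hx, hxp, ⟨u, v, hxu⟩, hns⟩ := h81_s60_transv_exists (F := F) p
  refine ⟨x, hx, hxp, hns, ?_⟩
  intro g hmem
  have hodd : Odd p := (Fact.out : p.Prime).odd_of_ne_two hp2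
  have hyp : (g⁻¹ * x * g) ^ p = 1 := by
    have h0 : (g⁻¹ * x * g) ^ p = g⁻¹ * x ^ p * g := by
      have h1 := conj_pow (a := g⁻¹) (b := x) (i := p)
      rw [inv_inv] at h1
      exact h1
    rw [h0, hxp, mul_one, inv_mul_cancel]
  have hgg : ((g⁻¹ : GL (Fin 4) F) : Matrix (Fin 4) (Fin 4) F) * (g : Matrix (Fin 4) (Fin 4) F) = 1 := by
    rw [← Units.val_mul, inv_mul_cancel, Units.val_one]
  have hgg' : (g : Matrix (Fin 4) (Fin 4) F) * ((g⁻¹ : GL (Fin 4) F) : Matrix (Fin 4) (Fin 4) F) = 1 := by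
    rw [← Units.val_mul, mul_inv_cancel, Units.val_one]
  have hyu : ((g⁻¹ * x * g : GL (Fin 4) F) : Matrix (Fin 4) (Fin 4) F) =
      1 + Matrix.vecMulVec (((g⁻¹ : GL (Fin 4) F) : Matrix (Fin 4) (Fin 4) F) *ᵥ u)
        (v ᵥ* (g : Matrix (Fin 4) (Fin 4) F)) := by
    rw [Units.val_mul, Units.val_mul, hxu, Matrix.mul_add, Matrix.add_mul, Matrix.mul_one, hgg,
      Matrix.mul_vecMulVec, Matrix.vecMulVec_mul]
  have hcomm := hBTV (g⁻¹ * x * g) hmem p hodd hyp _ _ hyu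
  obtain ⟨c, hc⟩ := hG.schur ((g⁻¹ * x * g : GL (Fin 4) F) : Matrix (Fin 4) (Fin 4) F) (fun s hs => by
    have h3 := congrArg (fun z : GL (Fin 4) F => (z : Matrix (Fin 4) (Fin 4) F)) (hcomm s hs)
    simp only [Units.val_mul] at h3 ⊢
    exact h3)
  apply hns c
  have hx' : (x : Matrix (Fin 4) (Fin 4) F) = (g : Matrix (Fin 4) (Fin 4) F) *
      ((g⁻¹ * x * g : GL (Fin 4) F) : Matrix (Fin 4) (Fin 4) F) * ((g⁻¹ : GL (Fin 4) F) : Matrix (Fin 4) (Fin 4) F) := by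
    rw [← Units.val_mul, ← Units.val_mul]
    congr 1
    group
  rw [hx', hc, Matrix.mul_smul, Matrix.mul_one, Matrix.smul_mul, hgg']

end Cfsg.Agent.Lib.helper89.S60
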