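import Mathlib
import Cfsg.Agent.Lib.helper89.S60Defs
import Cfsg.Agent.Lib.helper81.S60NCHARcore
import Cfsg.Agent.Lib.helper7.S60BTV

/-!
S6000 split, piece NCHAR (racer helper81): wrapper of the core with the landed BTV (helper7).
-/

set_option autoImplicit false

namespace Cfsg.Agent.Lib.helper89.S60

open Matrix Cfsg Cfsg.Geo

/-- NCHAR (racer copy, helper81; verbatim statement of `s60_nec_char`). -/
theorem h81_s60_nec_char {F : Type*} [Field F] [Fintype F] (h2 : (2 : F) ≠ 0) (R : Subgroup (GL (Fin 4) F)) (w : F) (hG : Good R w)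
    (p : ℕ) [Fact p.Prime] [CharP F p] (hp2 : p ≠ 2) : Derang R p :=
  h81_s60_nec_char_core h2 R w hG p hp2
    (fun y hy k hk hyk u v hyu => s60_transv_central h2 R w hG y hy k hk hyk u v hyu)

end Cfsg.Agent.Lib.helper89.S60
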