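import Mathlib
import Cfsg.Prelude

/-! Definitions for the S4409 split (Thompson: solvable groups whose proper subgroups of
2-power index contain no noncyclic abelian subgroup of order 8). -/

namespace Cfsg.Agent.Lib.helper81.TN

variable {G : Type*} [Group G]

/-- `Bad P`: the subgroup `P` contains a noncyclic abelian subgroup of order 8. -/
def Bad (P : Subgroup G) : Prop :=
  ∃ A : Subgroup G, A ≤ P ∧ IsMulCommutative ↥A ∧ ¬ IsCyclic ↥A ∧ Nat.card ↥A = 8

/-- `IsV4 P`: `P` is a four-group (order 4, exponent 2). -/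
def IsV4 (P : Subgroup G) : Prop :=
  Nat.card ↥P = 4 ∧ ∀ x ∈ P, x ^ 2 = 1

/-- `IsQ8 P`: `P` is a quaternion group of order 8: order 8, with an involution `z` such that
every element other than `1, z` has square `z`. -/
def IsQ8 (P : Subgroup G) : Prop :=
  Nat.card ↥P = 8 ∧ ∃ z ∈ P, z ≠ 1 ∧ z ^ 2 = 1 ∧ ∀ x ∈ P, x ≠ 1 → x ≠ z → x ^ 2 = z

theorem Bad.mono {P Q : Subgroup G} (h : Bad P) (hPQ : P ≤ Q) : Bad Q := by
  obtain ⟨A, hA, h1, h2, h3⟩ := h
  exact ⟨A, hA.trans hPQ, h1, h2, h3⟩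

end Cfsg.Agent.Lib.helper81.TN
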