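import Cfsg.Agent.S4691
import Cfsg.Agent.Lib.helper80.SubpairChain
import Cfsg.Agent.Lib.helper80.Transport

/-!
# Brauer's third main theorem in Brauer-pair form (helper81)

* `principal_of_normalSubpair`: a Brauer pair normally included in a pair with principal block
  has principal block.
* `principal_of_subpairLE`: the same for arbitrary inclusion.
* `subpairLE_principal`: `(Q, b₀(C_G(Q))) ≤ (P, b₀(C_G(P)))` for `Q ≤ P` `p`-subgroups.
* `conjBlock_principal`: the conjugate of a principal block is the principal block.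
-/

set_option autoImplicit false

namespace Cfsg.Agent.Lib.helper81

open Cfsg Cfsg.Agent.Lib.helper20
open scoped ComplexConjugate

universe u

section

variable {G : Type u} [Group G] [Fintype G] {p : ℕ} [Fact p.Prime] {M : Ideal AlgInt}

/-- Let `P` be a `p`-subgroup stabilizing the block `f` of the subgroup `K`.  If the Brauer-map
image at `P` of the idempotent of `f` has central character value `≡ 1` at the trivial character of
`C_G(P)`, then `f` contains the trivial character of `K`. -/
theorem triv_mem_of_brauerOmega (hM : IsPModular p M) (K P : Subgroup G) (hP : IsPGroup p P)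
    (f : Set (IrrCharacter K)) (hf : IsPBlock M f) (hstab : ∀ x ∈ P, StabilizesBlock K f x)
    (h1 : MemLocalIdeal M (brauerOmega P (subgroupBlockCoeff K f)
      (trivChar (Subgroup.centralizer (P : Set G)) : Subgroup.centralizer (P : Set G) → ℂ) - 1)) :
    trivChar K ∈ f := by
  classical
  have hMp : M.IsPrime := isPrime_of_isPModular hM
  set β : G → ℂ := subgroupBlockCoeff K f with hβ
  have hβconj : ∀ u ∈ P, ∀ x : G, β (u * x * u⁻¹) = β x := by
    intro u hu x
    have hn : u ∈ Subgroup.normalizer (K : Set G) := (hstab u hu).1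
    have hst := (Cfsg.Agent.Lib.helper80.stabilizesBlock_iff_eq hMp K u hn hf).mp (hstab u hu)
    have h1 := Cfsg.Agent.Lib.helper80.subgroupBlockCoeff_conjSet K u hn f x
    rw [hst] at h1
    exact h1
  have hβloc : ∀ x, MemLocalRing M (β x) := by
    intro x
    by_cases hx : x ∈ K
    · rw [hβ, Cfsg.Agent.Lib.helper80.subgroupBlockCoeff_of_mem K f hx]
      exact memLocalRing_blockCoeff hMp hf _
    · rw [hβ, Cfsg.Agent.Lib.helper80.subgroupBlockCoeff_of_not_mem K f hx]
      exact memLocalRing_zero hMp
  have hout := Cfsg.Agent.Lib.helper80.sum_not_centralizer_memLocalIdeal hM P hP β hβconj hβloc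
  have hin : brauerOmega P β
      (trivChar (Subgroup.centralizer (P : Set G)) : Subgroup.centralizer (P : Set G) → ℂ)
      = ∑ x ∈ Finset.univ.filter (fun x : G => x ∈ Subgroup.centralizer (P : Set G)), β x := by
    unfold brauerOmega
    rw [finsum_eq_sum_of_fintype]
    simp only [trivChar_apply, mul_one, div_one]
    rw [← Finset.sum_subtype (Finset.univ.filter
      (fun x : G => x ∈ Subgroup.centralizer (P : Set G))) (by simp) β]
  have hsplit := Finset.sum_filter_add_sum_filter_not Finset.univ
    (fun x : G => x ∈ Subgroup.centralizer (P : Set G)) β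
  -- the total sum of `β` is `1` or `0` according as the trivial character lies in `f`
  have htot : ∑ x : G, β x = if trivChar K ∈ f then 1 else 0 := by
    have h2 := Cfsg.Agent.Lib.helper80.sum_blockCoeff_mul_irr f (trivChar K)
    simp only [trivChar_apply, mul_one] at h2
    rw [← h2]
    have h3 : ∑ x : G, β x = ∑ x ∈ Finset.univ.filter (fun x : G => x ∈ K), β x := by
      rw [Finset.sum_filter]
      refine Finset.sum_congr rfl (fun x _ => ?_)
      by_cases hx : x ∈ K
      · rw [if_pos hx]
      · rw [if_neg hx, hβ, Cfsg.Agent.Lib.helper80.subgroupBlockCoeff_of_not_mem K f hx]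
    rw [h3, Finset.sum_subtype (Finset.univ.filter (fun x : G => x ∈ K)) (p := (· ∈ K))
      (by simp) β]
    refine Finset.sum_congr rfl (fun k _ => ?_)
    rw [hβ, Cfsg.Agent.Lib.helper80.subgroupBlockCoeff_of_mem K f k.2]
  by_contra hnot
  rw [if_neg hnot] at htot
  rw [htot] at hsplit
  have h4 : (1 : ℂ) = - ((brauerOmega P β
      (trivChar (Subgroup.centralizer (P : Set G)) : Subgroup.centralizer (P : Set G) → ℂ) - 1)
      + ∑ x ∈ Finset.univ.filter (fun x : G => x ∉ Subgroup.centralizer (P : Set G)), β x) := by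
    rw [hin]
    linear_combination hsplit
  apply not_memLocalIdeal_one (M := M)
  rw [h4]
  exact memLocalIdeal_neg (memLocalIdeal_add hMp h1 hout)

/-- If `(Q, f)` is normally included in `(P, b₀(C_G(P)))`, then `f` is the principal block of
`C_G(Q)`. -/
theorem principal_of_normalSubpair (hM : IsPModular p M) (Q : Subgroup G)
    (f : Set (IrrCharacter (Subgroup.centralizer (Q : Set G)))) (P : Subgroup G)
    (h : IsNormalSubpair p M Q f P (principalBlock M (Subgroup.centralizer (P : Set G)))) :
    f = principalBlock M (Subgroup.centralizer (Q : Set G)) := by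
  have hMp : M.IsPrime := isPrime_of_isPModular hM
  obtain ⟨hQf, hPe, hQP, hPN, hstab, hbr⟩ := h
  have htriv := triv_mem_of_brauerOmega hM (Subgroup.centralizer (Q : Set G)) P hPe.1 f hQf.2
    hstab (hbr _ (trivChar_mem_principalBlock hMp))
  exact isPBlock_eq_of_mem hMp hQf.2 isPBlock_principalBlock htriv
    (trivChar_mem_principalBlock hMp)

/-- If `(Q, f) ≤ (P, e)` and `e` is the principal block of `C_G(P)`, then `f` is the principal
block of `C_G(Q)`. -/
theorem principal_of_subpairLE (hM : IsPModular p M) (a b : BrauerPairIdx G)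
    (h : Relation.ReflTransGen (NormalSubpairRel p M) a b)
    (hb : b.2 = principalBlock M (Subgroup.centralizer (b.1 : Set G))) :
    a.2 = principalBlock M (Subgroup.centralizer (a.1 : Set G)) := by
  induction h using Relation.ReflTransGen.head_induction_on with
  | refl => exact hb
  | @head a' c' hac _ ih =>
    obtain ⟨c1, c2⟩ := c'
    have ih' : c2 = principalBlock M (Subgroup.centralizer (c1 : Set G)) := ih
    subst ih'
    exact principal_of_normalSubpair hM a'.1 a'.2 c1 hac

/-- **Third main theorem, Brauer pair form**: for `p`-subgroups `Q ≤ P`, the pair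
`(Q, b₀(C_G(Q)))` lies below `(P, b₀(C_G(P)))`. -/
theorem subpairLE_principal (hM : IsPModular p M) (P Q : Subgroup G) (hP : IsPGroup p P)
    (hQP : Q ≤ P) :
    SubpairLE p M Q (principalBlock M (Subgroup.centralizer (Q : Set G))) P
      (principalBlock M (Subgroup.centralizer (P : Set G))) := by
  obtain ⟨f, -, hle⟩ := Cfsg.Agent.Lib.helper80.exists_subpairLE hM (Nat.card P - Nat.card Q) P Q
    (principalBlock M (Subgroup.centralizer (P : Set G))) ⟨hP, isPBlock_principalBlock⟩ hQP rfl
  have hf : f = principalBlock M (Subgroup.centralizer (Q : Set G)) :=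
    principal_of_subpairLE hM ⟨Q, f⟩ ⟨P, _⟩ hle rfl
  rw [hf] at hle
  exact hle

end

section Conj

variable {G : Type u} [Group G] {M : Ideal AlgInt}

/-- Conjugation by `x` as an isomorphism `C_G(Q) ≃* C_G(x Q x⁻¹)`. -/
def centConjEquiv (Q : Subgroup G) (x : G) :
    Subgroup.centralizer (Q : Set G)
      ≃* Subgroup.centralizer ((Q.map (MulAut.conj x).toMonoidHom : Subgroup G) : Set G) where
  toFun c := ⟨x * (c : G) * x⁻¹, by
    rw [Subgroup.mem_centralizer_iff]
    rintro _ ⟨q, hq, rfl⟩
    have hc := (Subgroup.mem_centralizer_iff.mp c.2) q hq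
    show (MulAut.conj x) q * (x * (c : G) * x⁻¹) = x * (c : G) * x⁻¹ * (MulAut.conj x) q
    rw [MulAut.conj_apply]
    calc x * q * x⁻¹ * (x * (c : G) * x⁻¹) = x * (q * (c : G)) * x⁻¹ := by group
      _ = x * ((c : G) * q) * x⁻¹ := by rw [hc]
      _ = x * (c : G) * x⁻¹ * (x * q * x⁻¹) := by group⟩
  invFun c := ⟨x⁻¹ * (c : G) * x, by
    rw [Subgroup.mem_centralizer_iff]
    intro q hq
    have hq' : x * q * x⁻¹ ∈ Q.map (MulAut.conj x).toMonoidHom := ⟨q, hq, rfl⟩
    have hc := (Subgroup.mem_centralizer_iff.mp c.2) _ hq'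
    calc q * (x⁻¹ * (c : G) * x) = x⁻¹ * ((x * q * x⁻¹) * (c : G)) * x := by group
      _ = x⁻¹ * ((c : G) * (x * q * x⁻¹)) * x := by rw [hc]
      _ = x⁻¹ * (c : G) * x * q := by group⟩
  left_inv c := by
    apply Subtype.ext
    show x⁻¹ * (x * (c : G) * x⁻¹) * x = c
    group
  right_inv c := by
    apply Subtype.ext
    show x * (x⁻¹ * (c : G) * x) * x⁻¹ = c
    group
  map_mul' a b := by
    apply Subtype.ext
    show x * ((a : G) * (b : G)) * x⁻¹ = x * (a : G) * x⁻¹ * (x * (b : G) * x⁻¹)
    group

theorem centConjEquiv_apply_coe (Q : Subgroup G) (x : G) (c : Subgroup.centralizer (Q : Set G)) :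
    ((centConjEquiv Q x c : _) : G) = x * (c : G) * x⁻¹ := rfl

/-- The conjugate block, as the transport of the block along conjugation. -/
theorem conjBlock_eq_blockMap (Q : Subgroup G) (x : G)
    (f : Set (IrrCharacter (Subgroup.centralizer (Q : Set G)))) :
    conjBlock Q x f = Cfsg.Agent.Lib.helper80.blockMap (centConjEquiv Q x) f := by
  ext ξ'
  rw [Cfsg.Agent.Lib.helper80.mem_blockMap]
  constructor
  · rintro ⟨ξ, hξ, h⟩
    have : Cfsg.Agent.Lib.helper80.irrMap (centConjEquiv Q x).symm ξ' = ξ := by
      apply Subtype.ext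
      funext c
      rw [Cfsg.Agent.Lib.helper80.irrMap_apply, MulEquiv.symm_symm]
      exact h c (centConjEquiv Q x c) rfl
    rw [this]
    exact hξ
  · intro h
    refine ⟨_, h, ?_⟩
    intro c c' hc
    rw [Cfsg.Agent.Lib.helper80.irrMap_apply, MulEquiv.symm_symm]
    have hcc : c' = centConjEquiv Q x c := Subtype.ext (by rw [centConjEquiv_apply_coe, hc])
    rw [hcc]

/-- The conjugate of the principal block is the principal block. -/
theorem conjBlock_principal (Q : Subgroup G) (x : G) :
    conjBlock Q x (principalBlock M (Subgroup.centralizer (Q : Set G)))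
      = principalBlock M
        (Subgroup.centralizer ((Q.map (MulAut.conj x).toMonoidHom : Subgroup G) : Set G)) := by
  rw [conjBlock_eq_blockMap, principalBlock_eq_blockOf,
    Cfsg.Agent.Lib.helper80.blockMap_blockOf]
  rfl

end Conj

end Cfsg.Agent.Lib.helper81
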