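import Cfsg.Agent.Lib.helper81.WTDefs
import Cfsg.Agent.Lib.helper58.WTE3

set_option autoImplicit false

namespace Cfsg.Agent.Lib.helper81.WT

open scoped TensorProduct

universe u v w

theorem helper81_one_tmul_mem_fix {S : Type u} [Group S] {E : Type v} [AddCommGroup E] [Module (ZMod 2) E]
    (ρ : Representation (ZMod 2) S E) (F : Type w) [Field F] [Algebra (ZMod 2) F] (T : Subgroup S)
    (e : E) (he : ∀ s ∈ T, ρ s e = e) : (1 : F) ⊗ₜ[ZMod 2] e ∈ fixT (bc F ρ) T := by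
  intro s hs
  rw [bc_tmul, he s hs]

/-- [E4b] descent to E; uses E3 (and bc_tmul, fixT over ZMod 2) -/
theorem descend {S : Type u} [Group S] [Finite S] {E : Type v} [AddCommGroup E] [Module (ZMod 2) E] [Finite E]
    (ρ : Representation (ZMod 2) S E)
    (T Q : Subgroup S) (F : Type) [Field F] [Algebra (ZMod 2) F] [Finite F]
    (hA : ¬ ∃ u : F ⊗[ZMod 2] E, ∀ v ∈ fixT (bc F ρ) T, v ∈ Submodule.span F {u})
    (hB : ∀ w₁ w₂ : F ⊗[ZMod 2] E,
        (∀ v ∈ fixT (bc F ρ) T, v ∈ Submodule.span F {w₁, w₂}) →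
        ∃ x ∈ Q, ∃ v ∈ fixT (bc F ρ) T, bc F ρ x v ∉ fixT (bc F ρ) T) :
    8 ≤ Nat.card {v : E // ∀ s ∈ T, ρ s v = v} ∨
      (Nat.card {v : E // ∀ s ∈ T, ρ s v = v} = 4 ∧
        ∃ x ∈ Q, ∃ v : E, (∀ s ∈ T, ρ s v = v) ∧ ¬ ∀ s ∈ T, ρ s (ρ x v) = ρ x v) := by
  classical
  set E₀ : Submodule (ZMod 2) E := fixT ρ T with hE₀
  have hcard : Nat.card {v : E // ∀ s ∈ T, ρ s v = v} = 2 ^ Module.finrank (ZMod 2) ↥E₀ := by
    have h1 : Nat.card ↥E₀ = Nat.card (ZMod 2) ^ Module.finrank (ZMod 2) ↥E₀ :=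
      Module.natCard_eq_pow_finrank (K := ZMod 2) (V := ↥E₀)
    rw [Nat.card_zmod] at h1
    exact h1
  have hE3 : ∀ v ∈ fixT (bc F ρ) T,
      v ∈ Submodule.span F ((fun e : E => (1 : F) ⊗ₜ[ZMod 2] e) '' {e : E | ∀ s ∈ T, ρ s e = e}) :=
    fun v hv => fix_bc_le ρ F T v hv
  have hsmul : ∀ (c : ZMod 2) (e : E), (1 : F) ⊗ₜ[ZMod 2] (c • e) = (algebraMap (ZMod 2) F c) • ((1 : F) ⊗ₜ[ZMod 2] e) := by
    intro c e
    rw [TensorProduct.tmul_smul, algebraMap_smul]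
  rcases Nat.lt_or_ge (Module.finrank (ZMod 2) ↥E₀) 2 with hd | hd
  · -- d ≤ 1
    exfalso
    have hd1 : Module.finrank (ZMod 2) ↥E₀ ≤ 1 := by omega
    obtain ⟨w, hw⟩ := finrank_le_one_iff.mp hd1
    apply hA
    refine ⟨(1 : F) ⊗ₜ[ZMod 2] (w : E), fun v hv => ?_⟩
    have h1 := hE3 v hv
    refine (Submodule.span_le.mpr ?_) h1
    rintro _ ⟨e, he, rfl⟩
    obtain ⟨c, hc⟩ := hw ⟨e, he⟩
    have hc' : c • (w : E) = e := by
      have := congrArg Subtype.val hc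
      simpa using this
    show (1 : F) ⊗ₜ[ZMod 2] e ∈ Submodule.span F {(1 : F) ⊗ₜ[ZMod 2] (w : E)}
    rw [← hc', hsmul]
    exact Submodule.smul_mem _ _ (Submodule.mem_span_singleton_self _)
  · rcases Nat.lt_or_ge 2 (Module.finrank (ZMod 2) ↥E₀) with hd3 | hd2
    · left
      rw [hcard]
      calc 8 = 2 ^ 3 := by norm_num
        _ ≤ 2 ^ Module.finrank (ZMod 2) ↥E₀ := Nat.pow_le_pow_right (by norm_num) hd3
    · right
      have hd' : Module.finrank (ZMod 2) ↥E₀ = 2 := le_antisymm hd2 hd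
      refine ⟨by rw [hcard, hd']; norm_num, ?_⟩
      let b := Module.finBasisOfFinrankEq (ZMod 2) ↥E₀ hd'
      have hb : ∀ e : ↥E₀, (e : E) = (b.repr e 0) • (b 0 : E) + (b.repr e 1) • (b 1 : E) := by
        intro e
        have h := b.sum_repr e
        rw [Fin.sum_univ_two] at h
        have := congrArg Subtype.val h
        simpa using this.symm
      have hspan : ∀ v ∈ fixT (bc F ρ) T, v ∈ Submodule.span F
          {(1 : F) ⊗ₜ[ZMod 2] (b 0 : E), (1 : F) ⊗ₜ[ZMod 2] (b 1 : E)} := by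
        intro v hv
        refine (Submodule.span_le.mpr ?_) (hE3 v hv)
        rintro _ ⟨e, he, rfl⟩
        show (1 : F) ⊗ₜ[ZMod 2] e ∈ Submodule.span F
          {(1 : F) ⊗ₜ[ZMod 2] (b 0 : E), (1 : F) ⊗ₜ[ZMod 2] (b 1 : E)}
        have hbe := hb ⟨e, he⟩
        simp only at hbe
        rw [hbe, TensorProduct.tmul_add, hsmul, hsmul]
        refine Submodule.add_mem _ (Submodule.smul_mem _ _ (Submodule.subset_span ?_))
          (Submodule.smul_mem _ _ (Submodule.subset_span ?_))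
        · simp
        · simp
      obtain ⟨x, hxQ, v, hv, hxv⟩ := hB _ _ hspan
      refine ⟨x, hxQ, ?_⟩
      by_contra hcon
      have hcon : ∀ e : E, (∀ s ∈ T, ρ s e = e) → ∀ s ∈ T, ρ s (ρ x e) = ρ x e := by
        intro e he
        by_contra h
        exact hcon ⟨e, he, h⟩
      apply hxv
      obtain ⟨a, c, hac⟩ := Submodule.mem_span_pair.mp (hspan v hv)
      rw [← hac, map_add, map_smul, map_smul, bc_tmul, bc_tmul]
      refine Submodule.add_mem _ (Submodule.smul_mem _ _ ?_) (Submodule.smul_mem _ _ ?_)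
      · exact helper81_one_tmul_mem_fix ρ F T _ (hcon (b 0 : E) (b 0).2)
      · exact helper81_one_tmul_mem_fix ρ F T _ (hcon (b 1 : E) (b 1).2)

end Cfsg.Agent.Lib.helper81.WT
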