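import Cfsg.Agent.Lib.helper81.WTE4b
import Cfsg.Agent.Lib.helper50.WTW0
import Cfsg.Agent.Lib.helper50.WTW0b
import Cfsg.Agent.Lib.helper89.WTW1
import Cfsg.Agent.Lib.helper58.WTSV
import Cfsg.Agent.Lib.helper50.WTIND
import Cfsg.Agent.Lib.helper64.WTB1
import Cfsg.Agent.Lib.helper17.WTB3
import Cfsg.Agent.Lib.helper7.WTB4
import Cfsg.Agent.Lib.helper53.WTLA
import Cfsg.Agent.Lib.helper49.WTCNT1
import Cfsg.Agent.Lib.helper95.WTQF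
import Cfsg.Agent.Lib.helper47.WTP1
import Cfsg.Agent.Lib.helper31.WTAcore
import Cfsg.Agent.Lib.helper64.WTBcore
import Cfsg.Agent.Lib.helper57.WTASMVcore
import Cfsg.Agent.Lib.helper73.WTE4acore

/-!
# S4414: final chain (A, B, main_V, main_bc, final) from the landed pieces and cores.
-/

set_option autoImplicit false

namespace Cfsg.Agent.Lib.helper81.WT

open scoped TensorProduct

universe u v w

/-- [A] two T-fixed vectors with supports inside / outside one T-orbit. -/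
theorem helper81_exists_two {S : Type u} [Group S] [Finite S] {F : Type w} [Field F] [Finite F] [CharP F 2]
    {V : Type v} [AddCommGroup V] [Module F V]
    (R : Representation F S V) (Y : Subgroup S) [Y.Normal] [Fintype ↥Y]
    (hYc : ∀ a b : ↥Y, a * b = b * a) [HasEnoughRootsOfUnity F (Monoid.exponent ↥Y)]
    (hodd : Odd (Fintype.card ↥Y))
    [Finite V] [Nontrivial V] (h0 : ∑ y : ↥Y, R (y : S) = 0) (T : Subgroup S) (hT : IsPGroup 2 ↥T)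
    (Q : Subgroup S) (q : ℕ) (hq : q.Prime) (hq2 : q ≠ 2) (hQ : Nat.card ↥Q = q) (hcomm : ⁅Y, Q⁆ = Y) :
    ∃ (μ₀ : ↥Y →* Fˣ) (v₁ v₂ : V), v₁ ≠ 0 ∧ v₂ ≠ 0 ∧ v₁ ∈ fixT R T ∧ v₂ ∈ fixT R T ∧
      supp R Y v₁ ⊆ orb Y T μ₀ ∧ Disjoint (supp R Y v₂) (orb Y T μ₀) :=
  h31_exists_two_core R Y T (weights_nonempty R Y hYc hodd)
    (fun μ₀ hμ₀ => weights_not_orbit R Y h0 T hT Q q hq hq2 hQ hcomm μ₀ hμ₀)
    (fun Θ hΘ μ₀ hμ₀ hμ₀' => exists_fixed_supp R Y hodd T hT Θ hΘ μ₀ hμ₀ hμ₀')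

/-- [B] if the fixed space is at most 2-dimensional it is not Q-invariant. -/
theorem helper81_not_invariant {S : Type u} [Group S] [Finite S] {F : Type w} [Field F] [Finite F] [CharP F 2]
    {V : Type v} [AddCommGroup V] [Module F V]
    (R : Representation F S V) (Y : Subgroup S) [Y.Normal] [Fintype ↥Y]
    (hYc : ∀ a b : ↥Y, a * b = b * a) [HasEnoughRootsOfUnity F (Monoid.exponent ↥Y)]
    (hodd : Odd (Fintype.card ↥Y))
    [Finite V] [Nontrivial V] (h0 : ∑ y : ↥Y, R (y : S) = 0) (T : Subgroup S) (hT : IsPGroup 2 ↥T)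
    (Q : Subgroup S) (q : ℕ) (hq : q.Prime) (hq2 : q ≠ 2) (hQ : Nat.card ↥Q = q) (hcomm : ⁅Y, Q⁆ = Y)
    (w₁ w₂ : V) (hspan : ∀ v ∈ fixT R T, v ∈ Submodule.span F {w₁, w₂}) :
    ∃ x ∈ Q, ∃ v ∈ fixT R T, R x v ∉ fixT R T :=
  helper64_not_invariant_core R Y hYc hodd h0 T Q q hq hq2 hQ hcomm
    (helper81_exists_two R Y hYc hodd h0 T hT Q q hq hq2 hQ hcomm)
    (fun v₁ v₂ h₁ h₂ hd a b h => indep_of_disjoint R Y hYc hodd v₁ v₂ h₁ h₂ hd a b h)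
    (fun v₁ v₂ h₁ h₂ hd g a b hg => image_dichotomy R Y hYc hodd v₁ v₂ h₁ h₂ hd g a b hg)
    (fun μ => card_orb Y T hT μ) w₁ w₂ hspan

/-- [ASMV] V-side main theorem. -/
theorem helper81_main_V {S : Type u} [Group S] [Finite S] {F : Type w} [Field F] [Finite F] [CharP F 2]
    {V : Type v} [AddCommGroup V] [Module F V]
    (R : Representation F S V) (Y : Subgroup S) [Y.Normal] [Fintype ↥Y]
    (hYc : ∀ a b : ↥Y, a * b = b * a) [HasEnoughRootsOfUnity F (Monoid.exponent ↥Y)]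
    (hodd : Odd (Fintype.card ↥Y))
    [Finite V] [Nontrivial V] (h0 : ∑ y : ↥Y, R (y : S) = 0) (T : Subgroup S) (hT : IsPGroup 2 ↥T)
    (Q : Subgroup S) (q : ℕ) (hq : q.Prime) (hq2 : q ≠ 2) (hQ : Nat.card ↥Q = q) (hcomm : ⁅Y, Q⁆ = Y) :
    (¬ ∃ u : V, ∀ v ∈ fixT R T, v ∈ Submodule.span F {u}) ∧
    (∀ w₁ w₂ : V, (∀ v ∈ fixT R T, v ∈ Submodule.span F {w₁, w₂}) →
      ∃ x ∈ Q, ∃ v ∈ fixT R T, R x v ∉ fixT R T) :=
  h57_main_V_core R Y T Q (helper81_exists_two R Y hYc hodd h0 T hT Q q hq hq2 hQ hcomm)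
    (fun v₁ v₂ h₁ h₂ hd a b h => indep_of_disjoint R Y hYc hodd v₁ v₂ h₁ h₂ hd a b h)
    (fun w₁ w₂ hspan => helper81_not_invariant R Y hYc hodd h0 T hT Q q hq hq2 hQ hcomm w₁ w₂ hspan)

/-- [E4a] apply main_V to the base change. -/
theorem helper81_main_bc {S : Type u} [Group S] [Finite S] {E : Type v} [AddCommGroup E] [Module (ZMod 2) E] [Finite E]
    (ρ : Representation (ZMod 2) S E)
    (hE : Nontrivial E)
    (hirr : ∀ N : Submodule (ZMod 2) E, (∀ s : S, ∀ m ∈ N, ρ s m ∈ N) → N = ⊥ ∨ N = ⊤)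
    (p q : ℕ) (hp : p.Prime) (hq : q.Prime) (hp2 : p ≠ 2) (hq2 : q ≠ 2)
    (S₂ : Sylow 2 S) (Sp : Sylow p S) (Sq : Sylow q S)
    (hSpN : (Sp : Subgroup S).Normal) (hSpcard : Nat.card ↥Sp = p ∨ Nat.card ↥Sp = p ^ 2)
    (hSq : Nat.card ↥Sq = q) (hcomm : ⁅(Sp : Subgroup S), (Sq : Subgroup S)⁆ = (Sp : Subgroup S))
    (hfaith : ∀ x ∈ (Sp : Subgroup S), ρ x = 1 → x = 1) :
    ∃ (F : Type) (_ : Field F) (_ : Algebra (ZMod 2) F), Finite F ∧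
      (¬ ∃ u : F ⊗[ZMod 2] E, ∀ v ∈ fixT (bc F ρ) (S₂ : Subgroup S), v ∈ Submodule.span F {u}) ∧
      (∀ w₁ w₂ : F ⊗[ZMod 2] E,
        (∀ v ∈ fixT (bc F ρ) (S₂ : Subgroup S), v ∈ Submodule.span F {w₁, w₂}) →
        ∃ x ∈ (Sq : Subgroup S), ∃ v ∈ fixT (bc F ρ) (S₂ : Subgroup S),
          bc F ρ x v ∉ fixT (bc F ρ) (S₂ : Subgroup S)) :=
  helper73_main_bc_core
    (fun R Y _ _ hYc _ hodd _ _ h0 T hT Q q hq hq2 hQ hcomm =>
      helper81_main_V R Y hYc hodd h0 T hT Q q hq hq2 hQ hcomm)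
    ρ hE hirr p q hp hq hp2 hq2 S₂ Sp Sq hSpN hSpcard hSq hcomm hfaith

/-- [FINAL] the statement of S4414 without the unused hypotheses. -/
theorem final {S : Type u} [Group S] [Finite S] {E : Type v} [AddCommGroup E] [Module (ZMod 2) E] [Finite E]
    (ρ : Representation (ZMod 2) S E)
    (hE : Nontrivial E)
    (hirr : ∀ N : Submodule (ZMod 2) E, (∀ s : S, ∀ m ∈ N, ρ s m ∈ N) → N = ⊥ ∨ N = ⊤)
    (p q : ℕ) (hp : p.Prime) (hq : q.Prime) (hp2 : p ≠ 2) (hq2 : q ≠ 2)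
    (S₂ : Sylow 2 S) (Sp : Sylow p S) (Sq : Sylow q S)
    (hSpN : (Sp : Subgroup S).Normal) (hSpcard : Nat.card ↥Sp = p ∨ Nat.card ↥Sp = p ^ 2)
    (hSq : Nat.card ↥Sq = q) (hcomm : ⁅(Sp : Subgroup S), (Sq : Subgroup S)⁆ = (Sp : Subgroup S))
    (hfaith : ∀ x ∈ (Sp : Subgroup S), ρ x = 1 → x = 1) :
    8 ≤ Nat.card {v : E // ∀ s ∈ (S₂ : Subgroup S), ρ s v = v} ∨
      (Nat.card {v : E // ∀ s ∈ (S₂ : Subgroup S), ρ s v = v} = 4 ∧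
        ∃ x ∈ (Sq : Subgroup S), ∃ v : E, (∀ s ∈ (S₂ : Subgroup S), ρ s v = v) ∧
          ¬ ∀ s ∈ (S₂ : Subgroup S), ρ s (ρ x v) = ρ x v) := by
  obtain ⟨F, _, _, hfin, hA, hB⟩ :=
    helper81_main_bc ρ hE hirr p q hp hq hp2 hq2 S₂ Sp Sq hSpN hSpcard hSq hcomm hfaith
  have := hfin
  exact descend ρ (S₂ : Subgroup S) (Sq : Subgroup S) F hA hB

end Cfsg.Agent.Lib.helper81.WT
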